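import Mathlib
import Cfsg.Prelude.Def_Local

set_option autoImplicit false

/-!
# Subgroups of `p`-soluble groups are `p`-soluble
-/

namespace Cfsg.Agent.Helper69

open Cfsg

/-- For a normal subgroup `N` and `H ≤ K`, the index `|H : H ∩ N|` divides `|K : K ∩ N|`. -/
theorem relIndex_dvd_relIndex_of_normal' {G : Type*} [Group G] (N H K : Subgroup G) [N.Normal]
    (hHK : H ≤ K) : N.relIndex H ∣ N.relIndex K := by
  have h1 : (N.subgroupOf K).relIndex (H.subgroupOf K) ∣ (N.subgroupOf K).index :=
    Subgroup.relIndex_dvd_index_of_normal _ _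
  rw [Subgroup.relIndex_subgroupOf hHK] at h1
  exact h1

/-- Subgroups of `p`-soluble groups are `p`-soluble. -/
theorem IsPSolvable.subgroup' {G : Type*} [Group G] {p : ℕ} [Fact p.Prime]
    (hG : IsPSolvable p G) (B : Subgroup G) : IsPSolvable p ↥B := by
  have hp : p.Prime := Fact.out
  obtain ⟨n, H, h0, hlast, hmono, hnorm, hfac⟩ := hG
  refine ⟨n, fun i => (H i).subgroupOf B, ?_, ?_, ?_, ?_, ?_⟩
  · simp only [h0, Subgroup.bot_subgroupOf]
  · simp only [hlast, Subgroup.top_subgroupOf]
  · intro i j hij
    exact Subgroup.comap_mono (hmono hij)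
  · intro i
    have := hnorm i
    infer_instance
  · intro i
    have hn1 : (H i.castSucc).Normal := hnorm _
    have hle : H i.castSucc ≤ H i.succ := hmono (Fin.castSucc_lt_succ).le
    have key : ((H i.castSucc).subgroupOf B).relIndex ((H i.succ).subgroupOf B) ∣
        (H i.castSucc).relIndex (H i.succ) := by
      have e1 : ((H i.castSucc).subgroupOf B).relIndex ((H i.succ).subgroupOf B) =
          (H i.castSucc).relIndex (H i.succ ⊓ B) := by
        rw [← Subgroup.inf_subgroupOf_right (H i.succ) B,
          Subgroup.relIndex_subgroupOf inf_le_right]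
      rw [e1]
      exact relIndex_dvd_relIndex_of_normal' _ _ _ inf_le_left
    rcases hfac i with ⟨m, hm⟩ | hc
    · left
      rw [hm] at key
      obtain ⟨m', _, hm'⟩ := (Nat.dvd_prime_pow hp).mp key
      exact ⟨m', hm'⟩
    · right
      exact Nat.Coprime.coprime_dvd_left key hc

end Cfsg.Agent.Helper69
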