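import Mathlib
import Cfsg.Agent.Lib.Helper1.Hig.Defs
import Cfsg.Agent.Lib.Helper80.GagSolvA

/-!
# HIG piece (E3b) for helper1's S1138/S5214 server: `|P| = 2 ^ (n k)`.
-/

set_option autoImplicit false

namespace Cfsg.Agent.Helper69.Hig

open Cfsg.Agent.Helper1.Hig

/-- `2 ^ n - 1 ∣ 2 ^ t - 1` forces `n ∣ t`. -/
theorem dvd_of_two_pow_sub_one_dvd {n t : ℕ} (h : 2 ^ n - 1 ∣ 2 ^ t - 1) : n ∣ t := by
  have hg := Nat.pow_sub_one_gcd_pow_sub_one 2 n t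
  rw [Nat.gcd_eq_left h] at hg
  have h1 : 1 ≤ 2 ^ n := Nat.pow_pos (by norm_num)
  have h2 : 1 ≤ 2 ^ Nat.gcd n t := Nat.pow_pos (by norm_num)
  have h3 : 2 ^ n = 2 ^ Nat.gcd n t := by omega
  have h4 : n = Nat.gcd n t := Nat.pow_right_injective (le_refl 2) h3
  rw [h4]
  exact Nat.gcd_dvd_right n t

/-- (E3b) `zpowers ξ` (order `2^n - 1`) acts freely on `P \ 1`, so `2^n - 1 ∣ |P| - 1`,
`|P| = 2^t`, hence `n ∣ t`. -/
theorem card_eq_pow {P : Type*} [Group P] (S : SuzNF P) : ∃ k : ℕ, Nat.card P = 2 ^ (S.n * k) := by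
  haveI := S.fin
  haveI : Fact (Nat.Prime 2) := ⟨Nat.prime_two⟩
  have hN3 : 3 ≤ 2 ^ S.n - 1 := by
    have : 2 ^ 2 ≤ 2 ^ S.n := Nat.pow_le_pow_right (by norm_num) S.hn
    have h4 : (2 : ℕ) ^ 2 = 4 := by norm_num
    omega
  have hcardK : Nat.card (Subgroup.zpowers S.ξ) = 2 ^ S.n - 1 := by
    rw [Nat.card_zpowers, S.order_ξ]
  haveI : Finite (Subgroup.zpowers S.ξ) := Nat.finite_of_card_ne_zero (by rw [hcardK]; omega)
  have hdvd : Nat.card (Subgroup.zpowers S.ξ) ∣ Nat.card P - 1 := by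
    refine Cfsg.Agent.Helper80.GagSolvA.card_dvd_card_sub_one_of_fpf
      (Subgroup.zpowers S.ξ).subtype ?_
    rintro ⟨g, hg⟩ hg1 x hx
    obtain ⟨k, rfl⟩ := Subgroup.mem_zpowers_iff.mp hg
    have hmod := zpow_mod_orderOf S.ξ k
    rw [S.order_ξ] at hmod
    have h0 : 0 ≤ k % ((2 ^ S.n - 1 : ℕ) : ℤ) := Int.emod_nonneg _ (by omega)
    have h1 : k % ((2 ^ S.n - 1 : ℕ) : ℤ) < ((2 ^ S.n - 1 : ℕ) : ℤ) :=
      Int.emod_lt_of_pos _ (by omega)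
    set i := (k % ((2 ^ S.n - 1 : ℕ) : ℤ)).toNat with hi
    have hik : S.ξ ^ i = S.ξ ^ k := by
      rw [← zpow_natCast, hi, Int.toNat_of_nonneg h0]; exact hmod
    have hilt : i < 2 ^ S.n - 1 := by omega
    have hipos : 0 < i := by
      rcases Nat.eq_zero_or_pos i with h | h
      · exfalso
        apply hg1
        apply Subtype.ext
        show S.ξ ^ k = 1
        rw [← hik, h, pow_zero]
      · exact h
    apply S.fpf i hipos hilt x
    rw [hik]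
    exact hx
  rw [hcardK] at hdvd
  obtain ⟨t, ht⟩ := S.two.exists_card_eq
  rw [ht] at hdvd
  obtain ⟨k, hk⟩ := dvd_of_two_pow_sub_one_dvd hdvd
  exact ⟨k, by rw [ht, hk]⟩

end Cfsg.Agent.Helper69.Hig
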