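import Mathlib

set_option autoImplicit false

/-!
# `π`-elements and the `π`-part / `π'`-part decomposition of an element of finite order
-/

namespace Cfsg.Agent.Helper69

open Classical

/-- `x` is a `π`-element: every prime divisor of its order lies in `π`. -/
def IsPiElt {G : Type*} [Monoid G] (π : Set ℕ) (x : G) : Prop :=
  ∀ q : ℕ, q.Prime → q ∣ orderOf x → q ∈ π

section basic

variable {G : Type*} [Group G] (π : Set ℕ)

theorem isPiElt_one : IsPiElt π (1 : G) := by
  intro q hq h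
  rw [orderOf_one, Nat.dvd_one] at h
  exact absurd h hq.ne_one

theorem IsPiElt.of_dvd {H : Type*} [Group H] {π : Set ℕ} {x : G} {y : H} (h : IsPiElt π x)
    (hd : orderOf y ∣ orderOf x) : IsPiElt π y :=
  fun q hq hqy => h q hq (hqy.trans hd)

theorem IsPiElt.map {H : Type*} [Group H] {π : Set ℕ} {x : G} (h : IsPiElt π x) (f : G →* H) :
    IsPiElt π (f x) :=
  h.of_dvd (orderOf_map_dvd f x)

theorem IsPiElt.pow {π : Set ℕ} {x : G} (h : IsPiElt π x) (k : ℕ) : IsPiElt π (x ^ k) :=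
  h.of_dvd (orderOf_pow_dvd k)

theorem IsPiElt.inv {π : Set ℕ} {x : G} (h : IsPiElt π x) : IsPiElt π x⁻¹ :=
  h.of_dvd (by rw [orderOf_inv])

theorem IsPiElt.zpow {π : Set ℕ} {x : G} (h : IsPiElt π x) (k : ℤ) : IsPiElt π (x ^ k) := by
  obtain ⟨n, rfl | rfl⟩ := k.eq_nat_or_neg
  · rw [zpow_natCast]; exact h.pow n
  · rw [zpow_neg, zpow_natCast]; exact (h.pow n).inv

theorem isPiElt_coe_iff {π : Set ℕ} {H : Subgroup G} (x : H) : IsPiElt π (x : G) ↔ IsPiElt π x := by
  unfold IsPiElt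
  rw [Subgroup.orderOf_coe]

theorem isPiElt_of_pow_eq_one {π : Set ℕ} {x : G} {a : ℕ} (ha : ∀ q : ℕ, q.Prime → q ∣ a → q ∈ π)
    (h : x ^ a = 1) : IsPiElt π x :=
  fun q hq hd => ha q hq (hd.trans (orderOf_dvd_of_pow_eq_one h))

/-- an element which is both a `π`-element and a `π'`-element is trivial -/
theorem eq_one_of_isPiElt_compl {x : G} (h1 : IsPiElt π x) (h2 : IsPiElt πᶜ x) : x = 1 := by
  rw [← orderOf_eq_one_iff]
  by_contra hne
  obtain ⟨q, hq, hd⟩ := Nat.exists_prime_and_dvd hne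
  exact h2 q hq hd (h1 q hq hd)

/-- product of commuting `π`-elements of finite order -/
theorem IsPiElt.mul {π : Set ℕ} {x y : G} (hx : IsPiElt π x) (hy : IsPiElt π y) (hc : Commute x y)
    (hx0 : orderOf x ≠ 0) (hy0 : orderOf y ≠ 0) : IsPiElt π (x * y) := by
  intro q hq hd
  have h1 : orderOf (x * y) ∣ orderOf x * orderOf y := by
    apply orderOf_dvd_of_pow_eq_one
    rw [hc.mul_pow, pow_mul, pow_orderOf_eq_one, one_pow, mul_comm (orderOf x), pow_mul,
      pow_orderOf_eq_one, one_pow, one_mul]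
  rcases (hq.dvd_mul).mp (hd.trans h1) with h | h
  · exact hx q hq h
  · exact hy q hq h

end basic

section numbers

/-- the `π`-part of a natural number -/
noncomputable def piNat (π : Set ℕ) (n : ℕ) : ℕ :=
  ∏ p ∈ n.primeFactors with p ∈ π, p ^ n.factorization p

theorem piNat_mul_compl (π : Set ℕ) {n : ℕ} (hn : n ≠ 0) : piNat π n * piNat πᶜ n = n := by
  unfold piNat
  have : ∀ p, p ∈ πᶜ ↔ ¬ p ∈ π := fun p => Iff.rfl
  simp only [this]
  rw [Finset.prod_filter_mul_prod_filter_not]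
  exact Nat.prod_factorization_pow_eq_self hn

theorem prime_mem_of_dvd_piNat (π : Set ℕ) (n : ℕ) (q : ℕ) (hq : q.Prime) (hd : q ∣ piNat π n) :
    q ∈ π := by
  unfold piNat at hd
  rw [Prime.dvd_finsetProd_iff hq.prime] at hd
  obtain ⟨r, hr, hqr⟩ := hd
  rw [Finset.mem_filter] at hr
  have hrp : r.Prime := Nat.prime_of_mem_primeFactors hr.1
  have := (Nat.prime_dvd_prime_iff_eq hq hrp).1 (hq.dvd_of_dvd_pow hqr)
  rw [this]; exact hr.2

theorem piNat_coprime (π : Set ℕ) (n : ℕ) : (piNat π n).Coprime (piNat πᶜ n) :=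
  Nat.coprime_of_dvd fun q hq h1 h2 =>
    (prime_mem_of_dvd_piNat πᶜ n q hq h2) (prime_mem_of_dvd_piNat π n q hq h1)

end numbers

section parts

variable {G : Type*} [Group G] (π : Set ℕ)

/-- the `π`-part of an element -/
noncomputable def piPart (g : G) : G :=
  g ^ ((piNat πᶜ (orderOf g) : ℤ) * Nat.gcdB (piNat π (orderOf g)) (piNat πᶜ (orderOf g)))

/-- the `π'`-part of an element -/
noncomputable def piPart' (g : G) : G :=
  g ^ ((piNat π (orderOf g) : ℤ) * Nat.gcdA (piNat π (orderOf g)) (piNat πᶜ (orderOf g)))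

theorem piPart_mem_zpowers (g : G) : piPart π g ∈ Subgroup.zpowers g :=
  Subgroup.zpow_mem_zpowers g _

theorem piPart'_mem_zpowers (g : G) : piPart' π g ∈ Subgroup.zpowers g :=
  Subgroup.zpow_mem_zpowers g _

theorem piPart_mul_piPart' (g : G) : piPart π g * piPart' π g = g := by
  unfold piPart piPart'
  rw [← zpow_add]
  have h := Nat.gcd_eq_gcd_ab (piNat π (orderOf g)) (piNat πᶜ (orderOf g))
  rw [(piNat_coprime π (orderOf g))] at h
  have : ((piNat πᶜ (orderOf g) : ℤ) * Nat.gcdB (piNat π (orderOf g)) (piNat πᶜ (orderOf g)) +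
      (piNat π (orderOf g) : ℤ) * Nat.gcdA (piNat π (orderOf g)) (piNat πᶜ (orderOf g))) = 1 := by
    rw [add_comm]; exact_mod_cast h.symm
  rw [this, zpow_one]

theorem commute_piPart_piPart' (g : G) : Commute (piPart π g) (piPart' π g) :=
  (Commute.refl g).zpow_zpow _ _

theorem piPart_pow (g : G) (hg : orderOf g ≠ 0) : piPart π g ^ piNat π (orderOf g) = 1 := by
  unfold piPart
  rw [← zpow_natCast, ← zpow_mul]
  have : ((piNat πᶜ (orderOf g) : ℤ) * Nat.gcdB (piNat π (orderOf g)) (piNat πᶜ (orderOf g))) *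
      (piNat π (orderOf g) : ℤ) = (orderOf g : ℤ) *
      Nat.gcdB (piNat π (orderOf g)) (piNat πᶜ (orderOf g)) := by
    have h := piNat_mul_compl π hg
    have h' : ((piNat π (orderOf g) : ℤ)) * (piNat πᶜ (orderOf g) : ℤ) = (orderOf g : ℤ) := by
      exact_mod_cast h
    rw [← h']; ring
  rw [this, zpow_mul, zpow_natCast, pow_orderOf_eq_one, one_zpow]

theorem piPart'_pow (g : G) (hg : orderOf g ≠ 0) : piPart' π g ^ piNat πᶜ (orderOf g) = 1 := by
  unfold piPart'
  rw [← zpow_natCast, ← zpow_mul]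
  have : ((piNat π (orderOf g) : ℤ) * Nat.gcdA (piNat π (orderOf g)) (piNat πᶜ (orderOf g))) *
      (piNat πᶜ (orderOf g) : ℤ) = (orderOf g : ℤ) *
      Nat.gcdA (piNat π (orderOf g)) (piNat πᶜ (orderOf g)) := by
    have h := piNat_mul_compl π hg
    have h' : ((piNat π (orderOf g) : ℤ)) * (piNat πᶜ (orderOf g) : ℤ) = (orderOf g : ℤ) := by
      exact_mod_cast h
    rw [← h']; ring
  rw [this, zpow_mul, zpow_natCast, pow_orderOf_eq_one, one_zpow]

theorem isPiElt_piPart (g : G) (hg : orderOf g ≠ 0) : IsPiElt π (piPart π g) :=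
  isPiElt_of_pow_eq_one (prime_mem_of_dvd_piNat π _) (piPart_pow π g hg)

theorem isPiElt_piPart' (g : G) (hg : orderOf g ≠ 0) : IsPiElt πᶜ (piPart' π g) :=
  isPiElt_of_pow_eq_one (prime_mem_of_dvd_piNat πᶜ _) (piPart'_pow π g hg)

/-- uniqueness of the decomposition -/
theorem parts_unique {x w : G} (hc : Commute x w) (hx : IsPiElt π x) (hw : IsPiElt πᶜ w)
    (hx0 : orderOf x ≠ 0) (hw0 : orderOf w ≠ 0) :
    piPart π (x * w) = x ∧ piPart' π (x * w) = w := by
  set g := x * w with hgdef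
  have hg0 : orderOf g ≠ 0 := by
    intro h
    have h1 : g ^ (orderOf x * orderOf w) = 1 := by
      rw [hgdef, hc.mul_pow, pow_mul, pow_orderOf_eq_one, one_pow, mul_comm (orderOf x), pow_mul,
        pow_orderOf_eq_one, one_pow, one_mul]
    have := orderOf_dvd_of_pow_eq_one h1
    rw [h, zero_dvd_iff] at this
    exact (Nat.mul_ne_zero hx0 hw0) this
  set n := orderOf g with hn
  set a := piNat π n with ha
  set b := piNat πᶜ n with hb
  have hab : a * b = n := piNat_mul_compl π hg0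
  -- x ^ n = 1 and w ^ n = 1
  have hxn : x ^ n = 1 := by
    have h1 : x ^ n * w ^ n = 1 := by rw [← hc.mul_pow, ← hgdef, hn, pow_orderOf_eq_one]
    have h2 : x ^ n = (w ^ n)⁻¹ := eq_inv_of_mul_eq_one_left h1
    apply eq_one_of_isPiElt_compl π (hx.pow n)
    rw [h2]
    exact (hw.pow n).inv
  have hwn : w ^ n = 1 := by
    have h1 : x ^ n * w ^ n = 1 := by rw [← hc.mul_pow, ← hgdef, hn, pow_orderOf_eq_one]
    rw [hxn, one_mul] at h1
    exact h1
  have hxa : x ^ a = 1 := by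
    have h1 : orderOf x ∣ a * b := hab ▸ orderOf_dvd_of_pow_eq_one hxn
    have h2 : (orderOf x).Coprime b := by
      apply Nat.coprime_of_dvd
      intro q hq h3 h4
      exact (prime_mem_of_dvd_piNat πᶜ n q hq h4) (hx q hq h3)
    have := h2.dvd_of_dvd_mul_right h1
    exact orderOf_dvd_iff_pow_eq_one.mp this
  have hwb : w ^ b = 1 := by
    have h1 : orderOf w ∣ a * b := hab ▸ orderOf_dvd_of_pow_eq_one hwn
    have h2 : (orderOf w).Coprime a := by
      apply Nat.coprime_of_dvd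
      intro q hq h3 h4
      exact (hw q hq h3) (prime_mem_of_dvd_piNat π n q hq h4)
    have := h2.dvd_of_dvd_mul_left h1
    exact orderOf_dvd_iff_pow_eq_one.mp this
  have hbez : (a : ℤ) * Nat.gcdA a b + (b : ℤ) * Nat.gcdB a b = 1 := by
    have h := Nat.gcd_eq_gcd_ab a b
    rw [ha, hb, (piNat_coprime π n)] at h
    rw [ha, hb]
    exact_mod_cast h.symm
  constructor
  · show g ^ ((b : ℤ) * Nat.gcdB a b) = x
    rw [hgdef, hc.mul_zpow, zpow_mul w, zpow_natCast, hwb, one_zpow, mul_one]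
    have : (b : ℤ) * Nat.gcdB a b = 1 - (a : ℤ) * Nat.gcdA a b := by linarith
    rw [this, zpow_sub, zpow_one, zpow_mul, zpow_natCast, hxa, one_zpow, inv_one, mul_one]
  · show g ^ ((a : ℤ) * Nat.gcdA a b) = w
    rw [hgdef, hc.mul_zpow, zpow_mul x, zpow_natCast, hxa, one_zpow, one_mul]
    have : (a : ℤ) * Nat.gcdA a b = 1 - (b : ℤ) * Nat.gcdB a b := by linarith
    rw [this, zpow_sub, zpow_one, zpow_mul, zpow_natCast, hwb, one_zpow, inv_one, mul_one]

end parts

end Cfsg.Agent.Helper69
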