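import Mathlib
import Cfsg.Agent.Lib.Helper3.S4017DDefs

/-!
# S4017D (helper3 server): auxiliary facts from `CaseD` used by my pieces (L2)-(L5).
-/

set_option autoImplicit false

namespace Cfsg.Agent.Helper69.S4017D

open Cfsg.Agent.Helper3.S4017

variable {G : Type*} [Group G] [Finite G]

variable {Q P : Subgroup G} {t : G} {w : ℕ}

omit [Finite G] in
/-- `Q` has exponent 2, hence is abelian -/
theorem aux_Q_comm (h : CaseD G Q P t w) (a b : G) (ha : a ∈ Q) (hb : b ∈ Q) : a * b = b * a := by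
  have h1 := h.elem a ha
  have h2 := h.elem b hb
  have h3 := h.elem (a * b) (Q.mul_mem ha hb)
  have ha' : a⁻¹ = a := inv_eq_of_mul_eq_one_right h1
  have hb' : b⁻¹ = b := inv_eq_of_mul_eq_one_right h2
  have h4 : (a * b)⁻¹ = a * b := inv_eq_of_mul_eq_one_right h3
  rw [mul_inv_rev, ha', hb'] at h4
  exact h4.symm

omit [Finite G] in
theorem aux_inv_Q (h : CaseD G Q P t w) (a : G) (ha : a ∈ Q) : a⁻¹ = a :=
  inv_eq_of_mul_eq_one_right (h.elem a ha)

/-- `P ∩ Q = 1` -/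
theorem aux_inf (h : CaseD G Q P t w) (g : G) (hP : g ∈ P) (hQ : g ∈ Q) : g = 1 := by
  have hcop : Nat.Coprime (Nat.card P) (Nat.card Q) := by
    rw [h.card_P, h.card_Q]
    have : (4 : ℕ) = 2 ^ 2 := by norm_num
    rw [this]
    exact Nat.Coprime.pow _ _ (by norm_num)
  have hbot := Subgroup.inf_eq_bot_of_coprime hcop
  have : g ∈ P ⊓ Q := ⟨hP, hQ⟩
  rw [hbot, Subgroup.mem_bot] at this
  exact this

/-- an element of `P` with `y * y = 1` is trivial -/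
theorem aux_P_sq (h : CaseD G Q P t w) (y : G) (hy : y ∈ P) (h2 : y * y = 1) : y = 1 := by
  have hd : orderOf y ∣ 3 ^ w := by
    have := Subgroup.orderOf_dvd_natCard P hy
    rwa [h.card_P] at this
  have hd2 : orderOf y ∣ 2 := orderOf_dvd_of_pow_eq_one (by rw [pow_two]; exact h2)
  have hcop : Nat.Coprime 2 (3 ^ w) := Nat.Coprime.pow_right _ (by norm_num)
  have h1 : orderOf y ∣ Nat.gcd 2 (3 ^ w) := Nat.dvd_gcd hd2 hd
  rw [hcop] at h1
  exact orderOf_eq_one_iff.mp (Nat.dvd_one.mp h1)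

/-- uniqueness of the decomposition `y * q` -/
theorem aux_decomp_unique (h : CaseD G Q P t w) {y y' q q' : G} (hy : y ∈ P) (hy' : y' ∈ P)
    (hq : q ∈ Q) (hq' : q' ∈ Q) (he : y * q = y' * q') : y = y' ∧ q = q' := by
  have h1 : y'⁻¹ * y = q' * q⁻¹ := by
    have : y'⁻¹ * (y * q) * q⁻¹ = y'⁻¹ * (y' * q') * q⁻¹ := by rw [he]
    calc y'⁻¹ * y = y'⁻¹ * (y * q) * q⁻¹ := by group
      _ = y'⁻¹ * (y' * q') * q⁻¹ := this
      _ = q' * q⁻¹ := by group
  have hP : y'⁻¹ * y ∈ P := P.mul_mem (P.inv_mem hy') hy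
  have hQ : y'⁻¹ * y ∈ Q := by rw [h1]; exact Q.mul_mem hq' (Q.inv_mem hq)
  have h2 := aux_inf h _ hP hQ
  have hyy : y = y' := by
    have := inv_mul_eq_one.mp h2
    exact this.symm
  refine ⟨hyy, ?_⟩
  subst hyy
  exact mul_left_cancel he

/-- (L1, local copy) `C_G(t) = P Q` -/
theorem aux_mem_PQ (h : CaseD G Q P t w) (g : G) (hg : g * t = t * g) : ∃ y ∈ P, ∃ q ∈ Q, g = y * q := by
  let f : ↥P × ↥Q → ↥(Subgroup.centralizer ({t} : Set G)) := fun x =>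
    ⟨(x.1 : G) * (x.2 : G), by
      rw [Subgroup.mem_centralizer_singleton_iff, mul_assoc, aux_Q_comm h _ _ x.2.2 h.t_mem,
        ← mul_assoc, h.P_cent _ x.1.2, mul_assoc]⟩
  have hinj : Function.Injective f := by
    rintro ⟨⟨y, hy⟩, ⟨q, hq⟩⟩ ⟨⟨y', hy'⟩, ⟨q', hq'⟩⟩ he
    have he' : y * q = y' * q' := congrArg Subtype.val he
    obtain ⟨rfl, rfl⟩ := aux_decomp_unique h hy hy' hq hq' he'
    rfl
  have hcard : Nat.card ↥(Subgroup.centralizer ({t} : Set G)) ≤ Nat.card (↥P × ↥Q) := by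
    rw [Nat.card_prod, h.card_P, h.card_Q, h.card_Ct, mul_comm]
  have hbij := hinj.bijective_of_nat_card_le hcard
  obtain ⟨⟨⟨y, hy⟩, ⟨q, hq⟩⟩, he⟩ := hbij.2 ⟨g, Subgroup.mem_centralizer_singleton_iff.mpr hg⟩
  exact ⟨y, hy, q, hq, (congrArg Subtype.val he).symm⟩

end Cfsg.Agent.Helper69.S4017D
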