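import Mathlib
import Cfsg.Agent.Lib.Helper3.S4017DDefs
import Cfsg.Agent.Lib.Helper69.S4017DAux

/-!
# S4017D piece (L2) for helper3's server: the involutions of `C_G(t)` other than `t`.
-/

set_option autoImplicit false

namespace Cfsg.Agent.Helper69.S4017D

open Cfsg.Agent.Helper3.S4017

variable {G : Type*} [Group G] [Finite G]

variable {Q P : Subgroup G} {t : G} {w : ℕ}

/-- (L2) -/
theorem invol_Ct_iff (h : CaseD G Q P t w) (v : G) :
    (orderOf v = 2 ∧ v ≠ t ∧ Commute v t) ↔ ∃ y ∈ P, ∃ s ∈ Q, s ≠ 1 ∧ s ≠ t ∧ v = y * s := by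
  have htt : t * t = 1 := h.elem t h.t_mem
  constructor
  · rintro ⟨hv2, hvt, hc⟩
    have hvv : v * v = 1 := by
      have := pow_orderOf_eq_one v
      rwa [hv2, pow_two] at this
    have hv1 : v ≠ 1 := by
      rintro rfl
      rw [orderOf_one] at hv2
      omega
    obtain ⟨y, hy, q, hq, rfl⟩ := aux_mem_PQ h v hc.eq
    refine ⟨y, hy, q, hq, ?_, ?_, rfl⟩
    · rintro rfl
      rw [mul_one] at hvv hv1
      exact hv1 (aux_P_sq h y hy hvv)
    · rintro rfl
      -- `(y t)(y t) = y y`
      have h1 : y * q * (y * q) = y * y := by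
        have hyt : y * q = q * y := h.P_cent y hy
        calc y * q * (y * q) = y * (q * y) * q := by group
          _ = y * (y * q) * q := by rw [hyt]
          _ = y * y * (q * q) := by group
          _ = y * y := by rw [htt, mul_one]
      rw [h1] at hvv
      have hy1 := aux_P_sq h y hy hvv
      subst hy1
      rw [one_mul] at hvt
      exact hvt rfl
  · rintro ⟨y, hy, s, hs, hs1, hst, rfl⟩
    have hss : s * s = 1 := h.elem s hs
    have hsinv : s⁻¹ = s := aux_inv_Q h s hs
    have hinv := h.P_inv s hs hs1 hst y hy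
    have hvv : y * s * (y * s) = 1 := by
      calc y * s * (y * s) = y * (s * y * s⁻¹) * (s * s) := by group
        _ = 1 := by rw [hinv, hss, mul_one, mul_inv_cancel]
    have hv1 : y * s ≠ 1 := by
      intro h1
      have hsy : s = y⁻¹ := by
        have := mul_eq_one_iff_eq_inv.mp h1
        rw [this, inv_inv]
      exact hs1 (aux_inf h s (hsy ▸ P.inv_mem hy) hs)
    refine ⟨?_, ?_, ?_⟩
    · exact orderOf_eq_prime (by rw [pow_two]; exact hvv) hv1
    · intro h1
      have hyQ : y ∈ Q := by
        have : y = t * s⁻¹ := by rw [← h1]; group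
        rw [this]
        exact Q.mul_mem h.t_mem (Q.inv_mem hs)
      have hy1 := aux_inf h y hy hyQ
      subst hy1
      rw [one_mul] at h1
      exact hst h1
    · show y * s * t = t * (y * s)
      rw [mul_assoc, aux_Q_comm h s t hs h.t_mem, ← mul_assoc, h.P_cent y hy, mul_assoc]

end Cfsg.Agent.Helper69.S4017D
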