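import Mathlib
import Cfsg.Agent.Lib.Helper12.SUOT0

/-!
# SUOT (S2282, helper12 sub-server), piece T5 in hypothesis-explicit form:
`u` on the hyperbolic basis from the key relation `u (z + al^q N z) = z + al N z` and `N b_j = b_(j-1)`.
-/

set_option autoImplicit false

namespace Cfsg.Agent.Helper69.SUOT

open Matrix Cfsg Cfsg.Agent.Helper13 Cfsg.Agent.Helper87.PsuA Cfsg.Agent.Helper12.SUOT

variable {F : Type*} [Field F] [Fintype F] {q n : ℕ}

section core

variable {b : Fin n → Fin n → F} (al : F)
  (hz : ∀ j : Fin n, j.val = 0 → Nm q b *ᵥ b j = 0)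
  (hs : ∀ i j : Fin n, i.val + 1 = j.val → Nm q b *ᵥ b j = b i)
  (hkey : ∀ z : Fin n → F,
    actv (uEl q b al) (z + al ^ q • (Nm q b *ᵥ z)) = z + al • (Nm q b *ᵥ z))

include hz hkey in
theorem h69_b_zero (j : Fin n) (hj : j.val = 0) : actv (uEl q b al) (b j) = b j := by
  have h := hkey (b j)
  rw [hz j hj, smul_zero, smul_zero, add_zero] at h
  exact h

include hs hkey in
theorem h69_b_succ (i j : Fin n) (hij : i.val + 1 = j.val) :
    actv (uEl q b al) (b j) = b j + al • b i - al ^ q • actv (uEl q b al) (b i) := by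
  have h := hkey (b j)
  rw [hs i j hij, actv_add, actv_smul] at h
  rw [← h]
  abel

include hz hs hkey in
theorem h69_b_one (i j : Fin n) (hi : i.val = 0) (hj : j.val = 1) :
    actv (uEl q b al) (b j) = b j + (al - al ^ q) • b i := by
  rw [h69_b_succ al hs hkey i j (by omega), h69_b_zero al hz hkey i hi, sub_smul]
  abel

include hz hs hkey in
theorem h69_low (hF : Fintype.card F = q ^ 2) (hb : HB q b) :
    ∀ i j : Fin n, j ≤ i → co q b (actv (uEl q b al) (b j)) i = if i = j then 1 else 0 := by
  have key : ∀ k : ℕ, ∀ i j : Fin n, j.val = k → j ≤ i →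
      co q b (actv (uEl q b al) (b j)) i = if i = j then 1 else 0 := by
    intro k
    induction k with
    | zero =>
      intro i j hj _
      rw [h69_b_zero al hz hkey j hj, co_b hb]
    | succ k ih =>
      intro i j hj hji
      have hlt : k < n := by have := j.isLt; omega
      have hij' : (⟨k, hlt⟩ : Fin n).val + 1 = j.val := by simp only; omega
      rw [h69_b_succ al hs hkey ⟨k, hlt⟩ j hij', co_sub hF, co_add, co_smul, co_smul, co_b hb,
        co_b hb]
      have hle : (⟨k, hlt⟩ : Fin n) ≤ i := by
        rw [Fin.le_def] at hji ⊢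
        simp only
        omega
      rw [ih i ⟨k, hlt⟩ rfl hle]
      have hne : i ≠ (⟨k, hlt⟩ : Fin n) := by
        intro h0
        rw [h0, Fin.le_def] at hji
        simp only at hji
        omega
      rw [if_neg hne]
      ring
  intro i j hji
  exact key j.val i j rfl hji

include hz hs hkey in
theorem h69_sup (hF : Fintype.card F = q ^ 2) (hb : HB q b) :
    ∀ i j : Fin n, i.val + 1 = j.val →
      co q b (actv (uEl q b al) (b j)) i = al - al ^ q := by
  intro i j hij
  rw [h69_b_succ al hs hkey i j hij, co_sub hF, co_add, co_smul, co_smul, co_b hb, co_b hb,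
    h69_low al hz hs hkey hF hb i i le_rfl]
  have hne : i ≠ j := by
    intro h0
    rw [h0] at hij
    omega
  rw [if_neg hne, if_pos rfl]
  ring

end core

end Cfsg.Agent.Helper69.SUOT
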