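import Mathlib
import Cfsg.Agent.Lib.Helper3.S4017DDefs
import Cfsg.Agent.Lib.Helper69.S4017DAux
import Cfsg.Agent.Lib.Helper69.S4017DL2

/-!
# S4017D piece (L3) for helper3's server: `t` has exactly `2 * 3 ^ w` neighbours.
-/

set_option autoImplicit false

namespace Cfsg.Agent.Helper69.S4017D

open Cfsg.Agent.Helper3.S4017

variable {G : Type*} [Group G] [Finite G]

variable {Q P : Subgroup G} {t : G} {w : ℕ}

/-- (L3) -/
theorem card_nbr_t (h : CaseD G Q P t w) :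
    Nat.card {v : G // orderOf v = 2 ∧ v ≠ t ∧ Commute v t} = 2 * 3 ^ w := by
  let f : ↥P × {s : G // s ∈ Q ∧ s ≠ 1 ∧ s ≠ t} → {v : G // orderOf v = 2 ∧ v ≠ t ∧ Commute v t} :=
    fun x => ⟨(x.1 : G) * (x.2 : G),
      (invol_Ct_iff h _).mpr ⟨x.1, x.1.2, x.2, x.2.2.1, x.2.2.2.1, x.2.2.2.2, rfl⟩⟩
  have hinj : Function.Injective f := by
    rintro ⟨⟨y, hy⟩, ⟨s, hs, hs1, hst⟩⟩ ⟨⟨y', hy'⟩, ⟨s', hs', hs1', hst'⟩⟩ he
    have he' : y * s = y' * s' := congrArg Subtype.val he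
    obtain ⟨rfl, rfl⟩ := aux_decomp_unique h hy hy' hs hs' he'
    rfl
  have hsurj : Function.Surjective f := by
    rintro ⟨v, hv⟩
    obtain ⟨y, hy, s, hs, hs1, hst, rfl⟩ := (invol_Ct_iff h v).mp hv
    exact ⟨⟨⟨y, hy⟩, ⟨s, hs, hs1, hst⟩⟩, rfl⟩
  have h2 : Nat.card {s : G // s ∈ Q ∧ s ≠ 1 ∧ s ≠ t} = 2 := by
    have hset : {s : G | s ∈ Q ∧ s ≠ 1 ∧ s ≠ t} = (Q : Set G) \ {1, t} := by
      ext s
      simp only [Set.mem_ofPred_eq, Set.mem_sdiff, SetLike.mem_coe, Set.mem_insert_iff,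
        Set.mem_singleton_iff, not_or]
    have h3 : Nat.card {s : G // s ∈ Q ∧ s ≠ 1 ∧ s ≠ t} = ((Q : Set G) \ {1, t}).ncard := by
      rw [← hset]
      rfl
    have hsub : ({1, t} : Set G) ⊆ (Q : Set G) := by
      intro x hx
      rcases hx with rfl | rfl
      · exact Q.one_mem
      · exact h.t_mem
    have hQ : (Q : Set G).ncard = 4 := by
      rw [← Nat.card_coe_set_eq]
      exact h.card_Q
    rw [h3, Set.ncard_sdiff hsub, Set.ncard_pair h.t_ne.symm, hQ]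
  rw [← Nat.card_congr (Equiv.ofBijective f ⟨hinj, hsurj⟩), Nat.card_prod, h.card_P, h2, mul_comm]

end Cfsg.Agent.Helper69.S4017D
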