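import Mathlib
import Cfsg.Agent.Lib.Helper3.S4017DDefs
import Cfsg.Agent.Lib.Helper69.S4017DL3

/-!
# S4017D piece (L4) for helper3's server: every involution has exactly `2 * 3 ^ w` neighbours.
-/

set_option autoImplicit false

namespace Cfsg.Agent.Helper69.S4017D

open Cfsg.Agent.Helper3.S4017

variable {G : Type*} [Group G] [Finite G]

variable {Q P : Subgroup G} {t : G} {w : ℕ}

/-- (L4) -/
theorem card_nbr (h : CaseD G Q P t w) (z : G) (hz : orderOf z = 2) :
    Nat.card {v : G // orderOf v = 2 ∧ v ≠ z ∧ Commute v z} = 2 * 3 ^ w := by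
  obtain ⟨g, rfl⟩ := h.conj z hz
  rw [← card_nbr_t h]
  symm
  refine Nat.card_congr (Equiv.subtypeEquiv (MulAut.conj g).toEquiv ?_)
  intro v
  show (orderOf v = 2 ∧ v ≠ t ∧ Commute v t) ↔
    (orderOf (MulAut.conj g v) = 2 ∧ MulAut.conj g v ≠ g * t * g⁻¹ ∧
      Commute (MulAut.conj g v) (g * t * g⁻¹))
  rw [MulEquiv.orderOf_eq, MulAut.conj_apply]
  refine and_congr Iff.rfl (and_congr ?_ ?_)
  · constructor
    · intro hne he
      apply hne
      have : g⁻¹ * (g * v * g⁻¹) * g = g⁻¹ * (g * t * g⁻¹) * g := by rw [he]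
      calc v = g⁻¹ * (g * v * g⁻¹) * g := by group
        _ = g⁻¹ * (g * t * g⁻¹) * g := this
        _ = t := by group
    · intro hne he
      exact hne (by rw [he])
  · constructor
    · intro hc
      show g * v * g⁻¹ * (g * t * g⁻¹) = g * t * g⁻¹ * (g * v * g⁻¹)
      calc g * v * g⁻¹ * (g * t * g⁻¹) = g * (v * t) * g⁻¹ := by group
        _ = g * (t * v) * g⁻¹ := by rw [hc.eq]
        _ = g * t * g⁻¹ * (g * v * g⁻¹) := by group
    · intro hc
      have hc' : g * v * g⁻¹ * (g * t * g⁻¹) = g * t * g⁻¹ * (g * v * g⁻¹) := hc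
      show v * t = t * v
      calc v * t = g⁻¹ * (g * v * g⁻¹ * (g * t * g⁻¹)) * g := by group
        _ = g⁻¹ * (g * t * g⁻¹ * (g * v * g⁻¹)) * g := by rw [hc']
        _ = t * v := by group

end Cfsg.Agent.Helper69.S4017D
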