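import Mathlib
import Cfsg.Agent.Lib.Helper64.S4017Defs

/-!
# S4017M piece (D4a) for helper64's server, core: with (PGN) as a hypothesis.
-/

set_option autoImplicit false

namespace Cfsg.Agent.Helper69.S4017M

open Cfsg.Agent.Helper64.S4017

variable {G : Type*} [Group G] [Finite G] {a p : ℕ} {Q : Subgroup G} {x : G}

omit [Finite G] in
theorem d4a_isPel_one : IsPel p (1 : G) := ⟨0, by rw [orderOf_one, pow_zero]⟩

omit [Finite G] in
theorem d4a_isPel_inv {z : G} (hz : IsPel p z) : IsPel p z⁻¹ := by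
  obtain ⟨j, hj⟩ := hz
  exact ⟨j, by rw [orderOf_inv, hj]⟩

omit [Finite G] in
theorem d4a_isPel_conj (c : G) {z : G} (hz : IsPel p z) : IsPel p (c * z * c⁻¹) := by
  obtain ⟨j, hj⟩ := hz
  refine ⟨j, ?_⟩
  have h1 := MulEquiv.orderOf_eq (MulAut.conj c) z
  rw [MulAut.conj_apply] at h1
  rw [h1, hj]

omit [Finite G] in
theorem d4a_isPel_mul (hp : p.Prime) {y z : G} (hy : IsPel p y) (hz : IsPel p z)
    (hc : Commute y z) : IsPel p (y * z) := by
  obtain ⟨i, hi⟩ := hy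
  obtain ⟨j, hj⟩ := hz
  have h1 : orderOf (y * z) ∣ Nat.lcm (orderOf y) (orderOf z) := hc.orderOf_mul_dvd_lcm
  have h2 : Nat.lcm (orderOf y) (orderOf z) ∣ p ^ (max i j) := by
    apply Nat.lcm_dvd
    · rw [hi]; exact pow_dvd_pow p (le_max_left i j)
    · rw [hj]; exact pow_dvd_pow p (le_max_right i j)
  obtain ⟨k, _, hk⟩ := (Nat.dvd_prime_pow hp).mp (h1.trans h2)
  exact ⟨k, hk⟩

omit [Finite G] in
/-- in a subgroup generated by pairwise commuting `p`-elements every element is a `p`-element -/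
theorem d4a_closure_isPel (hp : p.Prime) (S : Set G) (hS : ∀ y ∈ S, IsPel p y)
    (hcomm : ∀ y ∈ S, ∀ z ∈ S, y * z = z * y) :
    ∀ e ∈ Subgroup.closure S, IsPel p e := by
  letI := Subgroup.closureCommGroupOfComm hcomm
  have hab : ∀ y ∈ Subgroup.closure S, ∀ z ∈ Subgroup.closure S, y * z = z * y := by
    intro y hy z hz
    have := mul_comm (⟨y, hy⟩ : Subgroup.closure S) ⟨z, hz⟩
    exact congrArg Subtype.val this
  intro e he
  induction he using Subgroup.closure_induction with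
  | mem y hy => exact hS y hy
  | one => exact d4a_isPel_one
  | mul y z hy hz ihy ihz => exact d4a_isPel_mul hp ihy ihz (hab y hy z hz)
  | inv y _ ihy => exact d4a_isPel_inv ihy

omit [Finite G] in
/-- a set stable under conjugation by `c` generates a subgroup stable under conjugation by `c` -/
theorem d4a_closure_conj (S : Set G) (c : G) (hS : ∀ y ∈ S, c * y * c⁻¹ ∈ S) :
    ∀ e ∈ Subgroup.closure S, c * e * c⁻¹ ∈ Subgroup.closure S := by
  intro e he
  induction he using Subgroup.closure_induction with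
  | mem y hy => exact Subgroup.subset_closure (hS y hy)
  | one => rw [mul_one, mul_inv_cancel]; exact Subgroup.one_mem _
  | mul y z _ _ ihy ihz =>
    have : c * (y * z) * c⁻¹ = (c * y * c⁻¹) * (c * z * c⁻¹) := by group
    rw [this]
    exact Subgroup.mul_mem _ ihy ihz
  | inv y _ ihy =>
    have : c * y⁻¹ * c⁻¹ = (c * y * c⁻¹)⁻¹ := by group
    rw [this]
    exact Subgroup.inv_mem _ ihy

omit [Finite G] in
theorem d4a_transport (c r r' : G) (hr : c * r * c⁻¹ = r') {z : G} (hz : z * r' = r' * z) :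
    (c⁻¹ * z * c) * r = r * (c⁻¹ * z * c) := by
  subst hr
  calc c⁻¹ * z * c * r = c⁻¹ * (z * (c * r * c⁻¹)) * c := by group
    _ = c⁻¹ * ((c * r * c⁻¹) * z) * c := by rw [hz]
    _ = r * (c⁻¹ * z * c) := by group

omit [Finite G] in
theorem d4a_comm_of_conj (c z1 z2 : G)
    (h : (c⁻¹ * z1 * c) * (c⁻¹ * z2 * c) = (c⁻¹ * z2 * c) * (c⁻¹ * z1 * c)) :
    z1 * z2 = z2 * z1 := by
  calc z1 * z2 = c * ((c⁻¹ * z1 * c) * (c⁻¹ * z2 * c)) * c⁻¹ := by group
    _ = c * ((c⁻¹ * z2 * c) * (c⁻¹ * z1 * c)) * c⁻¹ := by rw [h]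
    _ = z2 * z1 := by group

omit [Finite G] in
theorem d4a_conj_comm (c y r : G) (h : y * r = r * y) :
    (c * y * c⁻¹) * (c * r * c⁻¹) = (c * r * c⁻¹) * (c * y * c⁻¹) := by
  calc c * y * c⁻¹ * (c * r * c⁻¹) = c * (y * r) * c⁻¹ := by group
    _ = c * (r * y) * c⁻¹ := by rw [h]
    _ = c * r * c⁻¹ * (c * y * c⁻¹) := by group

omit [Finite G] in
theorem d4a_isPel_conj' (c : G) {z : G} (hz : IsPel p z) : IsPel p (c⁻¹ * z * c) := by
  have := d4a_isPel_conj c⁻¹ hz
  rwa [inv_inv] at this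

/-- (D4a) with (PGN) as a hypothesis -/
theorem d4a_core (h : Setting a p Q x) (T : Tools a p Q x) (ha : a = 2)
    (hpgn : ∀ E : Subgroup G, (∀ e ∈ E, IsPel p e) → (∀ s ∈ Q, ∀ e ∈ E, s * e * s⁻¹ ∈ E) →
      (∀ e ∈ E, x * e * x⁻¹ ∈ E) → ∀ e ∈ E, ∀ s ∈ Q, e * s = s * e)
    (hP1 : ¬ P1ne p Q) {t t' : G} (ht : t ∈ Q) (ht1 : t ≠ 1) (ht' : t' ∈ Q) (ht'1 : t' ≠ 1)
    (hne : t ≠ t') (hZ : ∃ z : G, z ≠ 1 ∧ IsPel p z ∧ z * t = t * z)
    (hcomm : ∀ z1 z2 : G, IsPel p z1 → z1 * t = t * z1 → IsPel p z2 → z2 * t' = t' * z2 →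
      z1 * z2 = z2 * z1) : False := by
  have hp := h.prime
  have hQinv : ∀ s ∈ Q, s⁻¹ = s := fun s hs => inv_eq_of_mul_eq_one_right (h.elem s hs)
  have hQcomm : ∀ y ∈ Q, ∀ z ∈ Q, y * z = z * y := by
    intro y hy z hz
    have h4 : (y * z)⁻¹ = y * z := hQinv _ (Q.mul_mem hy hz)
    rw [mul_inv_rev, hQinv y hy, hQinv z hz] at h4
    exact h4.symm
  obtain ⟨t'', ht''def⟩ : ∃ t'' : G, t'' = t * t' := ⟨_, rfl⟩
  have ht'' : t'' ∈ Q := by rw [ht''def]; exact Q.mul_mem ht ht'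
  have ht''1 : t'' ≠ 1 := by
    intro h1
    apply hne
    rw [ht''def] at h1
    have : t = t'⁻¹ := eq_inv_of_mul_eq_one_left h1
    rw [this, hQinv t' ht']
  have ht''t : t'' ≠ t := by
    intro h1
    apply ht'1
    rw [ht''def] at h1
    have : t * t' = t * 1 := by rw [mul_one]; exact h1
    exact mul_left_cancel this
  have ht''t' : t'' ≠ t' := by
    intro h1
    apply ht1
    rw [ht''def] at h1
    have : t * t' = 1 * t' := by rw [one_mul]; exact h1
    exact mul_right_cancel this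
  -- `Q = {1, t, t', t''}`
  have hQ4 : ∀ r ∈ Q, r = 1 ∨ r = t ∨ r = t' ∨ r = t'' := by
    have hsub : ({1, t, t', t''} : Set G) ⊆ (Q : Set G) := by
      intro r hr
      rcases hr with rfl | rfl | rfl | rfl
      · exact Q.one_mem
      · exact ht
      · exact ht'
      · exact ht''
    have hcard : (Q : Set G).ncard = 4 := by
      rw [← Nat.card_coe_set_eq]
      have := h.card_Q
      rw [ha] at this
      exact this
    have h1 : (1 : G) ∉ ({t, t', t''} : Set G) := by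
      simp only [Set.mem_insert_iff, Set.mem_singleton_iff, not_or]
      exact ⟨fun e => ht1 e.symm, fun e => ht'1 e.symm, fun e => ht''1 e.symm⟩
    have h2 : t ∉ ({t', t''} : Set G) := by
      simp only [Set.mem_insert_iff, Set.mem_singleton_iff, not_or]
      exact ⟨hne, fun e => ht''t e.symm⟩
    have h3 : t' ∉ ({t''} : Set G) := by
      simp only [Set.mem_singleton_iff]
      exact fun e => ht''t' e.symm
    have h4 : ({1, t, t', t''} : Set G).ncard = 4 := by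
      rw [Set.ncard_insert_of_notMem h1, Set.ncard_insert_of_notMem h2,
        Set.ncard_insert_of_notMem h3, Set.ncard_singleton]
    have heq : ({1, t, t', t''} : Set G) = (Q : Set G) :=
      Set.eq_of_subset_of_ncard_le hsub (by rw [hcard, h4])
    intro r hr
    have hr' : r ∈ ({1, t, t', t''} : Set G) := by rw [heq]; exact hr
    simpa only [Set.mem_insert_iff, Set.mem_singleton_iff] using hr'
  -- the element `c`
  obtain ⟨i, hi⟩ := h.x_trans t ht ht1 t' ht' ht'1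
  have hpowN : ∀ n : ℕ, ∀ s ∈ Q, x ^ n * s * (x ^ n)⁻¹ ∈ Q := by
    intro n
    induction n with
    | zero => intro s hs; simpa using hs
    | succ n ih =>
      intro s hs
      have h1 := h.x_norm _ (ih s hs)
      have e : x ^ (n + 1) * s * (x ^ (n + 1))⁻¹ = x * (x ^ n * s * (x ^ n)⁻¹) * x⁻¹ := by
        rw [pow_succ']; group
      rw [e]
      exact h1
  obtain ⟨c, hcdef⟩ : ∃ c : G, c = x ^ i := ⟨_, rfl⟩
  rw [← hcdef] at hi
  have hcN : ∀ s ∈ Q, c * s * c⁻¹ ∈ Q := by rw [hcdef]; exact hpowN i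
  have hct'' : c * t'' * c⁻¹ = t := by
    rcases hQ4 _ (hcN t'' ht'') with h1 | h1 | h1 | h1
    · exfalso
      apply ht''1
      have : t'' = c⁻¹ * (c * t'' * c⁻¹) * c := by group
      rw [this, h1]; group
    · exact h1
    · exfalso
      apply ht''t
      have h2 : c * t'' * c⁻¹ = c * t * c⁻¹ := by rw [h1, hi]
      have : t'' = c⁻¹ * (c * t'' * c⁻¹) * c := by group
      rw [this, h2]; group
    · exfalso
      have hc1 : c * t'' = t'' * c := mul_inv_eq_iff_eq_mul.mp h1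
      have h2 := T.m2 t'' ht'' ht''1 c hcN hc1 t ht
      apply hne
      rw [← hi]
      exact (mul_inv_eq_iff_eq_mul.mpr h2).symm
  have hct' : c * t' * c⁻¹ = t'' := by
    have e : t' = t * t'' := by rw [ht''def, ← mul_assoc, h.elem t ht, one_mul]
    calc c * t' * c⁻¹ = c * (t * t'') * c⁻¹ := by rw [← e]
      _ = (c * t * c⁻¹) * (c * t'' * c⁻¹) := by group
      _ = t' * t := by rw [hi, hct'']
      _ = t * t' := hQcomm t' ht' t ht
      _ = t'' := ht''def.symm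
  -- pairwise commutation of the three `Z`'s
  have hB : ∀ z1 z2 : G, IsPel p z1 → z1 * t' = t' * z1 → IsPel p z2 → z2 * t'' = t'' * z2 →
      z1 * z2 = z2 * z1 := by
    intro z1 z2 h1 h1c h2 h2c
    exact d4a_comm_of_conj c z1 z2 (hcomm _ _ (d4a_isPel_conj' c h1) (d4a_transport c t t' hi h1c)
      (d4a_isPel_conj' c h2) (d4a_transport c t' t'' hct' h2c))
  have hC : ∀ z1 z2 : G, IsPel p z1 → z1 * t'' = t'' * z1 → IsPel p z2 → z2 * t = t * z2 →
      z1 * z2 = z2 * z1 := by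
    intro z1 z2 h1 h1c h2 h2c
    exact d4a_comm_of_conj c z1 z2 (hB _ _ (d4a_isPel_conj' c h1) (d4a_transport c t' t'' hct' h1c)
      (d4a_isPel_conj' c h2) (d4a_transport c t'' t hct'' h2c))
  have hD : ∀ r ∈ Q, r ≠ 1 → ∀ z1 z2 : G, IsPel p z1 → z1 * r = r * z1 → IsPel p z2 →
      z2 * r = r * z2 → z1 * z2 = z2 * z1 := by
    intro r hr hr1 z1 z2 h1 h1c h2 h2c
    obtain ⟨Z, hZmem, hZab⟩ := T.ct r hr hr1
    exact hZab z1 ((hZmem z1).mpr ⟨h1c, h1⟩) z2 ((hZmem z2).mpr ⟨h2c, h2⟩)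
  -- the generating set
  set S : Set G := {z | IsPel p z ∧ ∃ r ∈ Q, r ≠ 1 ∧ z * r = r * z} with hSdef
  have hScomm : ∀ y ∈ S, ∀ z ∈ S, y * z = z * y := by
    rintro y ⟨hy, r1, hr1, hr11, hyc⟩ z ⟨hz, r2, hr2, hr21, hzc⟩
    rcases hQ4 r1 hr1 with e1 | e1 | e1 | e1
    · exact absurd e1 hr11
    all_goals
      rcases hQ4 r2 hr2 with e2 | e2 | e2 | e2
      · exact absurd e2 hr21
      all_goals subst e1; subst e2
    · exact hD _ ht ht1 y z hy hyc hz hzc
    · exact hcomm y z hy hyc hz hzc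
    · exact (hC z y hz hzc hy hyc).symm
    · exact (hcomm z y hz hzc hy hyc).symm
    · exact hD _ ht' ht'1 y z hy hyc hz hzc
    · exact hB y z hy hyc hz hzc
    · exact hC y z hy hyc hz hzc
    · exact (hB z y hz hzc hy hyc).symm
    · exact hD _ ht'' ht''1 y z hy hyc hz hzc
  have hE : ∀ e ∈ Subgroup.closure S, IsPel p e :=
    d4a_closure_isPel hp S (fun y hy => hy.1) hScomm
  have hconjS : ∀ g : G, (∀ s ∈ Q, g * s * g⁻¹ ∈ Q) → ∀ y ∈ S, g * y * g⁻¹ ∈ S := by
    rintro g hg y ⟨hy, r, hr, hr1, hyc⟩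
    refine ⟨d4a_isPel_conj g hy, g * r * g⁻¹, hg r hr, ?_, d4a_conj_comm g y r hyc⟩
    intro h1
    apply hr1
    have : r = g⁻¹ * (g * r * g⁻¹) * g := by group
    rw [this, h1]; group
  have hQn : ∀ s ∈ Q, ∀ e ∈ Subgroup.closure S, s * e * s⁻¹ ∈ Subgroup.closure S := by
    intro s hs
    exact d4a_closure_conj S s (hconjS s (fun r hr => Q.mul_mem (Q.mul_mem hs hr) (Q.inv_mem hs)))
  have hxn : ∀ e ∈ Subgroup.closure S, x * e * x⁻¹ ∈ Subgroup.closure S :=
    d4a_closure_conj S x (hconjS x h.x_norm)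
  have hcent := hpgn (Subgroup.closure S) hE hQn hxn
  obtain ⟨z, hz1, hzp, hzt⟩ := hZ
  have hzE : z ∈ Subgroup.closure S := Subgroup.subset_closure ⟨hzp, t, ht, ht1, hzt⟩
  exact hP1 ⟨z, hz1, hzp, fun s hs => hcent z hzE s hs⟩

end Cfsg.Agent.Helper69.S4017M
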