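import Mathlib
import Cfsg.Agent.Lib.Helper64.S4017Defs
import Cfsg.Agent.Lib.Helper60.S4017PGN
import Cfsg.Agent.Lib.Helper69.S4017D4aCore

/-!
# S4017M piece (D4a) for helper64's server: `Z_t` and `Z_t'` do not commute elementwise.
-/

set_option autoImplicit false

namespace Cfsg.Agent.Helper69.S4017M

open Cfsg.Agent.Helper64.S4017

variable {G : Type*} [Group G] [Finite G] {a p : ℕ} {Q : Subgroup G} {x : G}

/-- (D4a) -/
theorem D_comm_false (h : Setting a p Q x) (T : Tools a p Q x) (ha : a = 2)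
    (hP1 : ¬ P1ne p Q) {t t' : G} (ht : t ∈ Q) (ht1 : t ≠ 1) (ht' : t' ∈ Q) (ht'1 : t' ≠ 1)
    (hne : t ≠ t') (hZ : ∃ z : G, z ≠ 1 ∧ IsPel p z ∧ z * t = t * z)
    (hcomm : ∀ z1 z2 : G, IsPel p z1 → z1 * t = t * z1 → IsPel p z2 → z2 * t' = t' * z2 →
      z1 * z2 = z2 * z1) : False :=
  d4a_core h T ha (fun E hE hQ hx => Cfsg.Agent.Helper60.S4017M.Setting.pgroup_normalized h T E hE hQ hx)
    hP1 ht ht1 ht' ht'1 hne hZ hcomm

end Cfsg.Agent.Helper69.S4017M
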