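import Mathlib
import Cfsg.Prelude.Def_OddOrderLocal
import Cfsg.Agent.S1394
import Cfsg.Agent.S1396
import Cfsg.Agent.Lib.Helper34.BG10d
import Cfsg.Agent.Lib.Helper54.BGOvergroup
import Cfsg.Agent.Lib.Helper79.BG10.Sigma
import Cfsg.Agent.Lib.Helper95.BG15.FitSigma

/-!
# B-G section 11, auxiliary: a normal `r`-subgroup of a maximal subgroup `M`, `r ∉ σ(M)`, is cyclic
when `M_σ` is nilpotent (and nontrivial).

The Uniqueness Theorem and `p`-length one of proper subgroups are hypotheses (`hU`, `hPL`), so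
this file only imports landed material.
-/

set_option autoImplicit false

namespace Cfsg.Agent.Helper69.BG11c

open Subgroup Cfsg

variable {G : Type*} [Group G]

/-- `Ω₁(Z(R))` as a subgroup of `G`. -/
def omegaZ (R : Subgroup G) (r : ℕ) : Subgroup G where
  carrier := {z | z ∈ R ∧ (∀ x ∈ R, x * z = z * x) ∧ z ^ r = 1}
  one_mem' := ⟨R.one_mem, fun x _ => by simp, one_pow r⟩
  mul_mem' := by
    rintro a b ⟨ha, hac, har⟩ ⟨hb, hbc, hbr⟩
    refine ⟨R.mul_mem ha hb, fun x hx => ?_, ?_⟩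
    · rw [← mul_assoc, hac x hx, mul_assoc, hbc x hx, ← mul_assoc]
    · have hab : Commute a b := hbc a ha
      rw [hab.mul_pow, har, hbr, one_mul]
  inv_mem' := by
    rintro a ⟨ha, hac, har⟩
    refine ⟨R.inv_mem ha, fun x hx => ?_, by rw [inv_pow, har, inv_one]⟩
    have h := hac x hx
    calc x * a⁻¹ = a⁻¹ * (a * x) * a⁻¹ := by group
      _ = a⁻¹ * (x * a) * a⁻¹ := by rw [h]
      _ = a⁻¹ * x := by group

theorem mem_omegaZ {R : Subgroup G} {r : ℕ} {z : G} :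
    z ∈ omegaZ R r ↔ z ∈ R ∧ (∀ x ∈ R, x * z = z * x) ∧ z ^ r = 1 := Iff.rfl

theorem omegaZ_le (R : Subgroup G) (r : ℕ) : omegaZ R r ≤ R := fun _ h => h.1

theorem conj_mem_omegaZ {R : Subgroup G} {r : ℕ} {g z : G} (hg : g ∈ normalizer (R : Set G))
    (hz : z ∈ omegaZ R r) : g * z * g⁻¹ ∈ omegaZ R r := by
  obtain ⟨hzR, hzc, hzr⟩ := hz
  have hgi : g⁻¹ ∈ normalizer (R : Set G) := inv_mem hg
  refine ⟨(mem_normalizer_iff.mp hg z).mp hzR, fun x hx => ?_, ?_⟩
  · have hx' : g⁻¹ * x * g⁻¹⁻¹ ∈ R := (mem_normalizer_iff.mp hgi x).mp hx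
    rw [inv_inv] at hx'
    have h := hzc _ hx'
    calc x * (g * z * g⁻¹) = g * ((g⁻¹ * x * g) * z) * g⁻¹ := by group
      _ = g * (z * (g⁻¹ * x * g)) * g⁻¹ := by rw [h]
      _ = g * z * g⁻¹ * x := by group
  · rw [conj_pow, hzr, mul_one, mul_inv_cancel]

theorem normalizer_le_normalizer_omegaZ (R : Subgroup G) (r : ℕ) :
    normalizer (R : Set G) ≤ normalizer ((omegaZ R r : Subgroup G) : Set G) := by
  intro g hg
  rw [mem_normalizer_iff]
  intro z
  refine ⟨fun hz => conj_mem_omegaZ hg hz, fun hz => ?_⟩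
  have := conj_mem_omegaZ (inv_mem hg) hz
  have e : g⁻¹ * (g * z * g⁻¹) * g⁻¹⁻¹ = z := by group
  rwa [e] at this

theorem isElementaryAbelian_omegaZ (R : Subgroup G) (r : ℕ) :
    IsElementaryAbelian r (omegaZ R r) := by
  refine ⟨⟨⟨fun a b => Subtype.ext ?_⟩⟩, fun a ha => ha.2.2⟩
  exact b.2.2.1 a a.2.1

theorem omegaZ_ne_bot [Finite G] {R : Subgroup G} {r : ℕ} [Fact r.Prime] (hR : IsPGroup r R)
    (hR1 : R ≠ ⊥) : omegaZ R r ≠ ⊥ := by
  have hnt : Nontrivial ↥R := (Subgroup.nontrivial_iff_ne_bot R).mpr hR1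
  obtain ⟨z, hzR, hzc, hzo⟩ := Cfsg.Agent.Helper34.BG.exists_central_order_p hR hnt
  intro hbot
  have hz : z ∈ omegaZ R r := ⟨hzR, hzc, by rw [← hzo]; exact pow_orderOf_eq_one z⟩
  rw [hbot, mem_bot] at hz
  rw [hz, orderOf_one] at hzo
  exact (Fact.out : r.Prime).one_lt.ne hzo


/-- In a nilpotent Hall `σ(M)`-subgroup `M_σ` of `G`, the Sylow `q`-subgroup is normal in `M` and
is a Sylow `q`-subgroup of `G`. -/
theorem exists_normal_sylow_sigmaCore [Finite G] (M : Subgroup G)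
    (hHallG : Cfsg.IsPiHall (Cfsg.sigma M) (Cfsg.sigmaCore M))
    (hK : Group.IsNilpotent ↥(Cfsg.sigmaCore M)) (q : ℕ) [hq : Fact q.Prime]
    (hqσ : q ∈ Cfsg.sigma M) (hqK : q ∣ Nat.card ↥(Cfsg.sigmaCore M)) :
    ∃ Q : Subgroup G, Q ≤ Cfsg.sigmaCore M ∧ IsPGroup q Q ∧ Q ≠ ⊥ ∧
      M ≤ normalizer (Q : Set G) ∧ Nat.card Q = q ^ (Nat.card G).factorization q := by
  obtain ⟨P'⟩ : Nonempty (Sylow q ↥(Cfsg.sigmaCore M)) := inferInstance
  have hnorm : (P' : Subgroup ↥(Cfsg.sigmaCore M)).Normal := by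
    have h03 := (Group.isNilpotent_of_finite_tfae (G := ↥(Cfsg.sigmaCore M))).out 0 3
    exact h03.mp hK q hq P'
  have hchar : (P' : Subgroup ↥(Cfsg.sigmaCore M)).Characteristic :=
    Sylow.characteristic_of_normal P' hnorm
  have hMN : M ≤ normalizer ((Cfsg.sigmaCore M : Subgroup G) : Set G) := by
    exact Cfsg.Agent.Helper55.BGB.le_normalizer_map_subtype M (Cfsg.piCore (Cfsg.sigma M) ↥M)
  have hcardP : Nat.card (P' : Subgroup ↥(Cfsg.sigmaCore M)) =
      q ^ (Nat.card ↥(Cfsg.sigmaCore M)).factorization q := P'.card_eq_multiplicity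
  have hfac : (Nat.card ↥(Cfsg.sigmaCore M)).factorization q = (Nat.card G).factorization q := by
    have h1 : Nat.card ↥(Cfsg.sigmaCore M) * (Cfsg.sigmaCore M).index = Nat.card G :=
      Subgroup.card_mul_index _
    have hidx : ¬ q ∣ (Cfsg.sigmaCore M).index := hHallG.2 q hq.out hqσ
    rw [← h1, Nat.factorization_mul Nat.card_pos.ne' Subgroup.index_ne_zero_of_finite,
      Finsupp.add_apply, Nat.factorization_eq_zero_of_not_dvd hidx, add_zero]
  have hcardQ : Nat.card ((P' : Subgroup ↥(Cfsg.sigmaCore M)).map (Cfsg.sigmaCore M).subtype) =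
      q ^ (Nat.card G).factorization q := by
    rw [Subgroup.card_map_of_injective (Subgroup.subtype_injective _), hcardP, hfac]
  refine ⟨(P' : Subgroup ↥(Cfsg.sigmaCore M)).map (Cfsg.sigmaCore M).subtype, map_subtype_le _,
    P'.isPGroup'.map _, ?_, ?_, hcardQ⟩
  · intro hbot
    rw [hbot, Subgroup.card_bot] at hcardQ
    have hpos : 0 < (Nat.card G).factorization q := by
      rw [← hfac]
      exact hq.out.factorization_pos_of_dvd Nat.card_pos.ne' hqK
    have : 1 < q ^ (Nat.card G).factorization q := Nat.one_lt_pow hpos.ne' hq.out.one_lt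
    omega
  · exact hMN.trans (Cfsg.Agent.Helper54.normalizer_le_normalizer_map_of_characteristic
      (Cfsg.sigmaCore M) (P' : Subgroup ↥(Cfsg.sigmaCore M)))


/-- An `A`-invariant `q`-subgroup of full `q`-power order is a maximal `A`-invariant `q`-subgroup. -/
theorem mem_maxInvSubgroups_of_card [Finite G] (A Q : Subgroup G) (q : ℕ) [hq : Fact q.Prime]
    (hcard : Nat.card Q = q ^ (Nat.card G).factorization q) (hAQ : A ≤ normalizer (Q : Set G)) :
    Q ∈ Cfsg.maxInvSubgroups ⊤ A {q} := by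
  refine ⟨⟨le_top, fun p hp hpd => ?_, hAQ⟩, fun R' hR' hle => ?_⟩
  · rw [hcard] at hpd
    exact Set.mem_singleton_iff.mpr ((Nat.prime_dvd_prime_iff_eq hp hq.out).mp (hp.dvd_of_dvd_pow hpd))
  · obtain ⟨-, hR'q, -⟩ := hR'
    have hpow : Nat.card R' = q ^ (Nat.card R').primeFactorsList.length :=
      Nat.eq_prime_pow_of_unique_prime_dvd Nat.card_pos.ne'
        (fun {d} hd hdd => Set.mem_singleton_iff.mp (hR'q d hd hdd))
    have hdvd : q ^ (Nat.card R').primeFactorsList.length ∣ Nat.card G := by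
      rw [← hpow]
      exact Subgroup.card_subgroup_dvd_card R'
    have hle' : (Nat.card R').primeFactorsList.length ≤ (Nat.card G).factorization q :=
      (hq.out.pow_dvd_iff_le_factorization Nat.card_pos.ne').mp hdvd
    have hc : Nat.card R' ≤ Nat.card Q := by
      rw [hpow, hcard]
      exact Nat.pow_le_pow_right hq.out.pos hle'
    exact (Subgroup.eq_of_le_of_card_ge hle hc).symm

/-- **(lead's (2), B-G section 11)** A normal `r`-subgroup `R` of a maximal subgroup `M` with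
`r ∉ σ(M)` is cyclic, provided `M_σ` is nilpotent and nontrivial.  `hU` is the Uniqueness Theorem
(S1403), `hPL` is `p`-length one of proper subgroups (S1410). -/
theorem normal_pgroup_cyclic_of [Finite G] (hG : Cfsg.IsMinSimpleOddOrder G)
    (hU : Cfsg.Agent.Helper34.BG.UniqHyp G)
    (hPL : ∀ (p : ℕ) [Fact p.Prime] (H : Subgroup G), H ≠ ⊤ → Cfsg.PLengthLE p 1 H)
    (M : Subgroup G) (hM : IsCoatom M) (r : ℕ) [hr' : Fact r.Prime] (hr : r ∉ Cfsg.sigma M)
    (hK : Group.IsNilpotent ↥(Cfsg.sigmaCore M)) (hK1 : Cfsg.sigmaCore M ≠ ⊥)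
    (R : Subgroup G) (hRM : R ≤ M) (hRn : M ≤ normalizer (R : Set G)) (hRr : IsPGroup r R) :
    IsCyclic ↥R := by
  by_contra hcyc
  have hR1 : R ≠ ⊥ := by
    rintro rfl
    exact hcyc isCyclic_of_subsingleton
  have hrR : r ∣ Nat.card R := by
    obtain ⟨k, hk⟩ := IsPGroup.iff_card.mp hRr
    have hk0 : k ≠ 0 := by
      rintro rfl
      rw [pow_zero] at hk
      exact hR1 (Subgroup.card_eq_one.mp hk)
    rw [hk]
    exact dvd_pow_self r hk0
  have hrM : r ∣ Nat.card M := hrR.trans (Subgroup.card_dvd_of_le hRM)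
  have hr2 : r ≠ 2 := Cfsg.Agent.Helper34.BG.prime_ne_two hG M hrM
  have hrk : ¬ PRankLE r 1 ↥R := fun h =>
    hcyc (Cfsg.Agent.Helper34.BG.isCyclic_of_pRankLE_one hr2 hRr h)
  obtain ⟨A₁, hA₁R, hA₁e, hA₁c⟩ := Cfsg.Agent.Helper34.BG.exists_elemAb_of_not_pRankLE hrk
  obtain ⟨A, hAA₁, hAe, hAc⟩ := Cfsg.Agent.Helper34.BG.exists_elemAb_card_eq hA₁e hA₁c
  have hAc2 : Nat.card A = r ^ 2 := hAc
  have hAR : A ≤ R := hAA₁.trans hA₁R
  have hAM : A ≤ M := hAR.trans hRM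
  -- `W = Ω₁(Z(R))`
  have hWne : omegaZ R r ≠ ⊥ := omegaZ_ne_bot hRr hR1
  have hWM : omegaZ R r ≤ M := (omegaZ_le R r).trans hRM
  have hMW : M ≤ normalizer ((omegaZ R r : Subgroup G) : Set G) :=
    hRn.trans (normalizer_le_normalizer_omegaZ R r)
  have hNW : normalizer ((omegaZ R r : Subgroup G) : Set G) = M :=
    Cfsg.Agent.Helper95.BG15.FitSigma.normalizer_eq_of_coatom hG hM hWM hWne hMW
  have hmax : ∀ B : Subgroup G, IsElementaryAbelian r B → A ≤ B → B = A := fun B hBe hAB =>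
    Cfsg.Agent.Helper34.BG.bg10_5_max hG hU hM hr hAM hAe hAc2 hBe hAB
  have hWA : omegaZ R r ≤ A := by
    have hsup : IsElementaryAbelian r (omegaZ R r ⊔ A) :=
      Cfsg.Agent.Helper34.BG.isElementaryAbelian_sup (isElementaryAbelian_omegaZ R r) hAe
        (fun w hw a ha => (hw.2.1 a (hAR ha)).symm)
    have h := hmax _ hsup le_sup_right
    rw [← h]
    exact le_sup_left
  have hCA : centralizer (A : Set G) ≤ M := by
    intro x hx
    rw [← hNW]
    exact Subgroup.centralizer_le_normalizer _ (Subgroup.centralizer_le hWA hx)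
  -- Hall properties of `K = M_σ`
  obtain ⟨hHallM, hHallG, -⟩ := Cfsg.Agent.Helper79.BG10.sigmaCore_hall hG hU hM
  have hKM : Cfsg.sigmaCore M ≤ M := hHallM.1
  have hMK : M ≤ normalizer ((Cfsg.sigmaCore M : Subgroup G) : Set G) :=
    Cfsg.Agent.Helper55.BGB.le_normalizer_map_subtype M (Cfsg.piCore (Cfsg.sigma M) ↥M)
  have hKr : (Nat.card ↥(Cfsg.sigmaCore M)).Coprime r := by
    rw [Nat.coprime_comm, Nat.Prime.coprime_iff_not_dvd hr'.out]
    exact fun h => hr (hHallM.2.1 r hr'.out h)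
  have hKR : Cfsg.sigmaCore M ⊓ R = ⊥ :=
    Cfsg.Agent.Helper54.inf_eq_bot_of_isPGroup_of_coprime _ _ hKr hRr
  have hcomm : ∀ k ∈ Cfsg.sigmaCore M, ∀ x ∈ R, x * k = k * x := by
    intro k hk x hx
    have h1 : x * k * x⁻¹ * k⁻¹ ∈ Cfsg.sigmaCore M :=
      mul_mem ((mem_normalizer_iff.mp (hMK (hRM hx)) k).mp hk) (inv_mem hk)
    have h2 : x * k * x⁻¹ * k⁻¹ ∈ R := by
      have : k * x⁻¹ * k⁻¹ ∈ R := (mem_normalizer_iff.mp (hRn (hKM hk)) x⁻¹).mp (inv_mem hx)
      have e : x * k * x⁻¹ * k⁻¹ = x * (k * x⁻¹ * k⁻¹) := by group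
      rw [e]
      exact mul_mem hx this
    have h3 : x * k * x⁻¹ * k⁻¹ ∈ Cfsg.sigmaCore M ⊓ R := ⟨h1, h2⟩
    rw [hKR, mem_bot] at h3
    calc x * k = (x * k * x⁻¹ * k⁻¹) * (k * x) := by group
      _ = k * x := by rw [h3, one_mul]
  have hKA : Cfsg.sigmaCore M ≤ centralizer (A : Set G) := by
    intro k hk
    rw [mem_centralizer_iff]
    intro a ha
    exact hcomm k hk a (hAR ha)
  -- a prime `q` dividing `|K|`
  have hKc : Nat.card ↥(Cfsg.sigmaCore M) ≠ 1 := fun h => hK1 (Subgroup.card_eq_one.mp h)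
  obtain ⟨q, hq, hqK⟩ := Nat.exists_prime_and_dvd hKc
  have : Fact q.Prime := ⟨hq⟩
  have hqσ : q ∈ Cfsg.sigma M := hHallM.2.1 q hq hqK
  have hqr : q ≠ r := fun h => hr (h ▸ hqσ)
  obtain ⟨Q, hQK, hQq, hQ1, hMQ, hQc⟩ := exists_normal_sylow_sigmaCore M hHallG hK q hqσ hqK
  have hNQ : normalizer (Q : Set G) = M :=
    Cfsg.Agent.Helper95.BG15.FitSigma.normalizer_eq_of_coatom hG hM (hQK.trans hKM) hQ1 hMQ
  -- transitivity hypothesis for `A`
  have hAp : IsPGroup r A := Cfsg.Agent.Helper34.BG.isElementaryAbelian_isPGroup hAe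
  have hrG : r ∣ Nat.card G := hrM.trans (Subgroup.card_subgroup_dvd_card M)
  have hΩ : ∀ x ∈ centralizer (A : Set G), x ^ r = 1 ↔ x ∈ A := by
    intro x hx
    refine ⟨fun hxr => ?_, fun hxA => hAe.2 x hxA⟩
    have hsup : IsElementaryAbelian r (A ⊔ zpowers x) :=
      Cfsg.Agent.Helper34.BG.isElementaryAbelian_sup hAe
        (Cfsg.Agent.Helper34.BG.isElementaryAbelian_zpowers hxr) (by
          intro a ha b hb
          obtain ⟨n, rfl⟩ := mem_zpowers_iff.mp hb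
          have hax : Commute a x := (mem_centralizer_iff.mp hx a ha)
          exact (hax.zpow_right n))
    have h := hmax _ hsup le_sup_left
    rw [← h]
    exact (le_sup_right : zpowers x ≤ A ⊔ zpowers x) (mem_zpowers x)
  have hTH : Cfsg.TransitivityHypothesis A :=
    Cfsg.Agent.S1396.result hG r hrG A hAp hAe.1 (Or.inl ⟨hΩ, fun H hH => hPL r H hH⟩)
  have hAcA : A ≤ centralizer (A : Set G) := by
    intro a ha
    rw [mem_centralizer_iff]
    intro b hb
    exact Cfsg.Agent.Helper34.BG.commute_of_isElementaryAbelian hAe hb ha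
  have hZ : ¬ Cfsg.RankLE 1 ↥(A ⊓ centralizer (A : Set G)) :=
    Cfsg.Agent.Helper34.BG.not_rankLE_of_elemAb hr'.out (le_inf le_rfl hAcA) hAe (by
      rw [hAc2, pow_one]
      nlinarith [hr'.out.one_lt])
  have hqA : ¬ q ∣ Nat.card A := by
    rw [hAc2]
    intro h
    exact hqr ((Nat.prime_dvd_prime_iff_eq hq hr'.out).mp (hq.dvd_of_dvd_pow h))
  have hqC : q ∣ Nat.card (centralizer (A : Set G)) := hqK.trans (Subgroup.card_dvd_of_le hKA)
  have htrans := Cfsg.Agent.S1394.result hG A hTH hZ q hq hqA hqC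
  -- a Sylow `r`-subgroup of `M` over `R`, whose normalizer is not in `M`
  obtain ⟨P, hP⟩ := (hRr.comap_subtype (K := M)).exists_le_sylow
  have hnot : ¬ normalizer ((((P : Subgroup M).map M.subtype : Subgroup G)) : Set G) ≤ M :=
    fun h => hr ⟨hr'.out, hrM, P, h⟩
  obtain ⟨g, hgT, hgM⟩ := SetLike.not_le_iff_exists.mp hnot
  have hAT : A ≤ (P : Subgroup M).map M.subtype := fun a ha =>
    ⟨⟨a, hAM ha⟩, hP (mem_subgroupOf.mpr (hAR ha)), rfl⟩
  have hTM : (P : Subgroup M).map M.subtype ≤ M := map_subtype_le _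
  -- `g⁻¹ Q g` is `A`-invariant
  have hAQ2 : A ≤ normalizer ((Cfsg.Agent.Helper79.BG10.cj g⁻¹ Q : Subgroup G) : Set G) := by
    intro a ha
    rw [Cfsg.Agent.Helper79.BG10.normalizer_cj, Cfsg.Agent.Helper79.BG10.mem_cj, inv_inv]
    exact hMQ (hTM ((mem_normalizer_iff.mp hgT a).mp (hAT ha)))
  have hQ2c : Nat.card (Cfsg.Agent.Helper79.BG10.cj g⁻¹ Q) = q ^ (Nat.card G).factorization q := by
    rw [Cfsg.Agent.Helper79.BG10.card_cj, hQc]
  have h1 : Q ∈ Cfsg.maxInvSubgroups ⊤ A {q} :=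
    mem_maxInvSubgroups_of_card A Q q hQc (hAM.trans hMQ)
  have h2 : Cfsg.Agent.Helper79.BG10.cj g⁻¹ Q ∈ Cfsg.maxInvSubgroups ⊤ A {q} :=
    mem_maxInvSubgroups_of_card A _ q hQ2c hAQ2
  obtain ⟨k, hk, hkQ⟩ := htrans Q h1 _ h2
  have hkM : k ∈ M := hCA (Cfsg.Agent.Helper54.piCoreOf_le _ _ hk)
  have hkQ' : Cfsg.Agent.Helper79.BG10.cj k Q = Q :=
    Cfsg.Agent.Helper79.BG10.cj_eq_self_of_mem_normalizer (hMQ hkM)
  have hgQ : Cfsg.Agent.Helper79.BG10.cj g⁻¹ Q = Q := hkQ.trans hkQ'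
  have hgi : g⁻¹ ∈ M := by
    rw [← hNQ]
    exact Cfsg.Agent.Helper79.BG10.mem_normalizer_of_cj_eq hgQ
  exact hgM (by simpa using inv_mem hgi)

end Cfsg.Agent.Helper69.BG11c
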