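import Mathlib
import Cfsg.Prelude.Def_OddOrderLocal
import Cfsg.Agent.S1445
import Cfsg.Agent.Lib.Helper1.Coprime
import Cfsg.Agent.Lib.Helper1.ZCoprime
import Cfsg.Agent.Lib.Helper34.BG10a
import Cfsg.Agent.Lib.Helper34.BG10e
import Cfsg.Agent.Lib.Helper54.PConstrained
import Cfsg.Agent.Lib.Helper54.CritChief
import Cfsg.Agent.Lib.Helper54.BenderLocalD
import Cfsg.Agent.Lib.Helper95.BG15.FitSigma

/-!
# A Frobenius-type action lemma (odd order), from B-G Theorem 3.7 (S1445)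

If `X` of prime order acts without fixed points on `K`, and `Y` is an abelian `t`-group normalized by
`X`, both normalizing the `t'`-group `K`, then `[Y, X]` centralizes `K`.
-/

set_option autoImplicit false

namespace Cfsg.Agent.Helper69.BG11d

open Subgroup Cfsg

/-- Type-level core: `Γ = K Y X`, `K` normal, `X` of prime order with `C_K(X) = C_Y(X) = 1`,
`Y = [Y, X]` a `t`-group, `K` a `t'`-group.  Then `Y` centralizes `K`. -/
theorem core {Γ : Type*} [Group Γ] [Finite Γ] [Group.IsSolvable Γ] (hodd : Odd (Nat.card Γ))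
    (K Y X : Subgroup Γ) [hKn : K.Normal] (hXY : X ≤ normalizer (Y : Set Γ))
    (htop : K ⊔ Y ⊔ X = ⊤) (t : ℕ) [ht : Fact t.Prime] (hYt : IsPGroup t Y)
    (hX : (Nat.card X).Prime) (hKt : (Nat.card K).Coprime t)
    (hKX : (Nat.card K).Coprime (Nat.card X)) (hXt : Nat.card X ≠ t)
    (hfpfK : K ⊓ centralizer (X : Set Γ) = ⊥) (hfpfY : Y ⊓ centralizer (X : Set Γ) = ⊥)
    (hYX : Y ≤ ⁅Y, X⁆) : Y ≤ centralizer (K : Set Γ) := by
  have hKY : K ⊓ Y = ⊥ := Cfsg.Agent.Helper54.inf_eq_bot_of_isPGroup_of_coprime K Y hKt hYt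
  -- `J = K Y` is normal
  have hJn : (K ⊔ Y).Normal := by
    have h1 : K ⊔ Y ≤ normalizer ((K ⊔ Y : Subgroup Γ) : Set Γ) := le_normalizer
    have h2 : X ≤ normalizer ((K ⊔ Y : Subgroup Γ) : Set Γ) := by
      intro x hx
      rw [mem_normalizer_iff]
      have key : ∀ x ∈ X, ∀ h ∈ K ⊔ Y, x * h * x⁻¹ ∈ K ⊔ Y := by
        intro x hx h hh
        have : (MulAut.conj x) h ∈ (K ⊔ Y).map (MulAut.conj x).toMonoidHom := ⟨h, hh, rfl⟩
        rw [Subgroup.map_sup] at this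
        have hK' : K.map (MulAut.conj x).toMonoidHom ≤ K := by
          rintro _ ⟨k, hk, rfl⟩
          exact hKn.conj_mem k hk x
        have hY' : Y.map (MulAut.conj x).toMonoidHom ≤ Y := by
          rintro _ ⟨y, hy, rfl⟩
          exact (mem_normalizer_iff.mp (hXY hx) y).mp hy
        exact (sup_le_sup hK' hY') this
      intro h
      refine ⟨key x hx h, fun hh => ?_⟩
      have := key x⁻¹ (inv_mem hx) _ hh
      have e : x⁻¹ * (x * h * x⁻¹) * x⁻¹⁻¹ = h := by group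
      rwa [e] at this
    have h3 : (⊤ : Subgroup Γ) ≤ normalizer ((K ⊔ Y : Subgroup Γ) : Set Γ) := by
      rw [← htop]
      exact sup_le h1 h2
    exact normalizer_eq_top_iff.mp (top_le_iff.mp h3)
  -- coprimality of `|J|` and `|X|`
  have hYX' : (Nat.card Y).Coprime (Nat.card X) := by
    obtain ⟨a, ha⟩ := IsPGroup.iff_card.mp hYt
    rw [ha]
    exact Nat.Coprime.pow_left a ((Nat.coprime_primes ht.out hX).mpr (Ne.symm hXt))
  have hJcard : Nat.card ↥(K ⊔ Y) ∣ Nat.card K * Nat.card Y := by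
    have h1 : Nat.card K * K.relIndex (K ⊔ Y) = Nat.card ↥(K ⊔ Y) :=
      Cfsg.Agent.Helper95.BG15.FitSigma.card_mul_relIndex' le_sup_left
    rw [← h1, Subgroup.relIndex_sup_left]
    exact Nat.mul_dvd_mul_left _ (Subgroup.relIndex_dvd_card K Y)
  have hJX : (Nat.card ↥(K ⊔ Y)).Coprime (Nat.card X) :=
    Nat.Coprime.coprime_dvd_left hJcard (Nat.Coprime.mul_left hKX hYX')
  -- `C_J(X) = 1`
  have hCJ : (K ⊔ Y) ⊓ centralizer (X : Set Γ) = ⊥ := by
    rw [eq_bot_iff]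
    rintro z ⟨hzJ, hzX⟩
    have hz' : z ∈ ((K ⊔ Y : Subgroup Γ) : Set Γ) := hzJ
    rw [Subgroup.normal_mul] at hz'
    obtain ⟨k, hk, y, hy, rfl⟩ := Set.mem_mul.mp hz'
    have hk : k ∈ K := hk
    have hy : y ∈ Y := hy
    have hyX : y ∈ centralizer (X : Set Γ) := by
      rw [mem_centralizer_iff]
      intro x hx
      have hxz : x * (k * y) = k * y * x := mem_centralizer_iff.mp hzX x hx
      have hk' : x * k * x⁻¹ ∈ K := hKn.conj_mem k hk x
      have hy' : x * y * x⁻¹ ∈ Y := (mem_normalizer_iff.mp (hXY hx) y).mp hy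
      -- `k * y = (x k x⁻¹) (x y x⁻¹)`
      have e : k * y = (x * k * x⁻¹) * (x * y * x⁻¹) := by
        have : (x * k * x⁻¹) * (x * y * x⁻¹) = x * (k * y) * x⁻¹ := by group
        rw [this, hxz]
        group
      -- uniqueness of the decomposition
      have hmem : (x * k * x⁻¹)⁻¹ * k ∈ K ⊓ Y := by
        refine Subgroup.mem_inf.mpr ⟨mul_mem (inv_mem hk') hk, ?_⟩
        have : (x * k * x⁻¹)⁻¹ * k = (x * y * x⁻¹) * y⁻¹ := by
          have h1 : (x * k * x⁻¹)⁻¹ * (k * y) * y⁻¹ = (x * k * x⁻¹)⁻¹ * k := by group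
          rw [← h1, e]
          group
        rw [this]
        exact mul_mem hy' (inv_mem hy)
      rw [hKY, mem_bot] at hmem
      have hkk : x * k * x⁻¹ = k := by
        have := eq_of_inv_mul_eq_one hmem  -- x k x⁻¹ = k
        exact this
      rw [hkk] at e
      have hyy : y = x * y * x⁻¹ := mul_left_cancel e
      calc x * y = (x * y * x⁻¹) * x := by group
        _ = y * x := by rw [← hyy]
    have hy1 : y = 1 := by
      have : y ∈ Y ⊓ centralizer (X : Set Γ) := ⟨hy, hyX⟩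
      rwa [hfpfY, mem_bot] at this
    subst hy1
    rw [mul_one] at hzX ⊢
    have : k ∈ K ⊓ centralizer (X : Set Γ) := ⟨hk, hzX⟩
    rwa [hfpfK, mem_bot] at this
  -- prime action (trivial: `X` has prime order)
  have hprime : ∀ x ∈ X, x ≠ 1 → (K ⊔ Y) ⊓ centralizer ({x} : Set Γ) =
      (K ⊔ Y) ⊓ centralizer (X : Set Γ) := by
    intro x hx hx1
    have : Fact (Nat.card X).Prime := ⟨hX⟩
    have hz : zpowers (⟨x, hx⟩ : ↥X) = ⊤ :=
      zpowers_eq_top_of_prime_card rfl (fun h => hx1 (by simpa using congrArg Subtype.val h))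
    have hzx : zpowers x = X := by
      have h1 := MonoidHom.map_zpowers X.subtype (⟨x, hx⟩ : ↥X)
      rw [hz] at h1
      simpa [← MonoidHom.range_eq_map] using h1.symm
    rw [← Cfsg.Agent.Helper34.BG.centralizer_zpowers_eq, hzx]
  have hF : Cfsg.fittingOf (K ⊔ Y) ⊓ centralizer (X : Set Γ) = ⊥ := by
    rw [eq_bot_iff, ← hCJ]
    exact inf_le_inf_right _ (Cfsg.Agent.Helper54.BenderLocal.fittingOf_le _)
  have h37 := Cfsg.Agent.S1445.result hodd (K ⊔ Y) X htop hJX hprime hF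
  -- `Y ≤ F(J)`, hence `Y ≤ O_t(J)`
  have hYF : Y ≤ Cfsg.fittingOf (K ⊔ Y) :=
    hYX.trans ((Subgroup.commutator_mono le_sup_right le_rfl).trans h37)
  intro y hy
  rw [mem_centralizer_iff]
  intro k hk
  have hk : k ∈ K := hk
  obtain ⟨a, ha⟩ := (IsPGroup.iff_orderOf.mp hYt) ⟨y, hy⟩
  have hya : y ^ (t ^ a) = 1 := by
    have := pow_orderOf_eq_one (⟨y, hy⟩ : ↥Y)
    rw [ha] at this
    simpa using congrArg Subtype.val this
  have hyO : y ∈ Cfsg.Agent.Helper95.BG15.FitSigma.Op (K ⊔ Y) t :=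
    Cfsg.Agent.Helper95.BG15.FitSigma.mem_Op_of_mem_fittingOf (K ⊔ Y) t (hYF hy) hya
  have hOn := Cfsg.Agent.Helper95.BG15.FitSigma.Op_norm (K ⊔ Y) t
  have hOt := Cfsg.Agent.Helper95.BG15.FitSigma.Op_isPGroup (K ⊔ Y) t
  have hKO : K ⊓ Cfsg.Agent.Helper95.BG15.FitSigma.Op (K ⊔ Y) t = ⊥ :=
    Cfsg.Agent.Helper54.inf_eq_bot_of_isPGroup_of_coprime K _ hKt hOt
  have hc : k * y * k⁻¹ * y⁻¹ ∈ K ⊓ Cfsg.Agent.Helper95.BG15.FitSigma.Op (K ⊔ Y) t := by
    refine Subgroup.mem_inf.mpr ⟨?_, ?_⟩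
    · have : y * k⁻¹ * y⁻¹ ∈ K := hKn.conj_mem _ (inv_mem hk) y
      have e : k * y * k⁻¹ * y⁻¹ = k * (y * k⁻¹ * y⁻¹) := by group
      rw [e]
      exact mul_mem hk this
    · have hkJ : k ∈ K ⊔ Y := mem_sup_left hk
      have : k * y * k⁻¹ ∈ Cfsg.Agent.Helper95.BG15.FitSigma.Op (K ⊔ Y) t :=
        (mem_normalizer_iff.mp (hOn hkJ) y).mp hyO
      exact mul_mem this (inv_mem hyO)
  rw [hKO, mem_bot] at hc
  calc k * y = (k * y * k⁻¹ * y⁻¹) * (y * k) := by group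
    _ = y * k := by rw [hc, one_mul]


section transfer

variable {G : Type*} [Group G]

theorem subgroupOf_le_normalizer {A B : Subgroup G} (L : Subgroup G)
    (h : A ≤ normalizer (B : Set G)) :
    A.subgroupOf L ≤ normalizer ((B.subgroupOf L : Subgroup ↥L) : Set ↥L) := by
  intro a ha
  have ha' : (a : G) ∈ normalizer (B : Set G) := h (mem_subgroupOf.mp ha)
  rw [mem_normalizer_iff] at ha' ⊢
  intro x
  simp only [mem_subgroupOf]
  simpa using ha' (x : G)

theorem subgroupOf_inf_centralizer_eq_bot {A B : Subgroup G} (L : Subgroup G) (hBL : B ≤ L)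
    (h : A ⊓ centralizer (B : Set G) = ⊥) :
    A.subgroupOf L ⊓ centralizer ((B.subgroupOf L : Subgroup ↥L) : Set ↥L) = ⊥ := by
  rw [eq_bot_iff]
  rintro z ⟨hzA, hzB⟩
  have hz : (z : G) ∈ A ⊓ centralizer (B : Set G) := by
    refine Subgroup.mem_inf.mpr ⟨mem_subgroupOf.mp hzA, ?_⟩
    rw [mem_centralizer_iff]
    intro b hb
    have hb' : (⟨b, hBL hb⟩ : ↥L) ∈ B.subgroupOf L := mem_subgroupOf.mpr hb
    have := mem_centralizer_iff.mp hzB _ hb'
    simpa using congrArg Subtype.val this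
  rw [h, mem_bot] at hz
  rw [mem_bot]
  exact Subtype.ext hz

end transfer

/-- **Frobenius-type action lemma.**  `X` of prime order acts without fixed points on `K`; `Y` is an
abelian `t`-group normalized by `X`; `Y` and `X` normalize the `t'`-group `K`; everything lies in a
solvable subgroup `H` of the odd-order group `G`.  Then `[Y, X]` centralizes `K`. -/
theorem comm_le_centralizer_of_fpf {G : Type*} [Group G] [Finite G] (hodd : Odd (Nat.card G))
    (H : Subgroup G) (hH : Group.IsSolvable ↥H) (K Y X : Subgroup G) (hKH : K ≤ H) (hYH : Y ≤ H)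
    (hXH : X ≤ H) (hYK : Y ≤ normalizer (K : Set G)) (hXK : X ≤ normalizer (K : Set G))
    (hXY : X ≤ normalizer (Y : Set G)) (t : ℕ) [ht : Fact t.Prime] (hYt : IsPGroup t Y)
    (hYc : IsMulCommutative ↥Y) (hX : (Nat.card X).Prime) (hKt : (Nat.card K).Coprime t)
    (hKX : (Nat.card K).Coprime (Nat.card X)) (hXt : Nat.card X ≠ t)
    (hfpf : K ⊓ centralizer (X : Set G) = ⊥) : ⁅Y, X⁆ ≤ centralizer (K : Set G) := by
  have hXYc : (Nat.card X).Coprime (Nat.card Y) := by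
    obtain ⟨a, ha⟩ := IsPGroup.iff_card.mp hYt
    rw [ha]
    exact Nat.Coprime.pow_right a ((Nat.coprime_primes hX ht.out).mpr hXt)
  have hY1Y : ⁅Y, X⁆ ≤ Y := Cfsg.Agent.Helper1.commutator_le_of_le_normalizer hXY
  have hXY1 : X ≤ normalizer ((⁅Y, X⁆ : Subgroup G) : Set G) :=
    Cfsg.Agent.Helper1.le_normalizer_commutator_right hXY
  have hY1fix : ⁅Y, X⁆ ⊓ centralizer (X : Set G) = ⊥ :=
    Cfsg.Agent.Helper1.ZCoprime.commutator_inf_centralizer_eq_bot X Y hXY hXYc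
  have hYsolv : Group.IsSolvable ↥Y := Cfsg.Agent.Helper54.BenderLocal.isSolvable_of_le hYH hH
  have hY1comm : ⁅⁅Y, X⁆, X⁆ = ⁅Y, X⁆ :=
    Cfsg.Agent.Helper1.commutator_commutator_eq X Y hXY hXYc (Or.inr hYsolv)
  have hY1t : IsPGroup t (⁅Y, X⁆ : Subgroup G) := hYt.to_le hY1Y
  -- the group `L = K Y₁ X`
  set L : Subgroup G := K ⊔ ⁅Y, X⁆ ⊔ X with hL
  have hKL : K ≤ L := le_sup_left.trans le_sup_left
  have hY1L : ⁅Y, X⁆ ≤ L := le_sup_right.trans le_sup_left
  have hXL : X ≤ L := le_sup_right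
  have hLH : L ≤ H := sup_le (sup_le hKH (hY1Y.trans hYH)) hXH
  have hLsolv : Group.IsSolvable ↥L := Cfsg.Agent.Helper54.BenderLocal.isSolvable_of_le hLH hH
  have hLodd : Odd (Nat.card ↥L) :=
    Odd.of_dvd_nat hodd (Subgroup.card_subgroup_dvd_card L)
  have hLK : L ≤ normalizer (K : Set G) :=
    sup_le (sup_le le_normalizer (hY1Y.trans hYK)) hXK
  have hKn : (K.subgroupOf L).Normal := Subgroup.normal_subgroupOf_of_le_normalizer hLK
  have htop : K.subgroupOf L ⊔ (⁅Y, X⁆ : Subgroup G).subgroupOf L ⊔ X.subgroupOf L = ⊤ := by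
    rw [← Subgroup.subgroupOf_sup hKL hY1L, ← Subgroup.subgroupOf_sup (sup_le hKL hY1L) hXL,
      Subgroup.subgroupOf_self]
  have hcK : Nat.card (K.subgroupOf L) = Nat.card K :=
    Cfsg.Agent.Helper34.BG.card_subgroupOf_of_le hKL
  have hcX : Nat.card (X.subgroupOf L) = Nat.card X :=
    Cfsg.Agent.Helper34.BG.card_subgroupOf_of_le hXL
  have hcomm : (⁅Y, X⁆ : Subgroup G).subgroupOf L ≤
      ⁅(⁅Y, X⁆ : Subgroup G).subgroupOf L, X.subgroupOf L⁆ := by
    rw [Cfsg.Agent.Helper54.Crit.subgroupOf_commutator hY1L hXL, hY1comm]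
  have hmain := core hLodd (K.subgroupOf L) ((⁅Y, X⁆ : Subgroup G).subgroupOf L) (X.subgroupOf L)
    (subgroupOf_le_normalizer L hXY1) htop t (hY1t.comap_subtype)
    (by rw [hcX]; exact hX) (by rw [hcK]; exact hKt) (by rw [hcK, hcX]; exact hKX)
    (by rw [hcX]; exact hXt) (subgroupOf_inf_centralizer_eq_bot L hXL hfpf)
    (subgroupOf_inf_centralizer_eq_bot L hXL hY1fix) hcomm
  intro y hy
  rw [mem_centralizer_iff]
  intro k hk
  have hy' : (⟨y, hY1L hy⟩ : ↥L) ∈ (⁅Y, X⁆ : Subgroup G).subgroupOf L := mem_subgroupOf.mpr hy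
  have hk' : (⟨k, hKL hk⟩ : ↥L) ∈ K.subgroupOf L := mem_subgroupOf.mpr hk
  have := mem_centralizer_iff.mp (hmain hy') _ hk'
  simpa using congrArg Subtype.val this


/-- Contrapositive form: if the "kernel" `Y = [Y, X]` acts without fixed points on `K ≠ 1`, then the
"complement" `X` (of prime order) has nontrivial fixed points on `K`. -/
theorem inf_centralizer_ne_bot_of_kernel_fpf {G : Type*} [Group G] [Finite G]
    (hodd : Odd (Nat.card G)) (H : Subgroup G) (hH : Group.IsSolvable ↥H) (K Y X : Subgroup G)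
    (hKH : K ≤ H) (hYH : Y ≤ H) (hXH : X ≤ H) (hYK : Y ≤ normalizer (K : Set G))
    (hXK : X ≤ normalizer (K : Set G)) (hXY : X ≤ normalizer (Y : Set G)) (t : ℕ)
    [ht : Fact t.Prime] (hYt : IsPGroup t Y) (hYc : IsMulCommutative ↥Y)
    (hX : (Nat.card X).Prime) (hKt : (Nat.card K).Coprime t)
    (hKX : (Nat.card K).Coprime (Nat.card X)) (hXt : Nat.card X ≠ t)
    (hYX : Y ≤ ⁅Y, X⁆) (hCY : K ⊓ centralizer (Y : Set G) = ⊥) (hK1 : K ≠ ⊥) :
    K ⊓ centralizer (X : Set G) ≠ ⊥ := by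
  intro hfpf
  have h := comm_le_centralizer_of_fpf hodd H hH K Y X hKH hYH hXH hYK hXK hXY t hYt hYc hX hKt
    hKX hXt hfpf
  apply hK1
  rw [eq_bot_iff, ← hCY]
  intro k hk
  refine Subgroup.mem_inf.mpr ⟨hk, ?_⟩
  rw [mem_centralizer_iff]
  intro y hy
  exact (mem_centralizer_iff.mp (h (hYX hy)) k hk).symm

end Cfsg.Agent.Helper69.BG11d
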