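import Cfsg.Agent.Lib.Helper2.SR0

/-!
# SR (A5) (A6) (A7) (helper69, for helper2's server, S2281): `QQ H e0` is an additive subgroup, stable under
the stabilizer of `e0` in `H`, and closed under the transvection moves.
-/

set_option autoImplicit false

namespace Cfsg.Agent.Helper69.SR

open Matrix Cfsg Cfsg.Agent.Helper13 Cfsg.Agent.Helper84.SpRoot Cfsg.Agent.Helper5.SpAut
open Cfsg.Agent.Helper2.SR

section A
variable {F : Type*} [Field F] {n : ℕ}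
  {H : Subgroup (Matrix.symplecticGroup (Fin n) F)} {e0 : Fin n ⊕ Fin n → F}

theorem a5_zero : (0 : Fin n ⊕ Fin n → F) ∈ QQ H e0 :=
  ⟨sympForm_zero_left e0, 0, by rw [eich_one]; exact H.one_mem⟩

theorem a5_add {w w' : Fin n ⊕ Fin n → F} (hw : w ∈ QQ H e0) (hw' : w' ∈ QQ H e0) :
    w + w' ∈ QQ H e0 := by
  obtain ⟨h, c, hc⟩ := hw
  obtain ⟨h', c', hc'⟩ := hw'
  refine ⟨by rw [sympForm_add_left, h, h', add_zero], c + c' + Cfsg.sympForm n F w' w, ?_⟩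
  rw [← eich_mul h h']
  exact H.mul_mem hc hc'

theorem a5_neg {w : Fin n ⊕ Fin n → F} (hw : w ∈ QQ H e0) : -w ∈ QQ H e0 := by
  obtain ⟨h, c, hc⟩ := hw
  have hn : Cfsg.sympForm n F (-w) e0 = 0 := by rw [sympForm_neg_left, h, neg_zero]
  refine ⟨hn, -c, ?_⟩
  have h1 : eich e0 w c * eich e0 (-w) (-c) = 1 := by
    rw [eich_mul h hn, sympForm_neg_left, sympForm_self, neg_zero, add_neg_cancel, add_zero,
      add_neg_cancel, eich_one]
  have h2 : eich e0 (-w) (-c) = (eich e0 w c)⁻¹ := (inv_eq_of_mul_eq_one_right h1).symm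
  rw [h2]
  exact H.inv_mem hc

/-- (A5) -/
theorem QQ_addsub : ∃ S : AddSubgroup (Fin n ⊕ Fin n → F), (S : Set (Fin n ⊕ Fin n → F)) = QQ H e0 :=
  ⟨{ carrier := QQ H e0
     zero_mem' := a5_zero
     add_mem' := fun hw hw' => a5_add hw hw'
     neg_mem' := fun hw => a5_neg hw }, rfl⟩

/-- (A6) -/
theorem QQ_stab {w : Fin n ⊕ Fin n → F} (hw : w ∈ QQ H e0)
    {h : Matrix.symplecticGroup (Fin n) F} (hh : h ∈ H) (hfix : h.val *ᵥ e0 = e0) :
    h.val *ᵥ w ∈ QQ H e0 := by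
  obtain ⟨h0, c, hc⟩ := hw
  refine ⟨?_, c, ?_⟩
  · have h1 := sympForm_mulVec h.2 w e0
    rw [hfix] at h1
    rw [h1, h0]
  · have h1 := conj_eich h h0 c
    rw [hfix] at h1
    rw [← h1]
    exact H.mul_mem (H.mul_mem hh hc) (H.inv_mem hh)

/-- (A7) -/
theorem QQ_tv {w y : Fin n ⊕ Fin n → F} (hw : w ∈ QQ H e0) (hy : y ∈ Orb H e0)
    (hy0 : Cfsg.sympForm n F y e0 = 0) {c : F} (hc : c ∈ MM H e0) :
    (c * Cfsg.sympForm n F w y) • y ∈ QQ H e0 := by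
  obtain ⟨g, hg, rfl⟩ := hy
  have hT : sympT (g.val *ᵥ e0) c ∈ H := by
    rw [← conj_sympT g e0 c]
    exact H.mul_mem (H.mul_mem hg hc) (H.inv_mem hg)
  have hfix : (sympT (g.val *ᵥ e0) c).val *ᵥ e0 = e0 := by
    rw [sympT_act, sympForm_swap, hy0, neg_zero, mul_zero, zero_smul, add_zero]
  have h1 := QQ_stab hw hT hfix
  rw [sympT_act] at h1
  have h2 := a5_add h1 (a5_neg hw)
  have e : w + (c * Cfsg.sympForm n F w (g.val *ᵥ e0)) • (g.val *ᵥ e0) + -w =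
      (c * Cfsg.sympForm n F w (g.val *ᵥ e0)) • (g.val *ᵥ e0) := by abel
  rwa [e] at h2

end A

end Cfsg.Agent.Helper69.SR
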