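import Mathlib

/-!
# O2520 / S3C sub-server (helper20), piece Q4: Burnside's fusion lemma in contrapositive form.
-/

set_option autoImplicit false

namespace Cfsg.Agent.Helper69.O2520

universe u

/-- (Q4) -/
theorem s3c_not_isConj {G : Type u} [Group G] [Finite G] (P : Sylow 3 G)
    (hC : Subgroup.centralizer ((P : Subgroup G) : Set G) = (P : Subgroup G)) (z z' : G)
    (hz : z ∈ (P : Subgroup G)) (hz' : z' ∈ (P : Subgroup G))
    (hnorm : ∀ g ∈ Subgroup.normalizer ((P : Subgroup G) : Set G), g * z * g⁻¹ ≠ z') :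
    ¬ IsConj z z' := by
  intro hconj
  obtain ⟨c, hc⟩ := isConj_iff.mp hconj
  have : Fact (Nat.Prime 3) := ⟨Nat.prime_three⟩
  have hx : z ∈ Subgroup.centralizer ((P : Subgroup G) : Set G) := by rw [hC]; exact hz
  have hy : (c⁻¹)⁻¹ * z * c⁻¹ ∈ Subgroup.centralizer ((P : Subgroup G) : Set G) := by
    rw [inv_inv, hc, hC]; exact hz'
  obtain ⟨n, hn, hn2⟩ := P.conj_eq_normalizer_conj_of_mem_centralizer z c⁻¹ hx hy
  rw [inv_inv, hc] at hn2
  have hn' : n⁻¹ ∈ Subgroup.normalizer ((P : Subgroup G) : Set G) := inv_mem hn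
  apply hnorm n⁻¹ hn'
  rw [inv_inv]
  exact hn2.symm

end Cfsg.Agent.Helper69.O2520
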