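import Mathlib
import Cfsg.Agent.Lib.Helper7.M11LADefs

/-!
# M11LA piece (K11) for helper7's S0435 server: Case I structure of `N(P)`.
Also a few small tools on a subgroup `P = ⟨y⟩` of order 5 reused by piece (K12).
-/

set_option autoImplicit false

namespace Cfsg.Agent.Helper69.M11LA

open Subgroup
open Cfsg.Agent.Helper7.M11LA

variable {G : Type*} [Group G]

/-- if `s` inverts `y` then it inverts every power of `y`. -/
theorem inv_on_zpowers {s y : G} (h : s * y * s⁻¹ = y⁻¹) {p : G} (hp : p ∈ zpowers y) :
    s * p * s⁻¹ = p⁻¹ := by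
  obtain ⟨k, rfl⟩ := mem_zpowers_iff.mp hp
  rw [← conj_zpow, h, inv_zpow]

/-- if `s` commutes with `y` then it commutes with every power of `y`. -/
theorem comm_on_zpowers {s y : G} (h : s * y * s⁻¹ = y) {p : G} (hp : p ∈ zpowers y) :
    s * p * s⁻¹ = p := by
  obtain ⟨k, rfl⟩ := mem_zpowers_iff.mp hp
  rw [← conj_zpow, h]

theorem invol_mul_self {s : G} (hs : orderOf s = 2) : s * s = 1 := by
  rw [← pow_two, ← hs]; exact pow_orderOf_eq_one s

theorem invol_inv {s : G} (hs : orderOf s = 2) : s⁻¹ = s :=
  inv_eq_of_mul_eq_one_left (invol_mul_self hs)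

theorem invol_ne_one {s : G} (hs : orderOf s = 2) : s ≠ 1 := by
  rintro rfl; simp at hs

/-- a subgroup of order 5 is generated by any of its elements of order 5. -/
theorem eq_zpowers_of_card_five [Finite G] (P : Subgroup G) (hP : Nat.card P = 5) {y : G}
    (hy : orderOf y = 5) (hyP : y ∈ P) : P = zpowers y := by
  symm
  apply Subgroup.eq_of_le_of_card_ge (zpowers_le.mpr hyP)
  rw [Nat.card_zpowers, hy, hP]

/-- a subgroup of order 5 contains an element of order 5. -/
theorem exists_order_five [Finite G] (P : Subgroup G) (hP : Nat.card P = 5) :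
    ∃ y ∈ P, orderOf y = 5 := by
  haveI : Fact (Nat.Prime 5) := ⟨by norm_num⟩
  obtain ⟨x, hx⟩ := exists_prime_orderOf_dvd_card' (G := P) 5 (by rw [hP])
  exact ⟨x.1, x.2, by rw [Subgroup.orderOf_coe, hx]⟩

/-- an involution that maps `y` (of order 5) into `⟨y⟩` centralizes or inverts `y`. -/
theorem invol_comm_or_inverts {y s : G} (hy : orderOf y = 5) (hs : orderOf s = 2)
    (hmem : s * y * s⁻¹ ∈ zpowers y) : s * y * s⁻¹ = y ∨ s * y * s⁻¹ = y⁻¹ := by
  have h5 : y ^ 5 = 1 := by rw [← hy]; exact pow_orderOf_eq_one y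
  obtain ⟨k, hk⟩ := mem_zpowers_iff.mp hmem
  have hk' : y ^ (k % 5) = s * y * s⁻¹ := by
    rw [← hk]
    have := zpow_mod_orderOf y k
    rw [hy] at this
    exact_mod_cast this
  have h0 : 0 ≤ k % 5 := Int.emod_nonneg _ (by norm_num)
  have h1 : k % 5 < 5 := Int.emod_lt_of_pos _ (by norm_num)
  obtain ⟨r, hr5, hr⟩ : ∃ r : ℕ, r < 5 ∧ y ^ r = s * y * s⁻¹ := by
    refine ⟨(k % 5).toNat, by omega, ?_⟩
    rw [← zpow_natCast, Int.toNat_of_nonneg h0]
    exact hk'
  have hss := invol_mul_self hs
  have hsi := invol_inv hs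
  have hyy : y ^ (r * r) = y ^ 1 := by
    rw [pow_one, pow_mul, hr, conj_pow, hr, hsi]
    calc s * (s * y * s) * s = (s * s) * y * (s * s) := by group
      _ = y := by rw [hss, one_mul, mul_one]
  rw [pow_eq_pow_iff_modEq, hy] at hyy
  interval_cases r
  · exact absurd hyy (by decide)
  · left; rw [← hr, pow_one]
  · exact absurd hyy (by decide)
  · exact absurd hyy (by decide)
  · right
    rw [← hr]
    apply eq_inv_of_mul_eq_one_left
    rw [← pow_succ]; exact h5

/-- the centralizer of a generator of `P` normalizes `P`. -/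
theorem centralizer_le_normalizer_zpowers (y : G) :
    centralizer ({y} : Set G) ≤ normalizer ((zpowers y : Subgroup G) : Set G) := by
  intro g hg
  have hgy : g * y * g⁻¹ = y := by
    have := mem_centralizer_iff.mp hg y (Set.mem_singleton y)
    rw [← this]; group
  have hgy' : g⁻¹ * y * g⁻¹⁻¹ = y := by
    have := mem_centralizer_iff.mp hg y (Set.mem_singleton y)
    rw [inv_inv, mul_assoc, this]; group
  rw [mem_normalizer_iff]
  intro h
  constructor
  · intro hh
    rw [comm_on_zpowers hgy hh]; exact hh
  · intro hh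
    have := comm_on_zpowers hgy' hh
    have h2 : g⁻¹ * (g * h * g⁻¹) * g⁻¹⁻¹ = h := by group
    rw [h2] at this
    rw [this]; exact hh

variable [Finite G]

/-- Case I structure of `N(⟨y⟩)`, `y` of order 5 commuting with no involution. -/
theorem caseI_core (P : Subgroup G) (hP : Nat.card P = 5) (y : G) (hyP : y ∈ P) (hy : orderOf y = 5)
    (hN : Nat.card (normalizer (P : Set G)) = 20)
    (hI' : ∀ z : G, orderOf z = 2 → ¬ Commute z y) : NPI P := by
  haveI : Fact (Nat.Prime 2) := ⟨Nat.prime_two⟩
  have hPy : P = zpowers y := eq_zpowers_of_card_five P hP hy hyP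
  -- (F1) every involution of N inverts y
  have F1 : ∀ s : G, s ∈ normalizer (P : Set G) → orderOf s = 2 → s * y * s⁻¹ = y⁻¹ := by
    intro s hsN hs
    have hmem : s * y * s⁻¹ ∈ zpowers y := by
      rw [← hPy]; exact (mem_normalizer_iff.mp hsN y).mp hyP
    rcases invol_comm_or_inverts hy hs hmem with h | h
    · exfalso
      apply hI' s hs
      show s * y = y * s
      calc s * y = (s * y * s⁻¹) * s := by group
        _ = y * s := by rw [h]
    · exact h
  -- the centralizer of y is P
  have hPC : P ≤ centralizer ({y} : Set G) := by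
    rw [hPy, zpowers_le]
    exact mem_centralizer_iff.mpr (fun h hh => by rw [Set.mem_singleton_iff.mp hh])
  have hCN : centralizer ({y} : Set G) ≤ normalizer (P : Set G) := by
    rw [hPy]; exact centralizer_le_normalizer_zpowers y
  have hCcard : Nat.card (centralizer ({y} : Set G)) = 5 := by
    have h20 : Nat.card (centralizer ({y} : Set G)) ∣ 20 := hN ▸ card_dvd_of_le hCN
    have h5 : 5 ∣ Nat.card (centralizer ({y} : Set G)) := hP ▸ card_dvd_of_le hPC
    have h2 : ¬ 2 ∣ Nat.card (centralizer ({y} : Set G)) := by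
      intro h2
      obtain ⟨c, hc⟩ := exists_prime_orderOf_dvd_card' (G := centralizer ({y} : Set G)) 2 h2
      apply hI' c.1 (by rw [Subgroup.orderOf_coe, hc])
      exact (mem_centralizer_iff.mp c.2 y (Set.mem_singleton y)).symm
    obtain ⟨m, hm⟩ := h5
    have hm4 : m ∣ 4 := by
      have : 5 * m ∣ 5 * 4 := by rw [← hm]; exact h20
      exact Nat.dvd_of_mul_dvd_mul_left (by norm_num) this
    have hm4' : m ≤ 4 := Nat.le_of_dvd (by norm_num) hm4
    interval_cases m
    · simp at hm4
    · omega
    · exfalso; apply h2; rw [hm]; decide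
    · exfalso; revert hm4; decide
    · exfalso; apply h2; rw [hm]; decide
  have hCP : P = centralizer ({y} : Set G) :=
    Subgroup.eq_of_le_of_card_ge hPC (by rw [hCcard, hP])
  -- (F2) an element of order 4
  obtain ⟨f, hfN, hf⟩ : ∃ f : G, f ∈ normalizer (P : Set G) ∧ orderOf f = 4 := by
    obtain ⟨K, hK⟩ := Sylow.exists_subgroup_card_pow_prime (G := normalizer (P : Set G)) 2 (n := 2)
      (by rw [hN]; decide)
    have hK4 : Nat.card K = 4 := by rw [hK]; norm_num
    have hord : ∀ x : K, x ≠ 1 → orderOf x = 2 ∨ orderOf x = 4 := by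
      intro x hx
      have hd : orderOf x ∣ 2 ^ 2 := by rw [← hK]; exact orderOf_dvd_natCard x
      obtain ⟨m, hm, hxm⟩ := (Nat.dvd_prime_pow Nat.prime_two).mp hd
      interval_cases m
      · exfalso; apply hx; rw [← orderOf_eq_one_iff]; simpa using hxm
      · left; simpa using hxm
      · right; simpa using hxm
    obtain ⟨a, ha⟩ := exists_prime_orderOf_dvd_card' (G := K) 2 (by rw [hK4]; decide)
    have hza : zpowers a ≠ ⊤ := by
      intro h
      have h1 : Nat.card (zpowers a) = 2 := by rw [Nat.card_zpowers, ha]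
      rw [h, Subgroup.card_top, hK4] at h1
      omega
    obtain ⟨b, hb⟩ : ∃ b : K, b ∉ zpowers a := by
      by_contra hcon
      push Not at hcon
      exact hza (eq_top_iff.mpr (fun x _ => hcon x))
    have hb1 : b ≠ 1 := by rintro rfl; exact hb (one_mem _)
    have hab1 : a * b ≠ 1 := by
      intro h
      apply hb
      have : b = a⁻¹ := (inv_eq_of_mul_eq_one_right h).symm
      rw [this]; exact inv_mem (mem_zpowers a)
    -- transfer to G
    have tr : ∀ x : K, orderOf ((x : normalizer (P : Set G)) : G) = orderOf x := by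
      intro x; rw [Subgroup.orderOf_coe, Subgroup.orderOf_coe]
    rcases hord b hb1 with hb2 | hb4
    · rcases hord (a * b) hab1 with hab2 | hab4
      · exfalso
        have ha' := F1 ((a : normalizer (P : Set G)) : G) (a : normalizer (P : Set G)).2
          (by rw [tr, ha])
        have hb' := F1 ((b : normalizer (P : Set G)) : G) (b : normalizer (P : Set G)).2
          (by rw [tr, hb2])
        have hab' : orderOf (((a * b : K) : normalizer (P : Set G)) : G) = 2 := by rw [tr, hab2]
        apply hI' _ hab'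
        show (((a * b : K) : normalizer (P : Set G)) : G) * y = y * _
        simp only [Subgroup.coe_mul]
        set a' := ((a : normalizer (P : Set G)) : G)
        set b' := ((b : normalizer (P : Set G)) : G)
        have hb'' : b' * y = y⁻¹ * b' := by
          calc b' * y = (b' * y * b'⁻¹) * b' := by group
            _ = y⁻¹ * b' := by rw [hb']
        have ha'' : a' * y⁻¹ = y * a' := by
          have : a' * y⁻¹ * a'⁻¹ = y := by
            have h := congrArg (·⁻¹) ha'
            simp only [mul_inv_rev, inv_inv] at h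
            rw [← mul_assoc] at h
            exact h
          calc a' * y⁻¹ = (a' * y⁻¹ * a'⁻¹) * a' := by group
            _ = y * a' := by rw [this]
        calc a' * b' * y = a' * (b' * y) := by group
          _ = a' * (y⁻¹ * b') := by rw [hb'']
          _ = (a' * y⁻¹) * b' := by group
          _ = (y * a') * b' := by rw [ha'']
          _ = y * (a' * b') := by group
      · exact ⟨_, ((a * b : K) : normalizer (P : Set G)).2, by rw [tr, hab4]⟩
    · exact ⟨_, (b : normalizer (P : Set G)).2, by rw [tr, hb4]⟩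
  -- t = f^2
  set t := f ^ 2 with ht_def
  have ht : orderOf t = 2 := by
    rw [ht_def, orderOf_pow_of_dvd (by norm_num) (by rw [hf]; decide), hf]
  have htN : t ∈ normalizer (P : Set G) := pow_mem hfN 2
  have htt := invol_mul_self ht
  have hty : t * y * t⁻¹ = y⁻¹ := F1 t htN ht
  have htP : ∀ p ∈ P, t * p * t⁻¹ = p⁻¹ := by
    intro p hp; rw [hPy] at hp; exact inv_on_zpowers hty hp
  have hP5 : ∀ p ∈ P, p ^ 5 = 1 := by
    intro p hp
    have := pow_card_eq_one' (G := P) (x := ⟨p, hp⟩)
    rw [hP] at this
    have h2 := congrArg Subtype.val this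
    simpa using h2
  have htnP : t ∉ P := by
    intro h
    have h1 := hP5 t h
    have h2 : orderOf t ∣ 5 := orderOf_dvd_of_pow_eq_one h1
    rw [ht] at h2; revert h2; decide
  -- involutions of N are P t
  have key : ∀ s : G, s ∈ normalizer (P : Set G) → orderOf s = 2 → s * t ∈ P := by
    intro s hsN hs
    rw [hCP, mem_centralizer_iff]
    intro h hh
    rw [Set.mem_singleton_iff.mp hh]
    have hsy := F1 s hsN hs
    have h1 : t * y = y⁻¹ * t := by
      calc t * y = (t * y * t⁻¹) * t := by group
        _ = y⁻¹ * t := by rw [hty]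
    have h2 : s * y⁻¹ = y * s := by
      have : s * y⁻¹ * s⁻¹ = y := by
        have h := congrArg (·⁻¹) hsy
        simp only [mul_inv_rev, inv_inv] at h
        rw [← mul_assoc] at h
        exact h
      calc s * y⁻¹ = (s * y⁻¹ * s⁻¹) * s := by group
        _ = y * s := by rw [this]
    calc y * (s * t) = (y * s) * t := by group
      _ = (s * y⁻¹) * t := by rw [h2]
      _ = s * (y⁻¹ * t) := by group
      _ = s * (t * y) := by rw [h1]
      _ = s * t * y := by group
  have invol_of : ∀ p ∈ P, orderOf (p * t) = 2 ∧ p * t ∈ normalizer (P : Set G) := by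
    intro p hp
    refine ⟨?_, mul_mem (le_normalizer hp) htN⟩
    apply orderOf_eq_prime
    · have h1 : t * p = p⁻¹ * t := by
        calc t * p = (t * p * t⁻¹) * t := by group
          _ = p⁻¹ * t := by rw [htP p hp]
      calc (p * t) ^ 2 = p * (t * p) * t := by rw [pow_two]; group
        _ = p * (p⁻¹ * t) * t := by rw [h1]
        _ = t * t := by group
        _ = 1 := htt
    · intro h
      apply htnP
      have : t = p⁻¹ := (inv_eq_of_mul_eq_one_right h).symm
      rw [this]; exact inv_mem hp
  refine ⟨f, hfN, hf, ?_, ?_⟩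
  · -- count
    show Nat.card {s : G // orderOf s = 2 ∧ s ∈ normalizer (P : Set G)} = 5
    rw [← hP]
    apply Nat.card_congr
    refine ⟨fun s => ⟨s.1 * t, key s.1 s.2.2 s.2.1⟩,
      fun p => ⟨p.1 * t, (invol_of p.1 p.2).1, (invol_of p.1 p.2).2⟩, ?_, ?_⟩
    · intro s
      apply Subtype.ext
      show s.1 * t * t = s.1
      rw [mul_assoc, htt, mul_one]
    · intro p
      apply Subtype.ext
      show p.1 * t * t = p.1
      rw [mul_assoc, htt, mul_one]
  · intro s hsN hs
    refine ⟨⟨(s * t) ^ 3, pow_mem (key s hsN hs) 3, ?_⟩, ?_⟩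
    · set q := s * t with hq
      have hqP := key s hsN hs
      have hq5 := hP5 q hqP
      have hp3 : q ^ 3 ∈ P := pow_mem hqP 3
      have h1 : t * (q ^ 3)⁻¹ = q ^ 3 * t := by
        have := htP _ (inv_mem hp3)
        rw [inv_inv] at this
        calc t * (q ^ 3)⁻¹ = (t * (q ^ 3)⁻¹ * t⁻¹) * t := by group
          _ = q ^ 3 * t := by rw [this]
      calc q ^ 3 * f ^ 2 * (q ^ 3)⁻¹ = q ^ 3 * (t * (q ^ 3)⁻¹) := by rw [← ht_def]; group
        _ = q ^ 3 * (q ^ 3 * t) := by rw [h1]
        _ = q ^ 5 * q * t := by group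
        _ = q * t := by rw [hq5, one_mul]
        _ = s * (t * t) := by rw [hq]; group
        _ = s := by rw [htt, mul_one]
    · intro p hp
      rw [hPy] at hp
      exact inv_on_zpowers (F1 s hsN hs) hp

/-- (K11) Case I structure of `N(P)`. -/
theorem caseI_np (P : Subgroup G) (hP : Nat.card P = 5)
    (hN : Nat.card (normalizer (P : Set G)) = 20)
    (hI : ∀ z y : G, orderOf z = 2 → orderOf y = 5 → ¬ Commute z y) : NPI P := by
  obtain ⟨y, hyP, hy⟩ := exists_order_five P hP
  exact caseI_core P hP y hyP hy hN (fun z hz => hI z y hz hy)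

end Cfsg.Agent.Helper69.M11LA
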