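import Mathlib
import Cfsg.Agent.Lib.Helper7.M11LADefs
import Cfsg.Agent.Lib.Helper69.M11LAK11

/-!
# M11LA piece (K12) for helper7's S0435 server: Case II structure of `N(P)`.
-/

set_option autoImplicit false

namespace Cfsg.Agent.Helper69.M11LA

open Subgroup hiding inv
open Cfsg.Agent.Helper7.M11LA

variable {G : Type*} [Group G]

/-- an element whose square centralizes `y` (of order 5) and which maps `y` into `⟨y⟩`
centralizes or inverts `y`. -/
theorem comm_or_inverts_of_sq {y g : G} (hy : orderOf y = 5)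
    (hgg : (g * g) * y * (g * g)⁻¹ = y) (hmem : g * y * g⁻¹ ∈ zpowers y) :
    g * y * g⁻¹ = y ∨ g * y * g⁻¹ = y⁻¹ := by
  have h5 : y ^ 5 = 1 := by rw [← hy]; exact pow_orderOf_eq_one y
  obtain ⟨k, hk⟩ := mem_zpowers_iff.mp hmem
  have hk' : y ^ (k % 5) = g * y * g⁻¹ := by
    rw [← hk]
    have := zpow_mod_orderOf y k
    rw [hy] at this
    exact_mod_cast this
  have h0 : 0 ≤ k % 5 := Int.emod_nonneg _ (by norm_num)
  have h1 : k % 5 < 5 := Int.emod_lt_of_pos _ (by norm_num)
  obtain ⟨r, hr5, hr⟩ : ∃ r : ℕ, r < 5 ∧ y ^ r = g * y * g⁻¹ := by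
    refine ⟨(k % 5).toNat, by omega, ?_⟩
    rw [← zpow_natCast, Int.toNat_of_nonneg h0]
    exact hk'
  have hyy : y ^ (r * r) = y ^ 1 := by
    rw [pow_one, pow_mul, hr, conj_pow, hr]
    calc g * (g * y * g⁻¹) * g⁻¹ = (g * g) * y * (g * g)⁻¹ := by group
      _ = y := hgg
  rw [pow_eq_pow_iff_modEq, hy] at hyy
  interval_cases r
  · exact absurd hyy (by decide)
  · left; rw [← hr, pow_one]
  · exact absurd hyy (by decide)
  · exact absurd hyy (by decide)
  · right
    rw [← hr]
    apply eq_inv_of_mul_eq_one_left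
    rw [← pow_succ]; exact h5

theorem conj_eq_of_comm {g y : G} (h : y * g = g * y) : g * y * g⁻¹ = y := by
  rw [← h]; group

theorem comm_of_conj_eq {g y : G} (h : g * y * g⁻¹ = y) : y * g = g * y := by
  calc y * g = (g * y * g⁻¹) * g := by rw [h]
    _ = g * y := by group

theorem conj_inv_of_conj_inv {g y : G} (h : g * y * g⁻¹ = y⁻¹) : g * y⁻¹ * g⁻¹ = y := by
  have h' := congrArg (·⁻¹) h
  simp only [mul_inv_rev, inv_inv] at h'
  rw [← mul_assoc] at h'
  exact h'

variable [Finite G]

theorem relIndex_two_of_card {H K : Subgroup G} (hHK : H ≤ K)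
    (h : Nat.card K = 2 * Nat.card H) : H.relIndex K = 2 := by
  have h1 := (H.subgroupOf K).card_mul_index
  rw [Nat.card_congr (subgroupOfEquivOfLe hHK).toEquiv, h, mul_comm 2] at h1
  exact Nat.eq_of_mul_eq_mul_left Nat.card_pos h1

omit [Finite G] in
theorem mul_mem_iff_of_relIndex_two {H K : Subgroup G} (h : H.relIndex K = 2) {a b : G}
    (ha : a ∈ K) (hb : b ∈ K) : a * b ∈ H ↔ (a ∈ H ↔ b ∈ H) := by
  have := mul_mem_iff_of_index_two (H := H.subgroupOf K) h (a := ⟨a, ha⟩) (b := ⟨b, hb⟩)
  simpa [mem_subgroupOf] using this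

/-- (K12) Case II structure of `N(P)`. -/
theorem caseII_np (F : Facts G) (z y : G) (hz : orderOf z = 2) (hy : orderOf y = 5)
    (hzy : Commute z y) (P : Sylow 5 G) (hyP : y ∈ (P : Subgroup G)) :
    (∃ f : G, orderOf f = 4 ∧ f ^ 2 = z ∧ inv (normalizer ((P : Subgroup G) : Set G)) = 1) ∨
    (∃ u : G, orderOf u = 2 ∧ u ≠ z ∧ Commute u z ∧ u * y * u⁻¹ = y⁻¹ ∧
      inv (normalizer ((P : Subgroup G) : Set G)) = 11) := by
  haveI : Fact (Nat.Prime 2) := ⟨Nat.prime_two⟩
  haveI : Fact (Nat.Prime 5) := ⟨by norm_num⟩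
  haveI := F.simple
  have hG := F.card
  have hN := F.np P
  -- |P| = 5
  have hP : Nat.card (P : Subgroup G) = 5 := by
    obtain ⟨n, hn⟩ := P.2.exists_card_eq
    have hdvd : Nat.card (P : Subgroup G) ∣ 7920 := hG ▸ card_subgroup_dvd_card (P : Subgroup G)
    have hy5 : 5 ∣ Nat.card (P : Subgroup G) := by
      have := (P : Subgroup G).orderOf_dvd_natCard hyP
      rwa [hy] at this
    rw [hn] at hdvd hy5 ⊢
    rcases n with _ | _ | n
    · exfalso; revert hy5; decide
    · norm_num
    · exfalso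
      have : 5 ^ 2 ∣ 7920 := (pow_dvd_pow 5 (by omega)).trans hdvd
      revert this; decide
  set N := normalizer ((P : Subgroup G) : Set G) with hNdef
  have hPy : (P : Subgroup G) = zpowers y := eq_zpowers_of_card_five _ hP hy hyP
  have hP5 : ∀ p ∈ (P : Subgroup G), p ^ 5 = 1 := by
    intro p hp
    have := pow_card_eq_one' (G := (P : Subgroup G)) (x := ⟨p, hp⟩)
    rw [hP] at this
    have h2 := congrArg Subtype.val this
    simpa using h2
  have not_mem_P_of_invol : ∀ c : G, orderOf c = 2 → c ∉ (P : Subgroup G) := by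
    intro c hc h
    have h2 : orderOf c ∣ 5 := orderOf_dvd_of_pow_eq_one (hP5 c h)
    rw [hc] at h2; revert h2; decide
  have sq_eq_one_P : ∀ p ∈ (P : Subgroup G), p * p = 1 → p = 1 := by
    intro p hp h
    have h5 := hP5 p hp
    calc p = p ^ 5 * ((p * p)⁻¹ * (p * p)⁻¹) := by group
      _ = 1 := by rw [h5, h]; group
  set C := centralizer ({y} : Set G) with hCdef
  have memC : ∀ g : G, g ∈ C ↔ g * y * g⁻¹ = y := by
    intro g
    rw [hCdef, mem_centralizer_iff]
    constructor
    · intro h; exact conj_eq_of_comm (h y (Set.mem_singleton y))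
    · intro h a ha; rw [Set.mem_singleton_iff.mp ha]; exact comm_of_conj_eq h
  have hPC : (P : Subgroup G) ≤ C := by
    rw [hPy, zpowers_le]
    exact (memC y).mpr (by group)
  have hCN : C ≤ N := by
    rw [hNdef, hPy]; exact centralizer_le_normalizer_zpowers y
  have hzC : z ∈ C := (memC z).mpr (conj_eq_of_comm hzy.symm.eq)
  have hzN : z ∈ N := hCN hzC
  have hzz := invol_mul_self hz
  have hzi := invol_inv hz
  -- |C| = 10
  have hCcard : Nat.card C = 10 := by
    have h20 : Nat.card C ∣ 20 := hN ▸ card_dvd_of_le hCN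
    have h5 : 5 ∣ Nat.card C := hP ▸ card_dvd_of_le hPC
    have h2 : 2 ∣ Nat.card C := hz ▸ C.orderOf_dvd_natCard hzC
    have h10 : 10 ∣ Nat.card C :=
      Nat.Coprime.mul_dvd_of_dvd_of_dvd (by decide : Nat.Coprime 2 5) h2 h5
    obtain ⟨m, hm⟩ := h10
    have hm2 : m ∣ 2 := by
      have : 10 * m ∣ 10 * 2 := by rw [← hm]; exact h20
      exact Nat.dvd_of_mul_dvd_mul_left (by norm_num) this
    have hm2' : m ≤ 2 := Nat.le_of_dvd (by norm_num) hm2
    interval_cases m
    · simp at hm2
    · omega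
    · exfalso
      -- C = N, Burnside
      have hCN' : C = N := Subgroup.eq_of_le_of_card_ge hCN (by rw [hN, hm])
      have hNC : normalizer ((P : Subgroup G) : Set G) ≤ centralizer ((P : Subgroup G) : Set G) := by
        intro g hg
        have hgC : g ∈ C := by rw [hCN']; exact hg
        rw [mem_centralizer_iff]
        intro p hp
        have hp' : p ∈ zpowers y := by rw [← hPy]; exact hp
        exact comm_of_conj_eq (comm_on_zpowers ((memC g).mp hgC) hp')
      have hcompl := MonoidHom.ker_transferSylow_isComplement' P hNC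
      have hcard := hcompl.card_mul_card
      rw [hP, hG] at hcard
      rcases (MonoidHom.normal_ker (MonoidHom.transferSylow P hNC)).eq_bot_or_eq_top with h | h
      · rw [h, Subgroup.card_bot] at hcard; omega
      · rw [h, Subgroup.card_top, hG] at hcard; omega
  have hrelCN : C.relIndex N = 2 := relIndex_two_of_card hCN (by rw [hN, hCcard])
  have hrelPC : (P : Subgroup G).relIndex C = 2 := relIndex_two_of_card hPC (by rw [hCcard, hP])
  have hznP : z ∉ (P : Subgroup G) := not_mem_P_of_invol z hz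
  -- z commutes with P
  have hzP : ∀ p ∈ (P : Subgroup G), z * p = p * z := by
    intro p hp
    have hp' : p ∈ zpowers y := by rw [← hPy]; exact hp
    exact (comm_of_conj_eq (comm_on_zpowers (conj_eq_of_comm hzy.symm.eq) hp')).symm
  -- every element of C is p or p z
  have C_form : ∀ c ∈ C, c ∈ (P : Subgroup G) ∨ c * z ∈ (P : Subgroup G) := by
    intro c hc
    by_cases h : c ∈ (P : Subgroup G)
    · left; exact h
    · right
      rw [mul_mem_iff_of_relIndex_two hrelPC hc hzC]
      exact ⟨fun h' => absurd h' h, fun h' => absurd h' hznP⟩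
  -- unique involution of C
  have uniq : ∀ c ∈ C, orderOf c = 2 → c = z := by
    intro c hc hc2
    rcases C_form c hc with h | h
    · exact absurd h (not_mem_P_of_invol c hc2)
    · have hcc := invol_mul_self hc2
      have h1 : (c * z) * (c * z) = 1 := by
        have hcomm : z * (c * z) = (c * z) * z := hzP _ h
        calc (c * z) * (c * z) = c * (z * (c * z)) := by group
          _ = c * ((c * z) * z) := by rw [hcomm]
          _ = (c * c) * (z * z) := by group
          _ = 1 := by rw [hcc, hzz, one_mul]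
      have h2 := sq_eq_one_P _ h h1
      have : c = z⁻¹ := eq_inv_of_mul_eq_one_left h2
      rw [this, hzi]
  -- elements of N \ C
  have inv_y : ∀ g ∈ N, g ∉ C → g * y * g⁻¹ = y⁻¹ := by
    intro g hg hgC
    have hgg : g * g ∈ C := by
      rw [mul_mem_iff_of_relIndex_two hrelCN hg hg]
    have hmem : g * y * g⁻¹ ∈ zpowers y := by
      rw [← hPy]; exact (mem_normalizer_iff.mp hg y).mp hyP
    rcases comm_or_inverts_of_sq hy ((memC _).mp hgg) hmem with h | h
    · exact absurd ((memC g).mpr h) hgC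
    · exact h
  have fix_z : ∀ g ∈ N, g ∉ C → g * z * g⁻¹ = z := by
    intro g hg hgC
    apply uniq
    · rw [memC]
      have h1 := conj_inv_of_conj_inv (inv_y g hg hgC)
      -- (g z g⁻¹) y (g z g⁻¹)⁻¹ = g z (g⁻¹ y g) z⁻¹ g⁻¹
      have h2 : g⁻¹ * y * g = y⁻¹ := by
        have : y = g * y⁻¹ * g⁻¹ := h1.symm
        calc g⁻¹ * y * g = g⁻¹ * (g * y⁻¹ * g⁻¹) * g := by rw [← this]
          _ = y⁻¹ := by group
      have h3 : z * y⁻¹ * z⁻¹ = y⁻¹ := by
        have := conj_eq_of_comm hzy.symm.eq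
        calc z * y⁻¹ * z⁻¹ = (z * y * z⁻¹)⁻¹ := by group
          _ = y⁻¹ := by rw [this]
      calc g * z * g⁻¹ * y * (g * z * g⁻¹)⁻¹ = g * (z * (g⁻¹ * y * g) * z⁻¹) * g⁻¹ := by group
        _ = g * (z * y⁻¹ * z⁻¹) * g⁻¹ := by rw [h2]
        _ = g * y⁻¹ * g⁻¹ := by rw [h3]
        _ = y := h1
    · rw [← MulAut.conj_apply, MulEquiv.orderOf_eq]
      exact hz
  have inv_C : ∀ g ∈ N, g ∉ C → ∀ c ∈ C, g * c * g⁻¹ = c⁻¹ := by
    intro g hg hgC c hc
    have hinvP : ∀ p ∈ (P : Subgroup G), g * p * g⁻¹ = p⁻¹ := by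
      intro p hp
      have hp' : p ∈ zpowers y := by rw [← hPy]; exact hp
      exact inv_on_zpowers (inv_y g hg hgC) hp'
    rcases C_form c hc with h | h
    · exact hinvP c h
    · have h1 := hinvP _ h
      have h2 := fix_z g hg hgC
      have hcz : c = (c * z) * z := by rw [mul_assoc, hzz, mul_one]
      have hcomm : z * (c * z) = (c * z) * z := hzP _ h
      have e1 : (g * (c * z) * g⁻¹) * (g * z * g⁻¹) = g * ((c * z) * z) * g⁻¹ := by group
      rw [← hcz] at e1
      have hzc : z * c = c * z := by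
        calc z * c = z * ((c * z) * z) := by rw [← hcz]
          _ = (z * (c * z)) * z := by group
          _ = ((c * z) * z) * z := by rw [hcomm]
          _ = c * z := by rw [← hcz]
      have hzc' : z * c⁻¹ = c⁻¹ * z := by
        calc z * c⁻¹ = c⁻¹ * (c * z) * c⁻¹ := by group
          _ = c⁻¹ * (z * c) * c⁻¹ := by rw [hzc]
          _ = c⁻¹ * z := by group
      calc g * c * g⁻¹ = (g * (c * z) * g⁻¹) * (g * z * g⁻¹) := e1.symm
        _ = (c * z)⁻¹ * z := by rw [h1, h2]
        _ = z⁻¹ * c⁻¹ * z := by group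
        _ = z * c⁻¹ * z := by rw [hzi]
        _ = c⁻¹ * z * z := by rw [hzc']
        _ = c⁻¹ := by rw [mul_assoc, hzz, mul_one]
  have sq_const : ∀ g ∈ N, g ∉ C → ∀ τ ∈ N, τ ∉ C → g * g = τ * τ := by
    intro g hg hgC τ hτ hτC
    have hc : g * τ⁻¹ ∈ C := by
      rw [mul_mem_iff_of_relIndex_two hrelCN hg (inv_mem hτ), inv_mem_iff]
      exact ⟨fun h => absurd h hgC, fun h => absurd h hτC⟩
    have h1 := inv_C τ hτ hτC _ hc
    calc g * g = (g * τ⁻¹) * (τ * (g * τ⁻¹) * τ⁻¹) * (τ * τ) := by group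
      _ = (g * τ⁻¹) * (g * τ⁻¹)⁻¹ * (τ * τ) := by rw [h1]
      _ = τ * τ := by group
  have sq_cases : ∀ g ∈ N, g ∉ C → g * g = 1 ∨ g * g = z := by
    intro g hg hgC
    have hgg : g * g ∈ C := by
      rw [mul_mem_iff_of_relIndex_two hrelCN hg hg]
    have h1 := inv_C g hg hgC _ hgg
    have h2 : g * (g * g) * g⁻¹ = g * g := by group
    rw [h2] at h1
    -- (g g)^2 = 1
    have h3 : (g * g) * (g * g) = 1 := by
      calc (g * g) * (g * g) = (g * g) * (g * g)⁻¹ := by rw [← h1]
        _ = 1 := by group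
    by_cases h : g * g = 1
    · left; exact h
    · right
      apply uniq _ hgg
      exact orderOf_eq_prime (by rw [pow_two]; exact h3) h
  -- pick τ
  obtain ⟨τ, hτ, hτC⟩ : ∃ τ ∈ N, τ ∉ C := by
    by_contra hcon
    push Not at hcon
    have hle : N ≤ C := fun g hg => hcon g hg
    have := card_dvd_of_le hle
    rw [hN, hCcard] at this
    revert this; decide
  have hz1 : z ≠ 1 := invol_ne_one hz
  have hCset : (C : Set G) ⊆ (N : Set G) := hCN
  rcases sq_cases τ hτ hτC with h1 | hzq
  · -- τ involution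
    right
    have hτ1 : τ ≠ 1 := by rintro rfl; exact hτC (one_mem _)
    have hτ2 : orderOf τ = 2 := orderOf_eq_prime (by rw [pow_two]; exact h1) hτ1
    refine ⟨τ, hτ2, ?_, ?_, inv_y τ hτ hτC, ?_⟩
    · rintro rfl; exact hτC hzC
    · exact (comm_of_conj_eq (fix_z τ hτ hτC)).symm
    · show Nat.card {t : G // orderOf t = 2 ∧ t ∈ N} = 11
      have hset : {t : G | orderOf t = 2 ∧ t ∈ N} = insert z ((N : Set G) \ (C : Set G)) := by
        ext t
        simp only [Set.mem_ofPred_eq, Set.mem_insert_iff, Set.mem_sdiff, SetLike.mem_coe]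
        constructor
        · rintro ⟨ht, htN⟩
          by_cases htC : t ∈ C
          · left; exact uniq t htC ht
          · right; exact ⟨htN, htC⟩
        · rintro (rfl | ⟨htN, htC⟩)
          · exact ⟨hz, hzN⟩
          · refine ⟨?_, htN⟩
            have ht1 : t ≠ 1 := by rintro rfl; exact htC (one_mem _)
            have : t * t = 1 := by rw [sq_const t htN htC τ hτ hτC, h1]
            exact orderOf_eq_prime (by rw [pow_two]; exact this) ht1
      have hNn : (N : Set G).ncard = 20 := by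
        rw [← Nat.card_coe_set_eq]; exact hN
      have hCn : (C : Set G).ncard = 10 := by
        rw [← Nat.card_coe_set_eq]; exact hCcard
      have hdiff := Set.ncard_sdiff_add_ncard_of_subset hCset
      rw [hNn, hCn] at hdiff
      have hzd : z ∉ (N : Set G) \ (C : Set G) := fun h => h.2 hzC
      change Nat.card ↥{t : G | orderOf t = 2 ∧ t ∈ N} = 11
      rw [Nat.card_coe_set_eq, hset, Set.ncard_insert_of_notMem hzd]
      omega
  · -- τ of order 4
    left
    have hτ4 : orderOf τ = 4 := by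
      have := orderOf_eq_prime_pow (x := τ) (p := 2) (n := 1)
        (by rw [pow_one, pow_two, hzq]; exact hz1)
        (by
          show τ ^ 2 ^ 2 = 1
          rw [show (2 : ℕ) ^ 2 = 2 * 2 by norm_num, pow_mul, pow_two τ, hzq, pow_two, hzz])
      simpa using this
    refine ⟨τ, hτ4, by rw [pow_two, hzq], ?_⟩
    show Nat.card {t : G // orderOf t = 2 ∧ t ∈ N} = 1
    rw [Nat.card_eq_one_iff_exists]
    refine ⟨⟨z, hz, hzN⟩, ?_⟩
    rintro ⟨t, ht, htN⟩
    apply Subtype.ext
    show t = z
    by_cases htC : t ∈ C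
    · exact uniq t htC ht
    · exfalso
      have h1 : t * t = z := by rw [sq_const t htN htC τ hτ hτC, hzq]
      rw [invol_mul_self ht] at h1
      exact hz1 h1.symm

end Cfsg.Agent.Helper69.M11LA
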