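import Mathlib
import Cfsg.Agent.Lib.Helper38.SL2Lift
import Cfsg.Agent.Lib.Helper38.SL2PresMain

/-!
# R1 (REL) rel_of_braid -- helper69 for helper83's R1 mini lemma server (S5022)
-/

set_option autoImplicit false

namespace Cfsg.Agent.Helper69.R1

open Cfsg.Agent.Helper38.SL2Pres

variable {Γ : Type*} [Group Γ] {p : ℕ} [Fact p.Prime]

theorem h69_pow_val_add (g : Γ) (hg : g ^ p = 1) (t u : ZMod p) :
    g ^ (t + u).val = g ^ t.val * g ^ u.val := by
  rw [ZMod.val_add, ← pow_eq_pow_mod _ hg, pow_add]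

theorem h69_pow_val_neg (g : Γ) (hg : g ^ p = 1) (t : ZMod p) :
    g ^ (-t).val = (g ^ t.val)⁻¹ := by
  apply eq_inv_of_mul_eq_one_left
  rw [← h69_pow_val_add g hg, neg_add_cancel, ZMod.val_zero, pow_zero]

theorem h69_pow_val_mul (g : Γ) (hg : g ^ p = 1) (t u : ZMod p) :
    g ^ (t * u).val = (g ^ t.val) ^ u.val := by
  rw [ZMod.val_mul, ← pow_eq_pow_mod _ hg, pow_mul]

theorem h69_braid_conj (A B : Γ) (h : A * B * A = B * A * B) :
    (A * B * A) * A * (A * B * A)⁻¹ = B := by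
  have h1 : (A * B * A) * A = B * (A * B * A) := by
    calc (A * B * A) * A = (B * A * B) * A := by rw [h]
      _ = B * (A * B * A) := by group
  rw [h1, mul_assoc, mul_inv_cancel, mul_one]

theorem h69_braid_conj_pow (A B : Γ) (h : A * B * A = B * A * B) (k : ℕ) :
    (A * B * A) * A ^ k * (A * B * A)⁻¹ = B ^ k := by
  rw [← conj_pow, h69_braid_conj A B h]

theorem rel_of_braid (a b : Γ) (ha : a ^ p = 1) (hb : b ^ p = 1)
    (hbr : ∀ t : ZMod p, t ≠ 0 →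
      a ^ t.val * (b ^ (t⁻¹).val)⁻¹ * a ^ t.val =
        (b ^ (t⁻¹).val)⁻¹ * a ^ t.val * (b ^ (t⁻¹).val)⁻¹) :
    Rel (fun t : ZMod p => a ^ t.val) (fun t : ZMod p => b ^ t.val) := by
  refine ⟨?_, ?_, ?_, ?_⟩
  · intro t u
    exact (h69_pow_val_add a ha t u).symm
  · intro t u
    exact (h69_pow_val_add b hb t u).symm
  · intro t u ht
    show (a ^ t.val * b ^ (-t⁻¹).val * a ^ t.val) * a ^ u.val *
      (a ^ t.val * b ^ (-t⁻¹).val * a ^ t.val)⁻¹ = b ^ (-(t⁻¹ ^ 2 * u)).val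
    have h1 := hbr t ht
    rw [← h69_pow_val_neg b hb] at h1
    have hu : u = t * (t⁻¹ * u) := by
      rw [← mul_assoc, mul_inv_cancel₀ ht, one_mul]
    have hXu : a ^ u.val = (a ^ t.val) ^ (t⁻¹ * u).val := by
      rw [← h69_pow_val_mul a ha, ← hu]
    rw [hXu, h69_braid_conj_pow _ _ h1, ← h69_pow_val_mul b hb]
    congr 2
    ring
  · intro t u ht
    show (b ^ t.val * a ^ (-t⁻¹).val * b ^ t.val) * b ^ u.val *
      (b ^ t.val * a ^ (-t⁻¹).val * b ^ t.val)⁻¹ = a ^ (-(t⁻¹ ^ 2 * u)).val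
    have hs : -t⁻¹ ≠ 0 := neg_ne_zero.mpr (inv_ne_zero ht)
    have h1 := hbr (-t⁻¹) hs
    have hinv : (-t⁻¹)⁻¹ = -t := by
      rw [inv_neg, inv_inv]
    rw [hinv, h69_pow_val_neg b hb t, inv_inv] at h1
    have hu : u = t * (t⁻¹ * u) := by
      rw [← mul_assoc, mul_inv_cancel₀ ht, one_mul]
    have hYu : b ^ u.val = (b ^ t.val) ^ (t⁻¹ * u).val := by
      rw [← h69_pow_val_mul b hb, ← hu]
    rw [hYu, h69_braid_conj_pow _ _ h1.symm, ← h69_pow_val_mul a ha]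
    congr 2
    ring

end Cfsg.Agent.Helper69.R1
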