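import Mathlib
import Cfsg.Prelude.Def_Transfer
import Cfsg.Agent.Lib.Helper24.CYCDefs

/-!
# CYC piece (C0) for helper24's S4016 server: a `Min` group has no normal `p`-complement.
-/

set_option autoImplicit false

namespace Cfsg.Agent.Helper69.CYC

open Subgroup Cfsg.Agent.Helper24.CYC

universe u

variable {G : Type u} [Group G] [Finite G] {p : ℕ} [Fact p.Prime]

/-- (C0) a `Min` group has no normal `p`-complement. -/
theorem not_compl_of_min (hM : Min p G) : ¬ Cfsg.HasNormalPComplement p G := by
  rintro ⟨P, N, hN, hc⟩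
  have hsim := hM.simple
  rcases hN.eq_bot_or_eq_top with h | h
  · rw [h, Subgroup.isComplement'_bot_left] at hc
    obtain ⟨a, b, hab⟩ := hM.nonab
    have hcyc := hM.cyc P
    have ha : a ∈ (P : Subgroup G) := by rw [hc]; exact Subgroup.mem_top a
    have hb : b ∈ (P : Subgroup G) := by rw [hc]; exact Subgroup.mem_top b
    have h1 := (IsCyclic.isMulCommutative (α := ↥(P : Subgroup G))).is_comm.comm ⟨a, ha⟩ ⟨b, hb⟩
    exact hab (congrArg Subtype.val h1)
  · rw [h, Subgroup.isComplement'_top_left] at hc
    exact P.ne_bot_of_dvd_card hM.pdvd hc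

end Cfsg.Agent.Helper69.CYC
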