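import Mathlib
import Cfsg.Prelude.Def_Transfer
import Cfsg.Agent.Lib.Helper24.CYCDefs

/-!
# CYC piece (C6) for helper24's S4016 server: `Z(G) = 1` in a `Min` group.
-/

set_option autoImplicit false

namespace Cfsg.Agent.Helper69.CYC

open Subgroup Cfsg.Agent.Helper24.CYC

universe u

variable {G : Type u} [Group G] [Finite G] {p : ℕ} [Fact p.Prime]

/-- (C6) `Z(G) = 1`. -/
theorem center_of_min (hM : Min p G) (z : G) (hz : ∀ g : G, g * z = z * g) : z = 1 := by
  have hsim := hM.simple
  have hzc : z ∈ Subgroup.center G := Subgroup.mem_center_iff.mpr hz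
  rcases (inferInstance : (Subgroup.center G).Normal).eq_bot_or_eq_top with h | h
  · rw [h, Subgroup.mem_bot] at hzc
    exact hzc
  · exfalso
    obtain ⟨a, b, hab⟩ := hM.nonab
    have ha : a ∈ Subgroup.center G := by rw [h]; exact Subgroup.mem_top a
    exact hab (Subgroup.mem_center_iff.mp ha b).symm

end Cfsg.Agent.Helper69.CYC
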