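import Mathlib
import Cfsg.Prelude.Def_Transfer
import Cfsg.Agent.Lib.Helper24.CYCDefs

/-!
# CYC piece (E6b) for helper24's S4016 server: `Ivs` is conjugation-equivariant.
-/

set_option autoImplicit false

namespace Cfsg.Agent.Helper69.CYC

open Subgroup Cfsg.Agent.Helper24.CYC

universe u

variable {G : Type u} [Group G] [Finite G] {p : ℕ} [Fact p.Prime]

omit [Finite G] [Fact p.Prime] in
theorem e6b_mem_smul (P : Sylow p G) (g x : G) :
    x ∈ ((g • P : Sylow p G) : Subgroup G) ↔ g⁻¹ * x * g ∈ (P : Subgroup G) := by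
  rw [Sylow.coe_subgroup_smul, Subgroup.mem_pointwise_smul_iff_inv_smul_mem, MulAut.smul_def,
    MulAut.conj_inv_apply]

omit [Finite G] [Fact p.Prime] in
theorem e6b_conj_mem (P : Sylow p G) (g x : G) (hx : x ∈ Ivs P) :
    g * x * g⁻¹ ∈ Ivs (g • P) := by
  obtain ⟨h2, hN, hC⟩ := hx
  refine ⟨?_, ?_, ?_⟩
  · calc g * x * g⁻¹ * (g * x * g⁻¹) = g * (x * x) * g⁻¹ := by group
      _ = 1 := by rw [h2]; group
  · rw [Subgroup.mem_normalizer_iff] at hN ⊢
    intro h
    rw [e6b_mem_smul, e6b_mem_smul]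
    have h3 := hN (g⁻¹ * h * g)
    have e : g⁻¹ * (g * x * g⁻¹ * h * (g * x * g⁻¹)⁻¹) * g = x * (g⁻¹ * h * g) * x⁻¹ := by group
    rw [e]
    exact h3
  · intro hc
    apply hC
    rw [Subgroup.mem_centralizer_iff] at hc ⊢
    intro h hh
    have h3 := hc (g * h * g⁻¹) (by
      show g * h * g⁻¹ ∈ ((g • P : Sylow p G) : Subgroup G)
      rw [e6b_mem_smul]
      have e : g⁻¹ * (g * h * g⁻¹) * g = h := by group
      rw [e]
      exact hh)
    have e1 : h * x = g⁻¹ * (g * h * g⁻¹ * (g * x * g⁻¹)) * g := by group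
    have e2 : x * h = g⁻¹ * (g * x * g⁻¹ * (g * h * g⁻¹)) * g := by group
    rw [e1, e2, h3]

/-- (E6b) `Ivs` is conjugation-equivariant. -/
theorem inv_conj (P : Sylow p G) (g : G) : Ivs (g • P) = (fun x => g * x * g⁻¹) '' Ivs P := by
  ext s
  constructor
  · intro hs
    refine ⟨g⁻¹ * s * g, ?_, ?_⟩
    · have h := e6b_conj_mem (g • P) g⁻¹ s hs
      rw [inv_smul_smul, inv_inv] at h
      exact h
    · show g * (g⁻¹ * s * g) * g⁻¹ = s
      group
  · rintro ⟨x, hx, rfl⟩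
    exact e6b_conj_mem P g x hx

end Cfsg.Agent.Helper69.CYC
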