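import Mathlib

set_option autoImplicit false

namespace Cfsg.Agent.Helper69.Ito

section fpf

variable {A : Type*} [CommGroup A]

/-- the norm of `a` with respect to the first `r` powers of `γ` -/
def Nm (r : ℕ) (γ : MulAut A) (a : A) : A := ∏ i ∈ Finset.range r, (γ ^ i) a

theorem Nm_fixed (r : ℕ) (γ : MulAut A) (hγ : γ ^ r = 1) (a : A) : γ (Nm r γ a) = Nm r γ a := by
  unfold Nm
  rw [map_prod]
  have h1 : ∀ i, γ ((γ ^ i) a) = (γ ^ (i + 1)) a := by
    intro i; rw [pow_succ', MulAut.mul_apply]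
  simp only [h1]
  have h2 := Finset.prod_range_succ' (fun i => (γ ^ i) a) r
  have h3 := Finset.prod_range_succ (fun i => (γ ^ i) a) r
  rw [h2] at h3
  simp only [hγ, pow_zero, MulAut.one_apply] at h3
  exact mul_right_cancel h3

theorem prod_reindex (r : ℕ) (hr : r.Prime) (β : MulAut A) (hβ : β ^ r = 1) (a : A) (i : ℕ)
    (hi0 : 0 < i) (hir : i < r) :
    ∏ j ∈ Finset.range r, (β ^ (j * i)) a = Nm r β a := by
  unfold Nm
  have hcop : Nat.Coprime i r :=
    ((Nat.Prime.coprime_iff_not_dvd hr).mpr (Nat.not_dvd_of_pos_of_lt hi0 hir)).symm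
  have hmod : ∀ j, (β ^ (j * i)) a = (β ^ ((j * i) % r)) a := by
    intro j
    rw [pow_eq_pow_mod (j * i) hβ]
  simp only [hmod]
  have hinj : Set.InjOn (fun j => (j * i) % r) (Finset.range r : Set ℕ) := by
    intro j₁ h₁ j₂ h₂ e
    simp only [Finset.coe_range, Set.mem_Iio] at h₁ h₂
    have e' : j₁ * i ≡ j₂ * i [MOD r] := e
    have := Nat.ModEq.cancel_right_of_coprime (Nat.Coprime.symm hcop) e'
    exact Nat.ModEq.eq_of_lt_of_lt this h₁ h₂
  have himg : (Finset.range r).image (fun j => (j * i) % r) = Finset.range r := by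
    apply Finset.eq_of_subset_of_card_le
    · intro k hk
      obtain ⟨j, _, rfl⟩ := Finset.mem_image.mp hk
      exact Finset.mem_range.mpr (Nat.mod_lt _ hr.pos)
    · rw [Finset.card_image_of_injOn hinj]
  rw [← Finset.prod_image (f := fun k => (β ^ k) a) hinj, himg]

/-- the key computation for fixed-point-free actions of `C_r × C_r` -/
theorem pow_mem_of_fpf (r : ℕ) (hr : r.Prime) (α β : MulAut A) (hc : Commute α β)
    (hα : α ^ r = 1) (hβ : β ^ r = 1) (F : Subgroup A)
    (h1 : ∀ a, β a = a → a ∈ F)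
    (h2 : ∀ j < r, ∀ a, (α * β ^ j) a = a → a ∈ F)
    (h3 : ∀ a ∈ F, α a = a) (a : A) : a ^ r ∈ F := by
  obtain ⟨r', rfl⟩ : ∃ r', r = r' + 1 := ⟨r - 1, by have := hr.pos; omega⟩
  have hNβ : Nm (r' + 1) β a ∈ F := h1 _ (Nm_fixed _ β hβ a)
  have hαfix : ∀ i, (α ^ i) (Nm (r' + 1) β a) = Nm (r' + 1) β a := by
    intro i
    induction i with
    | zero => simp
    | succ i ih => rw [pow_succ', MulAut.mul_apply, ih, h3 _ hNβ]
  have hP : ∏ j ∈ Finset.range (r' + 1), Nm (r' + 1) (α * β ^ j) a ∈ F := by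
    apply Subgroup.prod_mem
    intro j hj
    have hj' := Finset.mem_range.mp hj
    apply h2 j hj'
    apply Nm_fixed
    rw [(hc.pow_right j).mul_pow, hα, ← pow_mul, mul_comm j, pow_mul, hβ, one_pow, one_mul]
  have hexp : ∏ j ∈ Finset.range (r' + 1), Nm (r' + 1) (α * β ^ j) a
      = a ^ (r' + 1) * (Nm (r' + 1) β a) ^ r' := by
    unfold Nm
    rw [Finset.prod_comm]
    have h4 : ∀ i j, ((α * β ^ j) ^ i) a = (α ^ i) ((β ^ (j * i)) a) := by
      intro i j
      rw [(hc.pow_right j).mul_pow, MulAut.mul_apply, ← pow_mul]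
    simp only [h4]
    have h5 : ∀ i, ∏ j ∈ Finset.range (r' + 1), (α ^ i) ((β ^ (j * i)) a)
        = (α ^ i) (∏ j ∈ Finset.range (r' + 1), (β ^ (j * i)) a) := by
      intro i; rw [map_prod]
    simp only [h5]
    rw [Finset.prod_range_succ']
    have h6 : ∀ i ∈ Finset.range r', (α ^ (i + 1))
        (∏ j ∈ Finset.range (r' + 1), (β ^ (j * (i + 1))) a) = Nm (r' + 1) β a := by
      intro i hi
      have hi' := Finset.mem_range.mp hi
      rw [prod_reindex (r' + 1) hr β hβ a (i + 1) (by omega) (by omega), hαfix]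
    rw [Finset.prod_congr rfl h6]
    simp only [mul_zero, pow_zero, MulAut.one_apply, Finset.prod_const, Finset.card_range]
    rw [mul_comm]
    rfl
  rw [hexp] at hP
  have := F.mul_mem hP (F.inv_mem (F.pow_mem hNβ r'))
  rwa [mul_inv_cancel_right] at this

end fpf

end Cfsg.Agent.Helper69.Ito
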