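import Mathlib
import Cfsg.Agent.Lib.Helper1.Gaschutz

/-!
# A complement of a normal subgroup of order `p` with the same exponent

* `exists_compl_of_pow`: in a finite abelian group, a subgroup `Z` of prime order `p` containing no
  nontrivial `p`-th power has a complement.
* `exists_compl_same_exponent`: `Z ⊴ E` of order `p` inside an abelian Sylow `p`-subgroup `P` of `E`,
  no nontrivial `p`-th power of an element of `P` lies in `Z`, and `p ^ 2 ∣ |E|`.  Then `Z` has a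
  complement `E₀` in `E` (Gaschütz) and `exponent E₀ = exponent E`.
-/

set_option autoImplicit false

namespace Cfsg.Agent.Helper69.ComplExponent

open Subgroup

theorem exists_compl_of_pow {P : Type*} [CommGroup P] [Finite P] {p : ℕ} [hp : Fact p.Prime]
    (Z : Subgroup P) (hpow : ∀ y : P, y ^ p ∈ Z → y ^ p = 1) :
    ∃ H : Subgroup P, H ⊓ Z = ⊥ ∧ Z ⊔ H = ⊤ := by
  classical
  have hpp := hp.out
  let S : Set (Subgroup P) := {H | (∀ y : P, y ^ p ∈ H) ∧ H ⊓ Z = ⊥}
  have h0 : (powMonoidHom p : P →* P).range ∈ S := by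
    refine ⟨fun y => ⟨y, rfl⟩, ?_⟩
    rw [eq_bot_iff]
    rintro x ⟨⟨y, rfl⟩, hxZ⟩
    rw [Subgroup.mem_bot]
    exact hpow y hxZ
  obtain ⟨H, hHS, hHmax⟩ :=
    Set.exists_max_image S (fun H : Subgroup P => Nat.card H) (Set.toFinite S) ⟨_, h0⟩
  refine ⟨H, hHS.2, ?_⟩
  by_contra hne
  obtain ⟨y, hy⟩ : ∃ y : P, y ∉ Z ⊔ H := by
    by_contra hcon
    push Not at hcon
    exact hne (eq_top_iff.mpr fun x _ => hcon x)
  have hH'S : H ⊔ zpowers y ∈ S := by
    refine ⟨fun y' => (le_sup_left : H ≤ H ⊔ zpowers y) (hHS.1 y'), ?_⟩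
    rw [eq_bot_iff]
    rintro w ⟨hw, hwZ⟩
    rw [Subgroup.mem_bot]
    obtain ⟨h, hh, t, ht, rfl⟩ := Subgroup.mem_sup.mp hw
    obtain ⟨i, rfl⟩ := Subgroup.mem_zpowers_iff.mp ht
    by_cases hpi : (p : ℤ) ∣ i
    · obtain ⟨j, rfl⟩ := hpi
      have hyH : y ^ ((p : ℤ) * j) ∈ H := by
        rw [mul_comm, zpow_mul, zpow_natCast]
        exact hHS.1 _
      have : h * y ^ ((p : ℤ) * j) ∈ H ⊓ Z := ⟨H.mul_mem hh hyH, hwZ⟩
      rw [hHS.2, Subgroup.mem_bot] at this
      exact this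
    · exfalso
      apply hy
      have hcop : IsCoprime i (p : ℤ) := by
        have := (Int.isCoprime_iff_gcd_eq_one (m := (p : ℤ)) (n := i)).mpr
          (by
            have h1 := (Nat.Prime.coprime_iff_not_dvd hpp (n := i.natAbs)).mpr
              (by rwa [Int.natCast_dvd] at hpi)
            simpa [Int.gcd] using h1)
        exact this.symm
      obtain ⟨a, b, hab⟩ := hcop
      have hyi : y ^ i ∈ Z ⊔ H := by
        have h1 : y ^ i = h⁻¹ * (h * y ^ i) := by group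
        rw [h1]
        exact mul_mem ((le_sup_right : H ≤ Z ⊔ H) (H.inv_mem hh)) ((le_sup_left : Z ≤ Z ⊔ H) hwZ)
      have hyp : y ^ (p : ℤ) ∈ Z ⊔ H := by
        rw [zpow_natCast]
        exact (le_sup_right : H ≤ Z ⊔ H) (hHS.1 y)
      have h2 : y = (y ^ i) ^ a * (y ^ (p : ℤ)) ^ b := by
        rw [← zpow_mul, ← zpow_mul, ← zpow_add, mul_comm i a, mul_comm (p : ℤ) b, hab, zpow_one]
      rw [h2]
      exact mul_mem (zpow_mem hyi a) (zpow_mem hyp b)
  have h1 : Nat.card (H ⊔ zpowers y : Subgroup P) ≤ Nat.card H := hHmax _ hH'S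
  have h2 : H = H ⊔ zpowers y := Subgroup.eq_of_le_of_card_ge le_sup_left h1
  apply hy
  apply (le_sup_right : H ≤ Z ⊔ H)
  rw [h2]
  exact (le_sup_right : zpowers y ≤ H ⊔ zpowers y) (mem_zpowers y)

theorem exists_compl_same_exponent {E : Type*} [Group E] [Finite E] {p : ℕ} [hp : Fact p.Prime]
    (Z : Subgroup E) [hZn : Z.Normal] (hZ : Nat.card Z = p) (P : Sylow p E)
    (hPc : ∀ a ∈ (P : Subgroup E), ∀ b ∈ (P : Subgroup E), a * b = b * a)
    (hZP : Z ≤ (P : Subgroup E))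
    (hpow : ∀ y ∈ (P : Subgroup E), y ^ p ∈ Z → y ^ p = 1)
    (hp2 : p ^ 2 ∣ Nat.card E) :
    ∃ E0 : Subgroup E, Z ⊓ E0 = ⊥ ∧ Monoid.exponent E0 = Monoid.exponent E := by
  classical
  have hpp := hp.out
  -- the complement inside `P`
  letI instC : CommGroup ↥(P : Subgroup E) :=
    { (inferInstance : Group ↥(P : Subgroup E)) with
      mul_comm := fun a b => Subtype.ext (hPc a a.2 b b.2) }
  obtain ⟨H, hHZ, hsup⟩ := exists_compl_of_pow (p := p) (Z.subgroupOf (P : Subgroup E)) (by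
    intro y hy
    rw [Subgroup.mem_subgroupOf, Subgroup.coe_pow] at hy
    apply Subtype.ext
    rw [Subgroup.coe_pow]
    exact hpow _ y.2 hy)
  let HE : Subgroup E := H.map (P : Subgroup E).subtype
  have hHEP : HE ≤ (P : Subgroup E) := Subgroup.map_subtype_le _
  have hHEZ : HE ⊓ Z = ⊥ := by
    rw [eq_bot_iff]
    rintro x ⟨⟨h, hh, rfl⟩, hxZ⟩
    rw [Subgroup.mem_bot]
    have : h ∈ H ⊓ Z.subgroupOf (P : Subgroup E) := ⟨hh, Subgroup.mem_subgroupOf.mpr hxZ⟩
    rw [hHZ, Subgroup.mem_bot] at this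
    rw [this]
    rfl
  have hZHE : Z ⊔ HE = (P : Subgroup E) := by
    apply le_antisymm (sup_le hZP hHEP)
    intro x hx
    have : (⟨x, hx⟩ : ↥(P : Subgroup E)) ∈ Z.subgroupOf (P : Subgroup E) ⊔ H := by
      rw [hsup]; exact mem_top _
    obtain ⟨z, hz, h, hh, hzh⟩ := Subgroup.mem_sup.mp this
    have hx' : x = (z : E) * (h : E) := by
      have := congrArg Subtype.val hzh
      simpa using this.symm
    rw [hx']
    exact mul_mem ((le_sup_left : Z ≤ Z ⊔ HE) (Subgroup.mem_subgroupOf.mp hz))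
      ((le_sup_right : HE ≤ Z ⊔ HE) ⟨h, hh, rfl⟩)
  -- Gaschütz
  haveI : IsMulCommutative Z := ⟨⟨fun a b => Subtype.ext (hPc a (hZP a.2) b (hZP b.2))⟩⟩
  have hcop : (Nat.card Z).Coprime (P : Subgroup E).index := by
    rw [hZ]
    exact (Nat.Prime.coprime_iff_not_dvd hpp).mpr P.not_dvd_index
  obtain ⟨E0, hE0⟩ := Cfsg.Agent.Helper1.Gaschutz.gaschutz_exists (K := Z) (A := HE)
    (P : Subgroup E) hcop hHEZ hZHE
  have hdisj : Z ⊓ E0 = ⊥ := disjoint_iff.mp hE0.disjoint
  refine ⟨E0, hdisj, ?_⟩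
  -- the exponent
  set n := Monoid.exponent E0 with hn
  have hE0pow : ∀ h ∈ E0, h ^ n = 1 := fun h hh => Subgroup.pow_exponent_eq_one hh
  have hcard : Nat.card Z * Nat.card E0 = Nat.card E := hE0.card_mul_card
  have hpn : p ∣ n := by
    have hpE0 : p ∣ Nat.card E0 := by
      rw [hZ] at hcard
      obtain ⟨c, hc⟩ := hp2
      have : p * Nat.card E0 = p * (p * c) := by rw [hcard, hc]; ring
      exact ⟨c, Nat.eq_of_mul_eq_mul_left hpp.pos this⟩
    obtain ⟨g, hg⟩ := exists_prime_orderOf_dvd_card' (G := ↥E0) p hpE0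
    rw [← hg]
    exact Monoid.order_dvd_exponent g
  have hZpow : ∀ z ∈ Z, z ^ p = 1 := by
    intro z hz
    have h1 : (⟨z, hz⟩ : Z) ^ Nat.card Z = 1 := pow_card_eq_one'
    rw [hZ] at h1
    have := congrArg Subtype.val h1
    simpa using this
  have hall : ∀ e : E, e ^ n = 1 := by
    intro e
    obtain ⟨⟨⟨z, hz⟩, ⟨h, hh⟩⟩, hzh, -⟩ := hE0.existsUnique e
    have hzh' : z * h = e := hzh
    -- `e ^ n ∈ Z`
    have hwZ : e ^ n ∈ Z := by
      have h1 : ((e ^ n : E) : E ⧸ Z) = 1 := by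
        rw [QuotientGroup.mk_pow, ← hzh', QuotientGroup.mk_mul,
          (QuotientGroup.eq_one_iff z).mpr hz, one_mul, ← QuotientGroup.mk_pow, hE0pow h hh]
        rfl
      exact (QuotientGroup.eq_one_iff _).mp h1
    by_contra hw1
    -- `Z` is generated by `w = e ^ n`
    haveI : Fact (Nat.card Z).Prime := ⟨by rw [hZ]; exact hpp⟩
    have hne : (⟨e ^ n, hwZ⟩ : Z) ≠ 1 := fun h => hw1 (congrArg Subtype.val h)
    have hgen := zpowers_eq_top_of_prime_card (G := ↥Z) (by rw [hZ]) hne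
    have hzmem : (⟨z, hz⟩ : Z) ∈ zpowers (⟨e ^ n, hwZ⟩ : Z) := by rw [hgen]; exact mem_top _
    obtain ⟨j, hj⟩ := Subgroup.mem_zpowers_iff.mp hzmem
    have hzj : z = (e ^ n) ^ j := by
      have := congrArg Subtype.val hj
      simpa using this.symm
    have hze : Commute z e := by
      rw [hzj]
      exact ((Commute.refl e).pow_left n).zpow_left j
    have hzh2 : Commute z h := by
      have h1 : h = z⁻¹ * e := by rw [← hzh']; group
      rw [h1]
      exact (Commute.refl z).inv_right.mul_right hze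
    apply hw1
    rw [← hzh', hzh2.mul_pow, hE0pow h hh, mul_one]
    obtain ⟨c, hc⟩ := hpn
    rw [hc, pow_mul, hZpow z hz, one_pow]
  apply Nat.dvd_antisymm
  · exact Monoid.exponent_dvd_of_monoidHom E0.subtype E0.subtype_injective
  · exact Monoid.exponent_dvd_iff_forall_pow_eq_one.mpr hall

end Cfsg.Agent.Helper69.ComplExponent
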