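import Mathlib
import Cfsg.Prelude.Def_OddOrderLocal
import Cfsg.Agent.Lib.Helper38.BG128b
import Cfsg.Agent.Lib.Helper29.BG127e
import Cfsg.Agent.Lib.Helper55.BGFit
import Cfsg.Agent.Lib.Helper69.ComplExponent

/-!
# Bender–Glauberman 12.12 (statement S1421), CASE I: some `p ∈ τ₂(M)` has nonabelian Sylow
`p`-subgroups in `G`.

The conclusions of the rows S1408, S1417, S1418, S1419 enter as hypotheses (`C1408`, `C1417` of
`Helper38.BG128`, `C1418`, `C1419`).  With `Z₀ := A ∩ C_G(M_σ)`: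

* `cent_le` / `clause1_nonabelian`: `E ∩ C_G(x) ≤ Z₀` for `1 ≠ x ∈ M_σ`;
* `clause2_nonabelian`: a complement `E₀` of `Z₀` in `E` (Gaschütz) has the exponent of `E` and acts
  freely on `M_σ`.
-/

set_option autoImplicit false
set_option linter.style.haveILetI false

namespace Cfsg.Agent.Helper69.BG1213f

open Subgroup Cfsg
open Cfsg.Agent.Helper33 (IsSylIn exists_isSylIn_ge)
open Cfsg.Agent.Helper38.BG128 (C1417 sylIn_comm sylIn_omega exists_elemAb_sq
  isElementaryAbelian_map' card_eq_of_isComplIn' not_mem_sigma_of_dvd')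
open Cfsg.Agent.Helper79.BG10 (cj card_cj)

variable {G : Type*} [Group G] [Finite G]

/-- The conclusion of the frozen statement S1408 (for fixed `M`, `p`). -/
def C1408 (M : Subgroup G) (p : ℕ) : Prop :=
  ¬ IsIdealPrime p G ∧ ∀ A : Subgroup G, A ≤ M → IsElementaryAbelian p A → Nat.card A = p ^ 2 →
    ∀ B : Subgroup G, IsElementaryAbelian p B → A ≤ B → B = A

/-- The conclusion of the frozen statement S1418. -/
def C1418 (M E : Subgroup G) (p : ℕ) (A : Subgroup G) : Prop :=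
  (E ≤ normalizer (A : Set G) ∧ ∀ X : Subgroup G, X ≤ E → Nat.card X = p → X ≤ A) ∧
    (centralizer (A : Set G) ≤ M ⊓ normalizer (A : Set G) ∧ M ⊓ normalizer (A : Set G) = E ∧
      ¬ normalizer (A : Set G) ≤ M) ∧
    ∀ X : Subgroup G, X ≤ A → Nat.card X = p →
      sigmaCore M ⊓ centralizer (X : Set G) ≠ ⊥ →
      (centralizer (X : Set G) ≤ M ∧
        ∀ L : Subgroup G, IsCoatom L → centralizer (X : Set G) ≤ L → L = M)

/-- The conclusion of the frozen statement S1419. -/
def C1419 (M E : Subgroup G) (p : ℕ) (A : Subgroup G) : Prop :=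
  tau2 M = {p} ∧
    (Nat.card ↥(A ⊓ centralizer (sigmaCore M : Set G)) = p ∧
      fittingOf M = sigmaCore M ⊔ (A ⊓ centralizer (sigmaCore M : Set G))) ∧
    ∀ X : Subgroup G, X ≤ E → Nat.card X = p → X ≠ A ⊓ centralizer (sigmaCore M : Set G) →
      sigmaCore M ⊓ centralizer (X : Set G) = ⊥ ∧ ¬ centralizer (X : Set G) ≤ M

theorem isComplIn_card_relIndex {E K M : Subgroup G} (h : IsComplIn E K M) :
    E.relIndex M = Nat.card K := by
  have h1 := card_eq_of_isComplIn' h
  have h2 : Nat.card (E.subgroupOf M) * (E.subgroupOf M).index = Nat.card M :=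
    Subgroup.card_mul_index _
  have h3 : Nat.card (E.subgroupOf M) = Nat.card E :=
    Nat.card_congr (Subgroup.subgroupOfEquivOfLe h.1).toEquiv
  rw [h3, h1] at h2
  exact Nat.eq_of_mul_eq_mul_left Nat.card_pos h2

/-- A Sylow `p`-subgroup of a complement `E` of `K` in `M` is Sylow in `M` when `p ∤ |K|`. -/
theorem isSylIn_of_compl {E K M T : Subgroup G} {p : ℕ} (h : IsComplIn E K M)
    (hpK : ¬ p ∣ Nat.card K) (hp : p.Prime) (hT : IsSylIn p T E) : IsSylIn p T M := by
  refine ⟨hT.1.trans h.1, hT.2.1, ?_⟩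
  rw [← Subgroup.relIndex_mul_relIndex T E M hT.1 h.1, isComplIn_card_relIndex h]
  intro hd
  rcases (Nat.Prime.dvd_mul hp).mp hd with h1 | h1
  · exact hT.2.2 h1
  · exact hpK h1

omit [Finite G] in
/-- Every element of a subgroup of prime order is a power of a given nontrivial element. -/
theorem mem_zpowers_of_card_prime {Z : Subgroup G} {p : ℕ} (hp : p.Prime) (hZ : Nat.card Z = p)
    {w : G} (hw : w ∈ Z) (hw1 : w ≠ 1) {z : G} (hz : z ∈ Z) : ∃ j : ℤ, z = w ^ j := by
  haveI : Fact p.Prime := ⟨hp⟩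
  have hne : (⟨w, hw⟩ : Z) ≠ 1 := fun h => hw1 (congrArg Subtype.val h)
  have hgen := zpowers_eq_top_of_prime_card (G := ↥Z) hZ hne
  have hzmem : (⟨z, hz⟩ : Z) ∈ zpowers (⟨w, hw⟩ : Z) := by rw [hgen]; exact mem_top _
  obtain ⟨j, hj⟩ := Subgroup.mem_zpowers_iff.mp hzmem
  refine ⟨j, ?_⟩
  have := congrArg Subtype.val hj
  simpa using this.symm

section main

variable (hG : IsMinSimpleOddOrder G) (M : Subgroup G) (E : Subgroup G)
  (hE : IsComplIn E (sigmaCore M) M)
  (hσ : IsPiHallOf (sigma M) (sigmaCore M) M)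
  (hα : IsPiHallOf (alpha M) (alphaCore M) M) (hασ : alphaCore M ≤ sigmaCore M)
  (hreg : ∀ e ∈ E, e ≠ 1 → (∀ q : ℕ, q.Prime → q ∣ orderOf e → q ∈ tau1 M ∪ tau3 M) →
    sigmaCore M ⊓ centralizer ({e} : Set G) = ⊥)
  (p : ℕ) [hp : Fact p.Prime] (hpτ : p ∈ tau2 M)
  (hS : ∀ S : Sylow p G, ¬ IsMulCommutative (S : Subgroup G))
  (h08 : C1408 M p)
  (A : Subgroup G) (hA : A ≤ E ∧ IsElementaryAbelian p A ∧ Nat.card A = p ^ 2)
  (r17 : C1417 M p A) (r18 : C1418 M E p A) (r19 : C1419 M E p A)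
  (hK : sigmaCore M ≠ ⊥)

include hG hE hS h08 hA r17 r18 hK in
/-- The key consequence of the structure of `C_S(A)`: no nontrivial `p`-th power of an element of
`C_S(A)` lies in `Z₀ = A ∩ C_G(M_σ)` (when `Z₀` has order `p`). -/
theorem pow_not_mem (hZcard : Nat.card ↥(A ⊓ centralizer (sigmaCore M : Set G)) = p)
    (S' : Sylow p G) (hAS : A ≤ (S' : Subgroup G)) (y : G)
    (hyS : y ∈ (S' : Subgroup G)) (hyA : y ∈ centralizer (A : Set G))
    (hyZ : y ^ p ∈ A ⊓ centralizer (sigmaCore M : Set G)) : y ^ p = 1 := by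
  classical
  by_contra hne
  have hpp := hp.out
  have hAM : A ≤ M := hA.1.trans hE.1
  have hp2 : p ≠ 2 := by
    intro h2
    have hodd : Odd (Nat.card G) := hG.1
    have hdvd : p ∣ Nat.card G := by
      have h1 : Nat.card A ∣ Nat.card G := Subgroup.card_subgroup_dvd_card A
      rw [hA.2.2] at h1
      exact (dvd_pow_self p (by norm_num)).trans h1
    rw [h2] at hdvd
    exact (Nat.not_even_iff_odd.mpr hodd) (even_iff_two_dvd.mpr hdvd)
  have hAmax := h08.2 A hAM hA.2.1 hA.2.2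
  -- a central element of order `p` of `S'` lies in `A`
  obtain ⟨z, hzA, hz1, hzc⟩ : ∃ z ∈ A, z ≠ 1 ∧ ∀ s ∈ (S' : Subgroup G), s * z = z * s := by
    haveI : Nontrivial ↥(S' : Subgroup G) := by
      refine ⟨⟨⟨y, hyS⟩, 1, fun h => hne ?_⟩⟩
      have : y = 1 := congrArg Subtype.val h
      rw [this, one_pow]
    haveI hnt : Nontrivial (Subgroup.center ↥(S' : Subgroup G)) :=
      IsPGroup.center_nontrivial S'.isPGroup'
    have hcp : IsPGroup p (Subgroup.center ↥(S' : Subgroup G)) := S'.isPGroup'.to_subgroup _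
    obtain ⟨n, hn0, hn⟩ := hcp.nontrivial_iff_card.mp hnt
    have hdvd : p ∣ Nat.card (Subgroup.center ↥(S' : Subgroup G)) := by
      rw [hn]; exact dvd_pow_self p hn0.ne'
    obtain ⟨c, hc⟩ := exists_prime_orderOf_dvd_card'
      (G := Subgroup.center ↥(S' : Subgroup G)) p hdvd
    have hcz : ∀ s ∈ (S' : Subgroup G), s * ((c : ↥(S' : Subgroup G)) : G) =
        ((c : ↥(S' : Subgroup G)) : G) * s := by
      intro s hs
      have h1 := (Subgroup.mem_center_iff.mp c.2) ⟨s, hs⟩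
      exact congrArg Subtype.val h1
    have hcpow : (((c : ↥(S' : Subgroup G)) : G)) ^ p = 1 := by
      have h1 : c ^ p = 1 := by
        have h0 := pow_orderOf_eq_one c
        rwa [hc] at h0
      have h2 := congrArg (fun t : Subgroup.center ↥(S' : Subgroup G) =>
        ((t : ↥(S' : Subgroup G)) : G)) h1
      simpa using h2
    have hc1 : (((c : ↥(S' : Subgroup G)) : G)) ≠ 1 := by
      intro h
      have h1 : c = 1 := by
        apply Subtype.ext; apply Subtype.ext; simpa using h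
      rw [h1, orderOf_one] at hc
      exact hpp.one_lt.ne hc
    refine ⟨((c : ↥(S' : Subgroup G)) : G), ?_, hc1, hcz⟩
    apply Cfsg.Agent.Helper29.BG127.mem_of_centralizes_of_max hA.2.1 hAmax _ hcpow
    rw [Subgroup.mem_centralizer_iff]
    intro a ha
    exact hcz a (hAS ha)
  obtain ⟨C, hC1, hC2⟩ := Cfsg.Agent.Helper29.BG127.exists_power_subgroup hG p hp2 S' (hS S') A
    hAS hA.2.1 hA.2.2 hAmax z hzA hz1 hzc
  set Z0 : Subgroup G := A ⊓ centralizer (sigmaCore M : Set G) with hZ0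
  have hwC : y ^ p ∈ C := hC1 y hyS hyA
  have hwp : (y ^ p) ^ p = 1 := hA.2.1.2 _ hyZ.1
  have hwc := hC2 _ hwC hwp
  -- `S' ≤ C_G(Z₀) ≤ M`
  have hSZ : (S' : Subgroup G) ≤ centralizer (Z0 : Set G) := by
    intro s hs
    rw [Subgroup.mem_centralizer_iff]
    intro w hw
    obtain ⟨j, rfl⟩ := mem_zpowers_of_card_prime hpp hZcard hyZ hne hw
    have h1 : Commute s (y ^ p) := hwc s hs
    exact (h1.zpow_right j).eq.symm
  have hKZ : sigmaCore M ⊓ centralizer (Z0 : Set G) ≠ ⊥ := by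
    have : sigmaCore M ≤ centralizer (Z0 : Set G) := by
      intro k hk
      rw [Subgroup.mem_centralizer_iff]
      intro w hw
      have := (Subgroup.mem_centralizer_iff.mp hw.2) k hk
      exact this.symm
    rw [inf_eq_left.mpr this]
    exact hK
  have hCM : centralizer (Z0 : Set G) ≤ M := (r18.2.2 Z0 inf_le_left hZcard hKZ).1
  have hSM : (S' : Subgroup G) ≤ M := hSZ.trans hCM
  obtain ⟨T', hT', hST'⟩ := exists_isSylIn_ge (p := p) S'.isPGroup' hSM
  have hcomm := sylIn_comm r17 hT'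
  apply hS S'
  exact ⟨⟨fun a b => Subtype.ext (hcomm a (hST' a.2) b (hST' b.2))⟩⟩

include hG hE hσ hα hασ hreg hpτ hS h08 hA r17 r18 r19 hK in
/-- `E ∩ C_G(x) ≤ Z₀` for `1 ≠ x ∈ M_σ`. -/
theorem cent_le (x : G) (hx : x ∈ sigmaCore M) (hx1 : x ≠ 1) (e : G) (heE : e ∈ E)
    (hex : e ∈ centralizer ({x} : Set G)) : e ∈ A ⊓ centralizer (sigmaCore M : Set G) := by
  classical
  have hpp := hp.out
  set Z0 : Subgroup G := A ⊓ centralizer (sigmaCore M : Set G) with hZ0
  have hZcard : Nat.card Z0 = p := r19.2.1.1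
  have hAM : A ≤ M := hA.1.trans hE.1
  have hpσ : p ∉ sigma M := hpτ.2.1
  have hpK : ¬ p ∣ Nat.card (sigmaCore M) := fun h => hpσ (hσ.2.1 p hpp h)
  by_cases he1 : e = 1
  · rw [he1]; exact Z0.one_mem
  have hcomm_ex : Commute e x := by
    have := (Subgroup.mem_centralizer_iff.mp hex) x (Set.mem_singleton x)
    exact this.symm
  have hord0 : orderOf e ≠ 0 := (orderOf_pos e).ne'
  -- every prime divisor of the order of `e` is `p`
  have hprime : ∀ {q : ℕ}, q.Prime → q ∣ orderOf e → q = p := by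
    intro q hq hqd
    by_contra hqp
    set e' := e ^ (orderOf e / q) with he'
    have ho : orderOf e' = q := orderOf_pow_orderOf_div hord0 hqd
    have he'E : e' ∈ E := E.pow_mem heE _
    have he'1 : e' ≠ 1 := by
      intro h
      rw [h, orderOf_one] at ho
      exact hq.one_lt.ne ho
    have hqE : q ∣ Nat.card E := by
      have h1 : orderOf (⟨e', he'E⟩ : E) = q := by
        rw [← ho]; exact Subgroup.orderOf_mk e' he'E
      rw [← h1]
      exact orderOf_dvd_natCard _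
    have hqσ : q ∉ sigma M := not_mem_sigma_of_dvd' hσ hE hq hqE
    have hqM : q ∣ Nat.card M := hqE.trans (Subgroup.card_dvd_of_le hE.1)
    have hr2 : PRankLE q 2 M :=
      Cfsg.Agent.Helper55.BGB.prankLE_two_of_not_mem_sigma hq hα hασ hqσ
    have hr1 : PRankLE q 1 M := by
      by_contra hr1
      have : q ∈ tau2 M := ⟨hq, hqσ, hr2, hr1⟩
      rw [r19.1] at this
      exact hqp this
    have hmem : q ∈ tau1 M ∪ tau3 M := by
      by_cases hd : q ∣ Nat.card ↥⁅M, M⁆
      · exact Or.inr ⟨hq, hqσ, hd, hr1⟩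
      · exact Or.inl ⟨hq, hqσ, hqM, hd, hr1⟩
    have hbot := hreg e' he'E he'1 (by
      intro q' hq' hq'd
      rw [ho] at hq'd
      rw [(Nat.prime_dvd_prime_iff_eq hq' hq).mp hq'd]
      exact hmem)
    have hxin : x ∈ sigmaCore M ⊓ centralizer ({e'} : Set G) := by
      refine Subgroup.mem_inf.mpr ⟨hx, ?_⟩
      rw [Subgroup.mem_centralizer_iff]
      intro w hw
      rw [Set.mem_singleton_iff] at hw
      rw [hw]
      exact ((hcomm_ex.pow_left _).eq)
    rw [hbot, Subgroup.mem_bot] at hxin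
    exact hx1 hxin
  obtain ⟨k, hk⟩ : ∃ k, orderOf e = p ^ (k + 1) := by
    have hpow := Nat.eq_prime_pow_of_unique_prime_dvd hord0 (fun {d} hd hdd => hprime hd hdd)
    rcases Nat.eq_zero_or_pos (orderOf e).primeFactorsList.length with h0 | hpos
    · rw [h0, pow_zero] at hpow
      exact absurd (orderOf_eq_one_iff.mp hpow) he1
    · refine ⟨(orderOf e).primeFactorsList.length - 1, ?_⟩
      rw [Nat.sub_add_cancel hpos]
      exact hpow
  -- the subgroup of order `p` of `⟨e⟩` is `Z₀`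
  set e' := e ^ (p ^ k) with he'
  have ho' : orderOf e' = p := by
    rw [he', orderOf_pow_of_dvd (pow_ne_zero _ hpp.ne_zero)
      (by rw [hk]; exact pow_dvd_pow p (Nat.le_succ k)), hk, pow_succ,
      Nat.mul_div_cancel_left _ (pow_pos hpp.pos k)]
  have he'E : e' ∈ E := E.pow_mem heE _
  have hXcard : Nat.card (zpowers e') = p := by rw [Nat.card_zpowers, ho']
  have hXE : zpowers e' ≤ E := by rw [zpowers_le]; exact he'E
  have hXZ : zpowers e' = Z0 := by
    by_contra hne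
    have hbot := (r19.2.2 (zpowers e') hXE hXcard hne).1
    have hxin : x ∈ sigmaCore M ⊓ centralizer ((zpowers e' : Subgroup G) : Set G) := by
      refine Subgroup.mem_inf.mpr ⟨hx, ?_⟩
      rw [Subgroup.mem_centralizer_iff]
      intro w hw
      obtain ⟨i, rfl⟩ := Subgroup.mem_zpowers_iff.mp hw
      exact (((hcomm_ex.pow_left _).zpow_left i).eq)
    rw [hbot, Subgroup.mem_bot] at hxin
    exact hx1 hxin
  rcases Nat.eq_zero_or_pos k with hk0 | hkpos
  · have : e' = e := by rw [he', hk0]; simp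
    rw [← this, ← hXZ]
    exact mem_zpowers e'
  · exfalso
    -- a Sylow `p`-subgroup `T` of `E` containing `A` and `e`
    have hep : IsPGroup p (zpowers e) := by
      apply IsPGroup.of_card (n := k + 1)
      rw [Nat.card_zpowers, hk]
    have hAp : IsPGroup p A := IsPGroup.of_card hA.2.2
    have hQ : IsPGroup p (zpowers e ⊔ A : Subgroup G) := by
      apply IsPGroup.to_sup_of_normal_right' hep hAp
      rw [zpowers_le]
      exact r18.1.1 heE
    obtain ⟨T, hT, hQT⟩ := exists_isSylIn_ge (p := p) hQ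
      (sup_le (by rw [zpowers_le]; exact heE) hA.1)
    have hTM : IsSylIn p T M := isSylIn_of_compl hE hpK hpp hT
    have hTc := sylIn_comm r17 hTM
    have hAT : A ≤ T := le_sup_right.trans hQT
    have heT : e ∈ T := hQT ((le_sup_left : zpowers e ≤ zpowers e ⊔ A) (mem_zpowers e))
    obtain ⟨S', hTS⟩ := hT.2.1.exists_le_sylow
    set y := e ^ (p ^ (k - 1)) with hy
    have hyT : y ∈ T := T.pow_mem heT _
    have hyp : y ^ p = e' := by
      rw [hy, he', ← pow_mul, ← pow_succ]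
      congr 2
      omega
    have hyA : y ∈ centralizer (A : Set G) := by
      rw [Subgroup.mem_centralizer_iff]
      intro a ha
      exact hTc a (hAT ha) y hyT
    have he'Z : e' ∈ Z0 := by rw [← hXZ]; exact mem_zpowers e'
    have h1 := pow_not_mem hG M E hE p hS h08 A hA r17 r18 hK hZcard S' (hAT.trans hTS) y
      (hTS hyT) hyA (by rw [hyp]; exact he'Z)
    rw [hyp] at h1
    rw [h1, orderOf_one] at ho'
    exact hpp.one_lt.ne ho'

end main

/-- **Case I, clause (1) and (2) of S1421.**  `A₀ := A ∩ C_G(M_σ)` is a normal subgroup of order `p`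
of `E` containing every `E ∩ C_G(x)`, and a complement `E₀` of it in `E` has the exponent of `E` and
acts freely on `M_σ`. -/
theorem case_nonabelian (hG : IsMinSimpleOddOrder G) (M : Subgroup G) (E : Subgroup G)
    (hE : IsComplIn E (sigmaCore M) M)
    (hσ : IsPiHallOf (sigma M) (sigmaCore M) M)
    (hα : IsPiHallOf (alpha M) (alphaCore M) M) (hασ : alphaCore M ≤ sigmaCore M)
    (hreg : ∀ e ∈ E, e ≠ 1 → (∀ q : ℕ, q.Prime → q ∣ orderOf e → q ∈ tau1 M ∪ tau3 M) →
      sigmaCore M ⊓ centralizer ({e} : Set G) = ⊥)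
    (p : ℕ) [hp : Fact p.Prime] (hpτ : p ∈ tau2 M)
    (hS : ∀ S : Sylow p G, ¬ IsMulCommutative (S : Subgroup G))
    (h08 : C1408 M p)
    (h17 : ∀ A : Subgroup G, (A ≤ M ∧ IsElementaryAbelian p A ∧ Nat.card A = p ^ 2) → C1417 M p A)
    (h18 : ∀ A : Subgroup G, (A ≤ E ∧ IsElementaryAbelian p A ∧ Nat.card A = p ^ 2) →
      C1418 M E p A)
    (h19 : ∀ A : Subgroup G, (A ≤ E ∧ IsElementaryAbelian p A ∧ Nat.card A = p ^ 2) →
      C1419 M E p A) :
    (∃ A₀ : Subgroup G, A₀ ≤ E ∧ E ≤ normalizer (A₀ : Set G) ∧ IsMulCommutative A₀ ∧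
        ∀ x ∈ sigmaCore M, x ≠ 1 → E ⊓ centralizer ({x} : Set G) ≤ A₀) ∧
      ∃ E₀ : Subgroup G, E₀ ≤ E ∧ Monoid.exponent ↥E₀ = Monoid.exponent ↥E ∧
        ∀ e ∈ E₀, e ≠ 1 → sigmaCore M ⊓ centralizer ({e} : Set G) = ⊥ := by
  classical
  have hpp := hp.out
  by_cases hK : sigmaCore M = ⊥
  · refine ⟨⟨⊥, bot_le, ?_, ?_, ?_⟩, E, le_rfl, rfl, ?_⟩
    · intro e _
      rw [mem_normalizer_iff]
      intro g
      simp [Subgroup.mem_bot]
    · exact ⟨⟨fun a b => by
        have ha : a = 1 := Subtype.ext (Subgroup.mem_bot.mp a.2)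
        have hb : b = 1 := Subtype.ext (Subgroup.mem_bot.mp b.2)
        rw [ha, hb]⟩⟩
    · intro x hx hx1
      rw [hK, Subgroup.mem_bot] at hx
      exact absurd hx hx1
    · intro e _ _
      rw [hK, bot_inf_eq]
  have hpσ : p ∉ sigma M := hpτ.2.1
  have hpK : ¬ p ∣ Nat.card (sigmaCore M) := fun h => hpσ (hσ.2.1 p hpp h)
  -- an elementary abelian subgroup of order `p ^ 2` of `E`
  obtain ⟨A0, hA0M, hA0el, hA0card⟩ := exists_elemAb_sq (M := M) (p := p) hpτ.2.2.2
  obtain ⟨m, -, hmE⟩ := Cfsg.Agent.Helper29.BG127.exists_conj_le_compl hE hpK hA0M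
    (IsPGroup.of_card hA0card)
  set A : Subgroup G := cj m A0 with hAdef
  have hA : A ≤ E ∧ IsElementaryAbelian p A ∧ Nat.card A = p ^ 2 :=
    ⟨hmE, isElementaryAbelian_map' _ hA0el, by rw [hAdef, card_cj]; exact hA0card⟩
  have hAM : A ≤ M := hA.1.trans hE.1
  have r17 := h17 A ⟨hAM, hA.2⟩
  have r18 := h18 A hA
  have r19 := h19 A hA
  set Z0 : Subgroup G := A ⊓ centralizer (sigmaCore M : Set G) with hZ0
  have hZcard : Nat.card Z0 = p := r19.2.1.1
  have hZ0E : Z0 ≤ E := inf_le_left.trans hA.1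
  have hEM : E ≤ M := hE.1
  -- `Z₀` is normal in `E`
  have hEZ : E ≤ normalizer (Z0 : Set G) := by
    have hmemK := Cfsg.Agent.Helper55.BGB.le_normalizer_sigmaCore M
    have key : ∀ g ∈ E, ∀ w ∈ Z0, g * w * g⁻¹ ∈ Z0 := by
      intro g hg w hw
      refine Subgroup.mem_inf.mpr ⟨(mem_normalizer_iff.mp (r18.1.1 hg) w).mp hw.1, ?_⟩
      rw [Subgroup.mem_centralizer_iff]
      intro k hk
      have hk' : g⁻¹ * k * g ∈ sigmaCore M := by
        have := (mem_normalizer_iff.mp (hmemK (hEM (E.inv_mem hg))) k).mp hk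
        simpa using this
      have h1 := (Subgroup.mem_centralizer_iff.mp hw.2) _ hk'
      calc k * (g * w * g⁻¹) = g * ((g⁻¹ * k * g) * w) * g⁻¹ := by group
        _ = g * (w * (g⁻¹ * k * g)) * g⁻¹ := by rw [h1]
        _ = g * w * g⁻¹ * k := by group
    intro g hg
    rw [mem_normalizer_iff]
    intro w
    constructor
    · exact key g hg w
    · intro h
      have := key g⁻¹ (E.inv_mem hg) _ h
      simpa [mul_assoc] using this
  have hcent := cent_le hG M E hE hσ hα hασ hreg p hpτ hS h08 A hA r17 r18 r19 hK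
  refine ⟨⟨Z0, hZ0E, hEZ, ?_, ?_⟩, ?_⟩
  · have hc := Cfsg.Agent.Helper29.BG127.elemAb_comm hA.2.1
    exact ⟨⟨fun a b => Subtype.ext (hc a a.2.1 b b.2.1)⟩⟩
  · intro x hx hx1 e he
    exact hcent x hx hx1 e he.1 he.2
  -- the complement
  obtain ⟨T, hT, hAT⟩ := exists_isSylIn_ge (p := p) (IsPGroup.of_card hA.2.2) hA.1
  have hTM : IsSylIn p T M := isSylIn_of_compl hE hpK hpp hT
  have hTc := sylIn_comm r17 hTM
  obtain ⟨S', hTS⟩ := hT.2.1.exists_le_sylow
  have hpow : ∀ y ∈ T, y ^ p ∈ Z0 → y ^ p = 1 := by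
    intro y hy hyZ
    refine pow_not_mem hG M E hE p hS h08 A hA r17 r18 hK hZcard S' (hAT.trans hTS) y
      (hTS hy) ?_ hyZ
    rw [Subgroup.mem_centralizer_iff]
    intro a ha
    exact hTc a (hAT ha) y hy
  haveI hZn : (Z0.subgroupOf E).Normal :=
    (Subgroup.normal_subgroupOf_iff_le_normalizer hZ0E).mpr hEZ
  have hZEcard : Nat.card (Z0.subgroupOf E) = p := by
    rw [← hZcard]
    exact Nat.card_congr (Subgroup.subgroupOfEquivOfLe hZ0E).toEquiv
  have hp2 : p ^ 2 ∣ Nat.card ↥E := by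
    rw [← hA.2.2]
    exact Subgroup.card_dvd_of_le hA.1
  obtain ⟨E0', hdisj, hexp⟩ := Cfsg.Agent.Helper69.ComplExponent.exists_compl_same_exponent
    (E := ↥E) (p := p) (Z0.subgroupOf E) hZEcard hT.toSylow
    (by
      intro a ha b hb
      rw [hT.coe_toSylow, Subgroup.mem_subgroupOf] at ha hb
      exact Subtype.ext (hTc _ ha _ hb))
    (by
      rw [hT.coe_toSylow]
      intro a ha
      rw [Subgroup.mem_subgroupOf] at ha ⊢
      exact hAT ha.1)
    (by
      intro y hy hyZ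
      rw [hT.coe_toSylow, Subgroup.mem_subgroupOf] at hy
      rw [Subgroup.mem_subgroupOf, Subgroup.coe_pow] at hyZ
      apply Subtype.ext
      rw [Subgroup.coe_pow]
      exact hpow _ hy hyZ)
    hp2
  refine ⟨E0'.map E.subtype, Subgroup.map_subtype_le _, ?_, ?_⟩
  · rw [← hexp]
    exact (Monoid.exponent_eq_of_mulEquiv
      (E0'.equivMapOfInjective E.subtype E.subtype_injective)).symm
  · rintro _ ⟨e0, he0, rfl⟩ he1
    by_contra hne
    obtain ⟨x, hx1⟩ := (Subgroup.ne_bot_iff_exists_ne_one.mp hne)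
    have hxK : (x : G) ∈ sigmaCore M := (Subgroup.mem_inf.mp x.2).1
    have hxc : (x : G) ∈ centralizer ({(E.subtype e0 : G)} : Set G) := (Subgroup.mem_inf.mp x.2).2
    have hx1' : (x : G) ≠ 1 := fun h => hx1 (Subtype.ext h)
    have hec : (E.subtype e0 : G) ∈ centralizer ({(x : G)} : Set G) := by
      rw [Subgroup.mem_centralizer_iff] at hxc ⊢
      intro w hw
      rw [Set.mem_singleton_iff] at hw
      rw [hw]
      exact (hxc _ (Set.mem_singleton _)).symm
    have hmem := hcent x hxK hx1' (E.subtype e0) e0.2 hec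
    have : e0 ∈ Z0.subgroupOf E ⊓ E0' := ⟨Subgroup.mem_subgroupOf.mpr hmem, he0⟩
    rw [hdisj, Subgroup.mem_bot] at this
    apply he1
    rw [this]
    rfl

end Cfsg.Agent.Helper69.BG1213f
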