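import Mathlib
import Cfsg.Prelude.Def_ChevStructure

/-!
# REE (STAB) (helper69, for helper36's server): a map that is multiplicative on the Chevalley group and permutes
the root elements preserves `U`, `V`, `H`, `N`, `B`.
-/

set_option autoImplicit false

namespace Cfsg.Agent.Helper69.REE

open Cfsg Cfsg.Lie

universe u

/-- (STAB) -/
theorem sigma_stable (D : ChevalleyDatum) {F : Type u} [Field F] (X : ℕ → F → GL D.Idx F)
    (hX : ∀ r t, ((X r t : GL D.Idx F) : Matrix D.Idx D.Idx F) = D.x F r t)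
    (s : GL D.Idx F → GL D.Idx F)
    (hs_mul : ∀ x ∈ D.group F, ∀ y ∈ D.group F, s (x * y) = s x * s y)
    (hs_one : s 1 = 1)
    (sg : ℕ → ℕ) (τ : ℕ → F →+* F)
    (hsg : ∀ r < D.nroots, sg r < D.nroots)
    (hpos : ∀ r, D.IsPosRoot r → D.IsPosRoot (sg r))
    (hneg : ∀ r, D.IsNegRoot r → D.IsNegRoot (sg r))
    (hsgneg : ∀ r < D.nroots, D.neg r < D.nroots ∧ sg (D.neg r) = D.neg (sg r) ∧ τ (D.neg r) = τ r)
    (hsx : ∀ r < D.nroots, ∀ t : F, s (X r t) = X (sg r) (τ r t)) :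
    (∀ g ∈ D.posUnipotent F, s g ∈ D.posUnipotent F) ∧
    (∀ g ∈ D.negUnipotent F, s g ∈ D.negUnipotent F) ∧
    (∀ g ∈ D.diagonalSubgroup F, s g ∈ D.diagonalSubgroup F) ∧
    (∀ g ∈ D.monomialSubgroup F, s g ∈ D.monomialSubgroup F) ∧
    (∀ g ∈ D.borelSubgroup F, s g ∈ D.borelSubgroup F) := by
  have hXG : ∀ r < D.nroots, ∀ t, X r t ∈ D.group F := by
    intro r hr t
    apply Subgroup.subset_closure
    refine ⟨⟨r, hr⟩, t, ?_⟩
    rw [hX, ChevalleyDatum.x, dif_pos hr]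
  -- the generic closure lemma
  have key : ∀ (S : Set (GL D.Idx F)) (K : Subgroup (GL D.Idx F)),
      (∀ g ∈ S, g ∈ D.group F ∧ s g ∈ K) →
      ∀ g ∈ Subgroup.closure S, g ∈ D.group F ∧ s g ∈ K := by
    intro S K hS g hg
    induction hg using Subgroup.closure_induction with
    | mem x hx => exact hS x hx
    | one => exact ⟨one_mem _, by rw [hs_one]; exact one_mem _⟩
    | mul x y _ _ ihx ihy =>
      exact ⟨mul_mem ihx.1 ihy.1, by rw [hs_mul x ihx.1 y ihy.1]; exact mul_mem ihx.2 ihy.2⟩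
    | inv x _ ih =>
      have hinv : s x⁻¹ = (s x)⁻¹ := by
        have h1 : s (x⁻¹ * x) = s x⁻¹ * s x := hs_mul _ (inv_mem ih.1) _ ih.1
        rw [inv_mul_cancel, hs_one] at h1
        exact eq_inv_of_mul_eq_one_left h1.symm
      exact ⟨inv_mem ih.1, by rw [hinv]; exact inv_mem ih.2⟩
  -- words
  let P : List (ℕ × F) → GL D.Idx F := fun w => (w.map fun p => X p.1 p.2).prod
  have hPnil : P [] = 1 := by simp [P]
  have hPcons : ∀ a w, P (a :: w) = X a.1 a.2 * P w := by intro a w; simp [P]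
  have hPval : ∀ w, ((P w : GL D.Idx F) : Matrix D.Idx D.Idx F) = D.wordMat F w := by
    intro w
    induction w with
    | nil => rw [hPnil]; simp [ChevalleyDatum.wordMat]
    | cons a w ih =>
      rw [hPcons, Units.val_mul, ih, hX]
      simp [ChevalleyDatum.wordMat]
  have hPG : ∀ w : List (ℕ × F), (∀ p ∈ w, p.1 < D.nroots) →
      P w ∈ D.group F ∧ s (P w) = P (w.map fun p => (sg p.1, τ p.1 p.2)) := by
    intro w
    induction w with
    | nil => intro _; simp only [List.map_nil]; rw [hPnil]; exact ⟨one_mem _, hs_one⟩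
    | cons a w ih =>
      intro hw
      have ha : a.1 < D.nroots := hw a (List.mem_cons_self ..)
      have hw' : ∀ p ∈ w, p.1 < D.nroots := fun p hp => hw p (List.mem_cons_of_mem _ hp)
      obtain ⟨h1, h2⟩ := ih hw'
      refine ⟨by rw [hPcons]; exact mul_mem (hXG _ ha _) h1, ?_⟩
      rw [hPcons, hs_mul _ (hXG _ ha _) _ h1, hsx _ ha, h2, List.map_cons, hPcons]
  have hτneg : ∀ r (t : F), τ r (-t⁻¹) = -(τ r t)⁻¹ := by
    intro r t; rw [map_neg, map_inv₀]
  have hnW : ∀ r < D.nroots, ∀ t : F,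
      ((D.nWord r t).map fun p => (sg p.1, τ p.1 p.2)) = D.nWord (sg r) (τ r t) := by
    intro r hr t
    obtain ⟨-, h2, h3⟩ := hsgneg r hr
    simp only [ChevalleyDatum.nWord, List.map_cons, List.map_nil, h2, h3, hτneg]
  have hhW : ∀ r < D.nroots, ∀ t : F,
      ((D.hWord r t).map fun p => (sg p.1, τ p.1 p.2)) = D.hWord (sg r) (τ r t) := by
    intro r hr t
    have h1 := hnW r hr t
    have h2 := hnW r hr (-1)
    rw [map_neg, map_one] at h2
    simp only [ChevalleyDatum.hWord, List.map_append, h1, h2]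
  have hnWlt : ∀ r < D.nroots, ∀ t : F, ∀ p ∈ D.nWord r t, p.1 < D.nroots := by
    intro r hr t p hp
    obtain ⟨h1, -, -⟩ := hsgneg r hr
    simp only [ChevalleyDatum.nWord, List.mem_cons, List.not_mem_nil, or_false] at hp
    rcases hp with rfl | rfl | rfl
    · exact hr
    · exact h1
    · exact hr
  have hhWlt : ∀ r < D.nroots, ∀ t : F, ∀ p ∈ D.hWord r t, p.1 < D.nroots := by
    intro r hr t p hp
    simp only [ChevalleyDatum.hWord, List.mem_append] at hp
    rcases hp with hp | hp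
    · exact hnWlt r hr t p hp
    · exact hnWlt r hr (-1) p hp
  -- generators
  have genU : ∀ g ∈ {g : GL D.Idx F | ∃ (r : ℕ) (t : F), D.IsPosRoot r ∧
      (g : Matrix D.Idx D.Idx F) = D.x F r t}, g ∈ D.group F ∧ s g ∈ D.posUnipotent F := by
    rintro g ⟨r, t, hr, hg⟩
    have hgX : g = X r t := Units.ext (by rw [hg, hX])
    subst hgX
    refine ⟨hXG r hr.1 t, ?_⟩
    rw [hsx r hr.1]
    exact Subgroup.subset_closure ⟨sg r, τ r t, hpos r hr, hX _ _⟩
  have genV : ∀ g ∈ {g : GL D.Idx F | ∃ (r : ℕ) (t : F), D.IsNegRoot r ∧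
      (g : Matrix D.Idx D.Idx F) = D.x F r t}, g ∈ D.group F ∧ s g ∈ D.negUnipotent F := by
    rintro g ⟨r, t, hr, hg⟩
    have hgX : g = X r t := Units.ext (by rw [hg, hX])
    subst hgX
    refine ⟨hXG r hr.1 t, ?_⟩
    rw [hsx r hr.1]
    exact Subgroup.subset_closure ⟨sg r, τ r t, hneg r hr, hX _ _⟩
  have genH : ∀ g ∈ {g : GL D.Idx F | ∃ (r : ℕ) (t : F), r < D.nroots ∧ t ≠ 0 ∧
      (g : Matrix D.Idx D.Idx F) = D.hMat F r t}, g ∈ D.group F ∧ s g ∈ D.diagonalSubgroup F := by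
    rintro g ⟨r, t, hr, ht, hg⟩
    have hgP : g = P (D.hWord r t) := Units.ext (by rw [hg, hPval]; rfl)
    subst hgP
    obtain ⟨h1, h2⟩ := hPG (D.hWord r t) (hhWlt r hr t)
    refine ⟨h1, ?_⟩
    rw [h2, hhW r hr t]
    refine Subgroup.subset_closure ⟨sg r, τ r t, hsg r hr, (map_ne_zero (τ r)).2 ht, ?_⟩
    rw [hPval]; rfl
  have genN : ∀ g ∈ {g : GL D.Idx F | ∃ r : ℕ, r < D.nroots ∧
      (g : Matrix D.Idx D.Idx F) = D.nMat F r 1},
      g ∈ D.group F ∧ s g ∈ Subgroup.closure {g : GL D.Idx F | ∃ r : ℕ, r < D.nroots ∧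
      (g : Matrix D.Idx D.Idx F) = D.nMat F r 1} := by
    rintro g ⟨r, hr, hg⟩
    have hgP : g = P (D.nWord r 1) := Units.ext (by rw [hg, hPval]; rfl)
    subst hgP
    obtain ⟨h1, h2⟩ := hPG (D.nWord r 1) (hnWlt r hr 1)
    refine ⟨h1, ?_⟩
    rw [h2, hnW r hr 1, map_one]
    refine Subgroup.subset_closure ⟨sg r, hsg r hr, ?_⟩
    rw [hPval]; rfl
  have hU := key _ _ genU
  have hV := key _ _ genV
  have hH := key _ _ genH
  refine ⟨fun g hg => (hU g hg).2, fun g hg => (hV g hg).2, fun g hg => (hH g hg).2, ?_, ?_⟩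
  · -- N = H ⊔ closure
    intro g hg
    have hN : D.monomialSubgroup F = Subgroup.closure
        ({g : GL D.Idx F | ∃ (r : ℕ) (t : F), r < D.nroots ∧ t ≠ 0 ∧
          (g : Matrix D.Idx D.Idx F) = D.hMat F r t} ∪
         {g : GL D.Idx F | ∃ r : ℕ, r < D.nroots ∧ (g : Matrix D.Idx D.Idx F) = D.nMat F r 1}) := by
      rw [Subgroup.closure_union]; rfl
    rw [hN] at hg
    refine (key _ (D.monomialSubgroup F) ?_ g hg).2
    rintro x (hx | hx)
    · exact ⟨(genH x hx).1, (le_sup_left : D.diagonalSubgroup F ≤ D.monomialSubgroup F) (genH x hx).2⟩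
    · exact ⟨(genN x hx).1, (le_sup_right : _ ≤ D.monomialSubgroup F) (genN x hx).2⟩
  · intro g hg
    have hB : D.borelSubgroup F = Subgroup.closure
        ({g : GL D.Idx F | ∃ (r : ℕ) (t : F), D.IsPosRoot r ∧
          (g : Matrix D.Idx D.Idx F) = D.x F r t} ∪
         {g : GL D.Idx F | ∃ (r : ℕ) (t : F), r < D.nroots ∧ t ≠ 0 ∧
          (g : Matrix D.Idx D.Idx F) = D.hMat F r t}) := by
      rw [Subgroup.closure_union]; rfl
    rw [hB] at hg
    refine (key _ (D.borelSubgroup F) ?_ g hg).2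
    rintro x (hx | hx)
    · exact ⟨(genU x hx).1, (le_sup_left : D.posUnipotent F ≤ D.borelSubgroup F) (genU x hx).2⟩
    · exact ⟨(genH x hx).1, (le_sup_right : D.diagonalSubgroup F ≤ D.borelSubgroup F) (genH x hx).2⟩

end Cfsg.Agent.Helper69.REE
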