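import Mathlib
import Cfsg.Prelude.Def_Characters
import Cfsg.Prelude.Def_Blocks
import Cfsg.Agent.Lib.Helper80.RMKDefs
import Cfsg.Agent.Lib.Helper80.ConjIrr
import Cfsg.Agent.Lib.Helper81.CharClifford

/-!
# RMK (L2) odd_normal_le_ker -- helper69 for helper80's RMK lemma server (S4581)

* `h69_trivial_on_of_inner_ne` : if the trivial character is a constituent of `χ_M` (`M` normal),
  then `χ m = χ 1` on `M` (Clifford).
* `h69_inner_one_ne_zero` : a real-valued character of odd degree of a group of odd order contains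
  the trivial character (pairing of the non-real irreducible characters).
-/

set_option autoImplicit false
set_option linter.style.haveILetI false

namespace Cfsg.Agent.Helper69.RMK

open Cfsg Cfsg.Agent.Helper80 Cfsg.Agent.Helper80.RMK
open scoped ComplexConjugate

universe u

theorem h69_trivial_on_of_inner_ne {A : Type u} [Group A] [Fintype A] (M : Subgroup A) [Fintype M]
    (hM : M.Normal) {χ : A → ℂ} (hχ : IsIrrCharacter A χ)
    (hne : classInner (fun m : M => χ m) (fun _ : M => (1 : ℂ)) ≠ 0) :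
    ∀ m ∈ M, χ m = χ 1 := by
  have hcl := Cfsg.Agent.Helper81.clifford M hM hχ (isIrrCharacter_one (G := M)) hne
  have hset : Cfsg.Agent.Helper81.conjSet M hM (fun _ : M => (1 : ℂ)) = {fun _ : M => (1 : ℂ)} := by
    ext ψ
    constructor
    · rintro ⟨g, rfl⟩
      rfl
    · intro h
      exact ⟨1, by rw [h]; rfl⟩
  rw [hset, finsum_mem_singleton] at hcl
  intro m hm
  have h1 := congrFun hcl ⟨m, hm⟩
  have h2 := congrFun hcl ⟨1, M.one_mem⟩
  simp only [Pi.smul_apply, smul_eq_mul, mul_one] at h1 h2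
  rw [h1, h2]

theorem h69_inner_one_ne_zero {M : Type u} [Group M] [Fintype M] (hodd : Odd (Nat.card M))
    {P : M → ℂ} (hP : IsCharacter M P) (hreal : ∀ m, (P m).im = 0) (d : ℕ) (hd : P 1 = (d : ℂ))
    (hdodd : Odd d) : classInner P (fun _ : M => (1 : ℂ)) ≠ 0 := by
  classical
  haveI : Fintype (IrrCharacter M) := @Fintype.ofFinite _ Cfsg.Agent.Helper81.irr_finite
  choose k hk using fun ψ : IrrCharacter M => Cfsg.Agent.Helper81.exists_nat_classInner hP ψ.2
  -- conjugation symmetry of the multiplicities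
  have hcc : ∀ ψ : IrrCharacter M, classInner P (cconjIrr ψ : M → ℂ) = conj (classInner P (ψ : M → ℂ)) := by
    intro ψ
    unfold classInner
    rw [map_mul, map_inv₀, Complex.conj_natCast, map_sum]
    congr 1
    refine Finset.sum_congr rfl (fun m _ => ?_)
    rw [map_mul, Complex.conj_eq_iff_im.2 (hreal m)]
    rfl
  have hkc : ∀ ψ : IrrCharacter M, k (cconjIrr ψ) = k ψ := by
    intro ψ
    have h1 : ((k (cconjIrr ψ) : ℕ) : ℂ) = ((k ψ : ℕ) : ℂ) := by
      rw [← hk, hcc, hk, Complex.conj_natCast]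
    exact_mod_cast h1
  -- expansion at 1
  have hexp := Cfsg.Agent.Helper81.class_function_expansion
    (Cfsg.Agent.Helper81.isClassFunction_of_isCharacter hP)
  have h1 := congrFun hexp 1
  rw [Finset.sum_apply] at h1
  simp only [Pi.smul_apply, smul_eq_mul] at h1
  have h2 : (d : ℂ) = ((∑ ψ : IrrCharacter M, k ψ * charDegree (ψ : M → ℂ) : ℕ) : ℂ) := by
    rw [← hd, h1]
    push_cast
    refine Finset.sum_congr rfl (fun ψ _ => ?_)
    rw [hk ψ, (Cfsg.Agent.Helper79.irr_one_eq ψ).1]
  have h3 : d = ∑ ψ : IrrCharacter M, k ψ * charDegree (ψ : M → ℂ) := by exact_mod_cast h2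
  set t : IrrCharacter M := trivialIrr M with ht
  have hdt : charDegree (t : M → ℂ) = 1 := by
    have := (Cfsg.Agent.Helper79.irr_one_eq t).1
    rw [ht, trivialIrr_apply] at this
    exact_mod_cast this.symm
  have hsplit : ∑ ψ : IrrCharacter M, k ψ * charDegree (ψ : M → ℂ) =
      k t * charDegree (t : M → ℂ) +
        ∑ ψ ∈ Finset.univ.erase t, k ψ * charDegree (ψ : M → ℂ) :=
    (Finset.add_sum_erase _ _ (Finset.mem_univ t)).symm
  have hct : cconjIrr t = t := by
    rw [cconjIrr_eq_self_iff]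
    intro g
    rw [ht, trivialIrr_apply]
    simp
  have hinv : ∑ ψ ∈ Finset.univ.erase t, ((k ψ * charDegree (ψ : M → ℂ) : ℕ) : ZMod 2) = 0 := by
    refine Finset.sum_involution (fun ψ _ => cconjIrr ψ) ?_ ?_ ?_ ?_
    · intro ψ _
      rw [hkc ψ, charDegree_cconjIrr]
      exact CharTwo.add_self_eq_zero _
    · intro ψ hψ _ hfix
      have hψt : ψ ≠ t := (Finset.mem_erase.mp hψ).1
      apply hψt
      rw [cconjIrr_eq_self_iff] at hfix
      exact irr_trivial_of_real_of_odd hodd ψ hfix
    · intro ψ hψ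
      have hψt : ψ ≠ t := (Finset.mem_erase.mp hψ).1
      refine Finset.mem_erase.mpr ⟨?_, Finset.mem_univ _⟩
      intro h
      apply hψt
      rw [← cconjIrr_cconjIrr ψ, h, hct]
    · intro ψ _
      exact cconjIrr_cconjIrr ψ
  have hcast : ((d : ℕ) : ZMod 2) = ((k t : ℕ) : ZMod 2) := by
    rw [h3, hsplit, hdt, mul_one]
    push_cast
    push_cast at hinv
    rw [hinv, add_zero]
  have hk1 : ((k t : ℕ) : ZMod 2) = 1 := by
    rw [← hcast]
    exact (ZMod.natCast_eq_one_iff_odd).2 hdodd
  have hkt : k t ≠ 0 := by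
    intro h0
    rw [h0] at hk1
    simp at hk1
  have : classInner P (fun _ : M => (1 : ℂ)) = (k t : ℂ) := by
    rw [← hk t]
    rfl
  rw [this]
  exact_mod_cast hkt

/-- (L2) a real character of odd degree is trivial on every normal subgroup of odd order -/
theorem odd_normal_le_ker {A : Type u} [Group A] [Finite A] (M : Subgroup A) [M.Normal]
    (hodd : Odd (Nat.card ↥M)) (χ : IrrCharacter A) (hχ : Good true χ) :
    ∀ m ∈ M, (χ : A → ℂ) m = (χ : A → ℂ) 1 := by
  classical
  haveI := Fintype.ofFinite A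
  haveI : Fintype M := Fintype.ofFinite M
  obtain ⟨hreal, hdeg⟩ := hχ
  have hreal' := hreal rfl
  have hP : IsCharacter M (fun m : M => (χ : A → ℂ) m) :=
    Cfsg.Agent.Helper81.isCharacter_restrict M (isCharacter_of_irr χ.2)
  have h1 : (fun m : M => (χ : A → ℂ) m) 1 = (charDegree (χ : A → ℂ) : ℂ) :=
    (Cfsg.Agent.Helper79.irr_one_eq χ).1
  have hne := h69_inner_one_ne_zero hodd hP (fun m => hreal' m) _ h1 hdeg
  exact h69_trivial_on_of_inner_ne M ‹M.Normal› χ.2 hne

end Cfsg.Agent.Helper69.RMK
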