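import Mathlib
import Cfsg.Prelude.Def_Characters
import Cfsg.Prelude.Def_Blocks
import Cfsg.Agent.Lib.Helper80.RMKDefs
import Cfsg.Agent.Lib.Helper81.CharClifford
import Cfsg.Agent.Lib.Helper78.ItoMichler
import Cfsg.Agent.Lib.Helper78.CharLinear
import Cfsg.Agent.S4473
import Cfsg.Agent.Lib.Helper69.RMKL2

/-!
# RMK (INVTRIV) odd_normal_le_ker_of_self_normalizing -- helper69 for helper80's RMK server (S4581)
-/

set_option autoImplicit false
set_option linter.style.haveILetI false

namespace Cfsg.Agent.Helper69.RMK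

open Cfsg Cfsg.Agent.Helper80 Cfsg.Agent.Helper80.RMK Cfsg.Agent.Helper81
open scoped ComplexConjugate

universe u

/-- Norm-map argument: a multiplicative function on a finite commutative group `M` invariant under a
coprime group of automorphisms without nontrivial fixed points is trivial. -/
theorem h69_hom_trivial_of_invariant {M : Type*} [Group M] [Finite M]
    (hc : ∀ a b : M, a * b = b * a) {Q : Type*} [Group Q] [Fintype Q]
    [MulDistribMulAction Q M] (hcop : (Nat.card M).Coprime (Fintype.card Q))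
    (hfix : ∀ m : M, (∀ x : Q, x • m = m) → m = 1) (l : M →* ℂ)
    (hl : ∀ (x : Q) (m : M), l (x • m) = l m) (m : M) : l m = 1 := by
  classical
  letI : CommGroup M := { ‹Group M› with mul_comm := hc }
  have hN : ∀ y : Q, y • (∏ x : Q, x • m) = ∏ x : Q, x • m := by
    intro y
    rw [Finset.smul_prod']
    have : ∀ x : Q, y • x • m = (y * x) • m := fun x => (mul_smul y x m).symm
    simp only [this]
    exact Fintype.prod_equiv (Equiv.mulLeft y) _ _ (fun x => rfl)
  have hN1 : (∏ x : Q, x • m) = 1 := hfix _ hN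
  have h1 : l m ^ Fintype.card Q = 1 := by
    have h := map_prod l (fun x : Q => x • m) Finset.univ
    rw [hN1, map_one] at h
    simp only [hl] at h
    rw [Finset.prod_const, Finset.card_univ] at h
    exact h.symm
  have h2 : l m ^ Nat.card M = 1 := by
    rw [← map_pow, pow_card_eq_one', map_one]
  have h3 : orderOf (l m) ∣ Fintype.card Q := orderOf_dvd_of_pow_eq_one h1
  have h4 : orderOf (l m) ∣ Nat.card M := orderOf_dvd_of_pow_eq_one h2
  have h5 : orderOf (l m) = 1 := Nat.eq_one_of_dvd_coprimes hcop h4 h3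
  exact orderOf_eq_one_iff.mp h5

/-- The action of a subgroup on the set of conjugates of a function on a normal subgroup. -/
noncomputable def h69_conjSetAction {A : Type u} [Group A] [Fintype A] (M : Subgroup A)
    (hM : M.Normal) (θ : M → ℂ) (Q : Subgroup A) : MulAction Q (conjSet M hM θ) where
  smul x ψ := ⟨conjFun M hM ψ.1 ((x : A)⁻¹), by
    obtain ⟨g, hg⟩ := ψ.2
    exact ⟨g * (x : A)⁻¹, by rw [hg, conjFun_mul]⟩⟩
  one_smul ψ := by
    apply Subtype.ext
    show conjFun M hM ψ.1 (((1 : Q) : A)⁻¹) = ψ.1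
    rw [Subgroup.coe_one, inv_one, conjFun_one]
  mul_smul x y ψ := by
    apply Subtype.ext
    show conjFun M hM ψ.1 (((x * y : Q) : A)⁻¹) =
      conjFun M hM (conjFun M hM ψ.1 ((y : A)⁻¹)) ((x : A)⁻¹)
    rw [conjFun_mul, Subgroup.coe_mul, mul_inv_rev]

theorem h69_exists_constituent {M : Type u} [Group M] [Fintype M] {P : M → ℂ}
    (hP : IsCharacter M P) (h1 : P 1 ≠ 0) :
    ∃ ψ : IrrCharacter M, classInner P (ψ : M → ℂ) ≠ 0 := by
  classical
  haveI : Fintype (IrrCharacter M) := @Fintype.ofFinite _ irr_finite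
  by_contra hcon
  push Not at hcon
  have hexp := class_function_expansion (isClassFunction_of_isCharacter hP)
  apply h1
  rw [hexp, Finset.sum_apply]
  refine Finset.sum_eq_zero (fun ψ _ => ?_)
  rw [hcon ψ, zero_smul]
  rfl

/-- (INVTRIV) with a self-normalizing Sylow `2`-subgroup, characters of odd degree are trivial on
abelian normal subgroups of odd order -/
theorem odd_normal_le_ker_of_self_normalizing {A : Type u} [Group A] [Finite A] (M : Subgroup A)
    [M.Normal] (hodd : Odd (Nat.card ↥M)) (hcomm : ∀ a ∈ M, ∀ b ∈ M, a * b = b * a)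
    (P : Sylow 2 A)
    (hself : Subgroup.normalizer ((P : Subgroup A) : Set A) = (P : Subgroup A))
    (χ : IrrCharacter A) (hχ : Odd (charDegree (χ : A → ℂ))) :
    ∀ m ∈ M, (χ : A → ℂ) m = (χ : A → ℂ) 1 := by
  classical
  haveI := Fintype.ofFinite A
  haveI : Fintype M := Fintype.ofFinite M
  have hM : M.Normal := ‹M.Normal›
  -- a constituent of the restriction
  have hPch : IsCharacter M (fun m : M => (χ : A → ℂ) m) :=
    isCharacter_restrict M (isCharacter_of_irr χ.2)
  have hdeg := Cfsg.Agent.Helper79.irr_one_eq χ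
  have hP1 : (fun m : M => (χ : A → ℂ) m) 1 ≠ 0 := by
    show (χ : A → ℂ) ((1 : M) : A) ≠ 0
    rw [Subgroup.coe_one, hdeg.1]
    exact_mod_cast hdeg.2.ne'
  obtain ⟨θ, hθne⟩ := h69_exists_constituent hPch hP1
  -- the orbit has odd size
  obtain ⟨e, he⟩ := Cfsg.Agent.Helper78.clifford_degree M hM χ.2 θ.2 hθne
  have hoddorb : Odd (Nat.card (conjSet M hM (θ : M → ℂ))) := by
    rw [he] at hχ
    exact (Nat.odd_mul.mp (Nat.odd_mul.mp hχ).2).1
  -- a `P`-fixed conjugate
  letI := h69_conjSetAction M hM (θ : M → ℂ) (P : Subgroup A)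
  have hnd : ¬ 2 ∣ Nat.card (conjSet M hM (θ : M → ℂ)) := by
    rw [← even_iff_two_dvd, Nat.not_even_iff_odd]
    exact hoddorb
  obtain ⟨ψ, hψfix⟩ := (P.isPGroup').nonempty_fixed_point_of_prime_not_dvd_card
    (conjSet M hM (θ : M → ℂ)) hnd
  have hfix : ∀ x : A, x ∈ (P : Subgroup A) → conjFun M hM ψ.1 x = ψ.1 := by
    intro x hx
    have h := hψfix ⟨x⁻¹, (P : Subgroup A).inv_mem hx⟩
    have h' := congrArg Subtype.val h
    have h'' : conjFun M hM ψ.1 (((⟨x⁻¹, (P : Subgroup A).inv_mem hx⟩ : (P : Subgroup A)) : A)⁻¹) = ψ.1 := h'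
    simpa using h''
  obtain ⟨g, hg⟩ := ψ.2
  have hψirr : IsIrrCharacter M ψ.1 := by
    rw [hg]
    exact conjFun_isIrrCharacter M hM θ.2 g
  have hψne : classInner (fun m : M => (χ : A → ℂ) m) ψ.1 ≠ 0 := by
    rw [hg, classInner_restrict_conjFun M hM
      (isClassFunction_of_isCharacter (isCharacter_of_irr χ.2))]
    exact hθne
  -- `ψ` is linear and `P`-invariant, hence trivial
  have hMc : ∀ a b : M, a * b = b * a := fun a b => Subtype.ext (hcomm a a.2 b b.2)
  have hψ1 : ψ.1 1 = 1 := Cfsg.Agent.S4473.irr_one_eq_one_of_comm' hMc hψirr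
  let l : M →* ℂ :=
    { toFun := ψ.1
      map_one' := hψ1
      map_mul' := Cfsg.Agent.Helper78.linear_char_mul hψirr hψ1 }
  letI : MulDistribMulAction (P : Subgroup A) M :=
    { smul := fun x m => ⟨(x : A) * m * (x : A)⁻¹, hM.conj_mem m m.2 x⟩
      one_smul := fun m => Subtype.ext (by
        show ((1 : (P : Subgroup A)) : A) * m * ((1 : (P : Subgroup A)) : A)⁻¹ = m
        simp)
      mul_smul := fun x y m => Subtype.ext (by
        show ((x * y : (P : Subgroup A)) : A) * m * ((x * y : (P : Subgroup A)) : A)⁻¹ =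
          (x : A) * ((y : A) * m * (y : A)⁻¹) * (x : A)⁻¹
        rw [Subgroup.coe_mul]; group)
      smul_mul := fun x m n => Subtype.ext (by
        show (x : A) * ((m * n : M) : A) * (x : A)⁻¹ =
          ((x : A) * m * (x : A)⁻¹) * ((x : A) * n * (x : A)⁻¹)
        rw [Subgroup.coe_mul]; group)
      smul_one := fun x => Subtype.ext (by
        show (x : A) * ((1 : M) : A) * (x : A)⁻¹ = ((1 : M) : A)
        simp) }
  haveI : Fintype (P : Subgroup A) := Fintype.ofFinite _
  have hcop : (Nat.card M).Coprime (Fintype.card (P : Subgroup A)) := by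
    obtain ⟨n, hn⟩ := IsPGroup.iff_card.mp P.isPGroup'
    rw [← Nat.card_eq_fintype_card, hn]
    exact Nat.Coprime.pow_right n hodd.coprime_two_right
  have hfixpt : ∀ m : M, (∀ x : (P : Subgroup A), x • m = m) → m = 1 := by
    intro m hm
    have hcent : (m : A) ∈ Subgroup.centralizer ((P : Subgroup A) : Set A) := by
      rw [Subgroup.mem_centralizer_iff]
      intro x hx
      have h := congrArg Subtype.val (hm ⟨x, hx⟩)
      have h' : x * (m : A) * x⁻¹ = (m : A) := h
      calc x * (m : A) = x * (m : A) * x⁻¹ * x := by group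
        _ = (m : A) * x := by rw [h']
    have hmP : (m : A) ∈ (P : Subgroup A) := by
      rw [← hself]
      exact Subgroup.centralizer_le_normalizer _ hcent
    obtain ⟨k, hk⟩ := P.isPGroup' ⟨(m : A), hmP⟩
    have hk' : (m : A) ^ 2 ^ k = 1 := by
      have := congrArg Subtype.val hk
      simpa using this
    have hm2 : m ^ 2 ^ k = 1 := Subtype.ext (by simpa using hk')
    have hmM : m ^ Nat.card M = 1 := pow_card_eq_one'
    have h3 : orderOf m ∣ 2 ^ k := orderOf_dvd_of_pow_eq_one hm2
    have h4 : orderOf m ∣ Nat.card M := orderOf_dvd_of_pow_eq_one hmM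
    have h5 : orderOf m = 1 :=
      Nat.eq_one_of_dvd_coprimes (Nat.Coprime.pow_right k hodd.coprime_two_right) h4 h3
    exact orderOf_eq_one_iff.mp h5
  have hlinv : ∀ (x : (P : Subgroup A)) (m : M), l (x • m) = l m := by
    intro x m
    have h := congrFun (hfix (x : A) x.2) m
    exact h
  have htriv : ∀ m : M, ψ.1 m = 1 := fun m =>
    h69_hom_trivial_of_invariant hMc hcop hfixpt l hlinv m
  have hψone : ψ.1 = fun _ : M => (1 : ℂ) := funext htriv
  rw [hψone] at hψne
  exact h69_trivial_on_of_inner_ne M hM χ.2 hψne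

end Cfsg.Agent.Helper69.RMK
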