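import Mathlib
import Cfsg.Agent.Lib.Helper52.External

/-!
# Cyclic lifts of invariant lines (coprime action on abelian `p`-groups)

`cyclic_lift`: let `P` be an abelian `p`-subgroup of a finite group with `x ^ (p ^ k) = 1` on `P`,
`L` a subgroup of order prime to `p` normalizing `P` and a subgroup `Y ≤ P` of order `p`, and suppose
some `y₀ ∈ P` has `y₀ ^ (p ^ (k - 1)) ∈ Y`, `≠ 1`.  Then there is an `L`-invariant CYCLIC subgroup
`U ≤ P` of order `p ^ k` containing `Y`.

Proof: a minimal `L`-invariant subgroup `U` of `{x ∈ P | x ^ (p ^ (k-1)) ∈ Y}` not killed by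
`x ↦ x ^ (p ^ (k-1))`; Maschke modulo `U ^ p` (`Helper52.exists_invariant_complement_mod`).
-/

set_option autoImplicit false

namespace Cfsg.Agent.Helper69.CyclicLift

open Subgroup
open scoped commutatorElement

variable {G : Type*} [Group G]

/-- The conjugation action of a subgroup `L` on a subgroup `U` that it normalizes. -/
@[reducible] def conjAct (L U : Subgroup G) (h : L ≤ normalizer (U : Set G)) :
    MulDistribMulAction ↥L ↥U where
  smul a x := ⟨(a : G) * (x : G) * (a : G)⁻¹, (mem_normalizer_iff.mp (h a.2) (x : G)).mp x.2⟩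
  one_smul x := by
    apply Subtype.ext
    show ((1 : L) : G) * (x : G) * ((1 : L) : G)⁻¹ = x
    simp
  mul_smul a b x := by
    apply Subtype.ext
    show ((a * b : L) : G) * (x : G) * ((a * b : L) : G)⁻¹ = (a : G) * ((b : G) * (x : G) * (b : G)⁻¹) * (a : G)⁻¹
    simp [mul_assoc]
  smul_mul a x y := by
    apply Subtype.ext
    show (a : G) * ((x * y : U) : G) * (a : G)⁻¹ = ((a : G) * (x : G) * (a : G)⁻¹) * ((a : G) * (y : G) * (a : G)⁻¹)
    simp [mul_assoc]
  smul_one a := by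
    apply Subtype.ext
    show (a : G) * ((1 : U) : G) * (a : G)⁻¹ = ((1 : U) : G)
    simp

theorem conjAct_coe (L U : Subgroup G) (h : L ≤ normalizer (U : Set G)) (a : L) (x : U) :
    ((letI := conjAct L U h; a • x : U) : G) = (a : G) * (x : G) * (a : G)⁻¹ := rfl

theorem conj_pow' (a x : G) (n : ℕ) : a * x ^ n * a⁻¹ = (a * x * a⁻¹) ^ n := by
  rw [conj_pow]

/-- The main lemma: an invariant cyclic subgroup of full exponent over an invariant line. -/
theorem cyclic_lift [Finite G] {p : ℕ} [hp : Fact p.Prime]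
    (P L Y : Subgroup G) (hPc : ∀ x ∈ P, ∀ y ∈ P, x * y = y * x)
    (hLP : L ≤ normalizer (P : Set G)) (hcop : (Nat.card L).Coprime p)
    (k : ℕ) (hk : 1 ≤ k) (hexp : ∀ x ∈ P, x ^ (p ^ k) = 1)
    (hYP : Y ≤ P) (hYcard : Nat.card Y = p) (hLY : L ≤ normalizer (Y : Set G))
    (y₀ : G) (hy₀ : y₀ ∈ P) (hy₀Y : y₀ ^ (p ^ (k - 1)) ∈ Y) (hy₀1 : y₀ ^ (p ^ (k - 1)) ≠ 1) :
    ∃ U : Subgroup G, U ≤ P ∧ L ≤ normalizer (U : Set G) ∧ IsCyclic U ∧ Nat.card U = p ^ k ∧
      Y ≤ U := by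
  classical
  have hpp := hp.out
  -- the set of candidates
  let S : Set (Subgroup G) := {U | U ≤ P ∧ L ≤ normalizer (U : Set G) ∧
    (∀ x ∈ U, x ^ (p ^ (k - 1)) ∈ Y) ∧ ∃ u ∈ U, u ^ (p ^ (k - 1)) ≠ 1}
  -- `P_Y` is a candidate
  have hmulpow : ∀ x ∈ P, ∀ y ∈ P, ∀ n : ℕ, (x * y) ^ n = x ^ n * y ^ n := by
    intro x hx y hy n
    exact (Commute.mul_pow (hPc x hx y hy) n)
  let PY : Subgroup G :=
    { carrier := {x | x ∈ P ∧ x ^ (p ^ (k - 1)) ∈ Y}
      one_mem' := ⟨P.one_mem, by rw [one_pow]; exact Y.one_mem⟩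
      mul_mem' := by
        rintro x y ⟨hx, hx'⟩ ⟨hy, hy'⟩
        refine ⟨P.mul_mem hx hy, ?_⟩
        rw [hmulpow x hx y hy]
        exact Y.mul_mem hx' hy'
      inv_mem' := by
        rintro x ⟨hx, hx'⟩
        refine ⟨P.inv_mem hx, ?_⟩
        rw [inv_pow]
        exact Y.inv_mem hx' }
  have hPYmem : ∀ x, x ∈ PY ↔ x ∈ P ∧ x ^ (p ^ (k - 1)) ∈ Y := fun x => Iff.rfl
  have hPYS : PY ∈ S := by
    refine ⟨fun x hx => hx.1, ?_, fun x hx => hx.2, y₀, ⟨hy₀, hy₀Y⟩, hy₀1⟩
    intro a ha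
    rw [mem_normalizer_iff]
    intro x
    have haP := mem_normalizer_iff.mp (hLP ha)
    have haY := mem_normalizer_iff.mp (hLY ha)
    constructor
    · rintro ⟨hx, hx'⟩
      refine ⟨(haP x).mp hx, ?_⟩
      rw [← conj_pow']
      exact (haY _).mp hx'
    · rintro ⟨hx, hx'⟩
      refine ⟨(haP x).mpr hx, ?_⟩
      rw [← conj_pow'] at hx'
      exact (haY _).mpr hx'
  -- a candidate of minimal cardinality
  obtain ⟨U, hUS, hUmin⟩ : ∃ U ∈ S, ∀ V ∈ S, Nat.card U ≤ Nat.card V := by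
    have hne : (S.image (fun U : Subgroup G => Nat.card U)).Nonempty := ⟨_, PY, hPYS, rfl⟩
    obtain ⟨U, hU, hUeq⟩ := Nat.sInf_mem hne
    refine ⟨U, hU, fun V hV => ?_⟩
    have hUeq' : Nat.card U = sInf (S.image (fun U : Subgroup G => Nat.card U)) := hUeq
    rw [hUeq']
    exact Nat.sInf_le ⟨V, hV, rfl⟩
  obtain ⟨hUP, hLU, hUY, u, huU, hu1⟩ := hUS
  have hUc : ∀ x ∈ U, ∀ y ∈ U, x * y = y * x := fun x hx y hy => hPc x (hUP hx) y (hUP hy)
  -- the action of `L` on `U`
  letI act : MulDistribMulAction ↥L ↥U := conjAct L U hLU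
  have hsmul : ∀ (a : L) (x : U), ((a • x : U) : G) = (a : G) * (x : G) * (a : G)⁻¹ :=
    fun a x => rfl
  haveI : Finite ↥L := inferInstance
  haveI : Finite ↥U := inferInstance
  -- `U` is a `p`-group
  have hUp : ∀ x : U, x ^ (p ^ k) = 1 := by
    intro x
    apply Subtype.ext
    rw [Subgroup.coe_pow]
    exact hexp _ (hUP x.2)
  have hcardU : ∃ n, Nat.card ↥U = p ^ n := by
    have : IsPGroup p ↥U := fun x => ⟨k, hUp x⟩
    exact IsPGroup.iff_card.mp this
  have hcopU : (Nat.card ↥L).Coprime (Nat.card ↥U) := by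
    obtain ⟨n, hn⟩ := hcardU
    rw [hn]
    exact hcop.pow_right n
  -- `N = U ^ p` and `W = ker φ` inside `U`
  let N : Subgroup ↥U :=
    { carrier := {x | ∃ z : U, x = z ^ p}
      one_mem' := ⟨1, by rw [one_pow]⟩
      mul_mem' := by
        rintro x y ⟨z, rfl⟩ ⟨w, rfl⟩
        refine ⟨z * w, ?_⟩
        have : Commute z w := Subtype.ext (hUc _ z.2 _ w.2)
        rw [this.mul_pow]
      inv_mem' := by
        rintro x ⟨z, rfl⟩
        exact ⟨z⁻¹, by rw [inv_pow]⟩ }
  let W : Subgroup ↥U :=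
    { carrier := {x | x ^ (p ^ (k - 1)) = 1}
      one_mem' := by show (1 : U) ^ _ = 1; rw [one_pow]
      mul_mem' := by
        intro x y hx hy
        show (x * y) ^ _ = 1
        have : Commute x y := Subtype.ext (hUc _ x.2 _ y.2)
        rw [this.mul_pow]
        rw [show x ^ (p ^ (k - 1)) = 1 from hx, show y ^ (p ^ (k - 1)) = 1 from hy, one_mul]
      inv_mem' := by
        intro x hx
        show x⁻¹ ^ _ = 1
        rw [inv_pow, show x ^ (p ^ (k - 1)) = 1 from hx, inv_one] }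
  have hNmem : ∀ x : U, x ∈ N ↔ ∃ z : U, x = z ^ p := fun x => Iff.rfl
  have hWmem : ∀ x : U, x ∈ W ↔ x ^ (p ^ (k - 1)) = 1 := fun x => Iff.rfl
  have hcommU : ∀ x y : U, x * y = y * x := fun x y => Subtype.ext (hUc _ x.2 _ y.2)
  haveI hNn : N.Normal := by
    constructor
    intro n hn g
    rw [hcommU g n, mul_inv_cancel_right]
    exact hn
  have hpk : p ^ (k - 1) * p = p ^ k := by
    rw [← pow_succ]
    congr 1
    omega
  have hNW : N ≤ W := by
    rintro x ⟨z, rfl⟩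
    rw [hWmem, ← pow_mul, mul_comm, hpk]
    exact hUp z
  have hsmul_pow : ∀ (a : L) (x : U) (n : ℕ), a • (x ^ n) = (a • x) ^ n := by
    intro a x n
    exact smul_pow' a x n
  have hNinv : ∀ a : L, ∀ x ∈ N, a • x ∈ N := by
    rintro a x ⟨z, rfl⟩
    exact ⟨a • z, hsmul_pow a z p⟩
  have hWinv : ∀ a : L, ∀ x ∈ W, a • x ∈ W := by
    intro a x hx
    rw [hWmem] at hx ⊢
    rw [← hsmul_pow, hx, smul_one]
  have hcommN : commutator ↥U ≤ N := by
    rw [_root_.commutator_def, Subgroup.commutator_le]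
    intro x _ y _
    have : ⁅x, y⁆ = 1 := commutatorElement_eq_one_iff_mul_comm.mpr (hcommU x y)
    rw [this]
    exact N.one_mem
  obtain ⟨K', hNK, hKinv, hinf, hsup⟩ :=
    Cfsg.Agent.Helper52.exists_invariant_complement_mod (A := ↥L) (G := ↥U) hcopU N hNinv hcommN
      p hpp (fun x => ⟨x, rfl⟩) W hNW hWinv
  -- `K'` is a candidate, so it is all of `U`
  have hK'notW : ¬ K' ≤ W := by
    intro hle
    have htop : W = ⊤ := by
      rw [eq_top_iff, ← hsup]
      exact sup_le le_rfl hle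
    have : (⟨u, huU⟩ : U) ∈ W := by rw [htop]; exact mem_top _
    rw [hWmem] at this
    apply hu1
    have h2 := congrArg Subtype.val this
    simpa using h2
  have hK'S : K'.map U.subtype ∈ S := by
    refine ⟨?_, ?_, ?_, ?_⟩
    · rintro _ ⟨x, -, rfl⟩
      exact hUP x.2
    · intro a ha
      rw [mem_normalizer_iff]
      intro g
      constructor
      · rintro ⟨x, hx, rfl⟩
        exact ⟨(⟨a, ha⟩ : L) • x, hKinv _ x hx, rfl⟩
      · rintro ⟨x, hx, hxe⟩
        refine ⟨(⟨a, ha⟩ : L)⁻¹ • x, hKinv _ x hx, ?_⟩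
        show ((⟨a, ha⟩ : L)⁻¹ : L) * (x : G) * (((⟨a, ha⟩ : L)⁻¹ : L) : G)⁻¹ = g
        have hxe' : (x : G) = a * g * a⁻¹ := hxe
        rw [hxe']
        simp [mul_assoc]
    · rintro _ ⟨x, -, rfl⟩
      exact hUY _ x.2
    · by_contra hcon
      push Not at hcon
      apply hK'notW
      intro x hx
      rw [hWmem]
      apply Subtype.ext
      rw [Subgroup.coe_pow]
      exact hcon _ ⟨x, hx, rfl⟩
  have hK'top : K' = ⊤ := by
    have h1 := hUmin _ hK'S
    have h2 : Nat.card (K'.map U.subtype) = Nat.card K' :=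
      Nat.card_congr (K'.equivMapOfInjective U.subtype U.subtype_injective).symm.toEquiv
    rw [h2] at h1
    exact Subgroup.eq_top_of_le_card K' h1
  have hWN : W = N := by
    rw [hK'top, inf_top_eq] at hinf
    exact hinf
  -- `Y` is generated by `φ u`
  have hYgen : ∀ y ∈ Y, ∃ i : ℕ, y = (u ^ (p ^ (k - 1))) ^ i := by
    intro y hy
    haveI : Fact (Nat.card Y).Prime := ⟨by rw [hYcard]; exact hpp⟩
    have hne : (⟨u ^ (p ^ (k - 1)), hUY u huU⟩ : Y) ≠ 1 := by
      intro h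
      apply hu1
      exact congrArg Subtype.val h
    have hz := zpowers_eq_top_of_prime_card (G := ↥Y) (by rw [hYcard]) hne
    have hmem : (⟨y, hy⟩ : Y) ∈ zpowers (⟨u ^ (p ^ (k - 1)), hUY u huU⟩ : Y) := by
      rw [hz]; exact mem_top _
    rw [mem_zpowers_iff_mem_range_orderOf] at hmem
    simp only [Finset.mem_image, Finset.mem_range] at hmem
    obtain ⟨i, -, hi⟩ := hmem
    refine ⟨i, ?_⟩
    have := congrArg Subtype.val hi
    simpa using this.symm
  -- every element of `U` is `u ^ i * w ^ p`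
  have hstep : ∀ x ∈ U, ∃ i : ℕ, ∃ w ∈ U, x = u ^ i * w ^ p := by
    intro x hx
    obtain ⟨i, hi⟩ := hYgen _ (hUY x hx)
    have hui : (u⁻¹) ^ i ∈ U := U.pow_mem (U.inv_mem huU) i
    have hxuU : x * (u⁻¹) ^ i ∈ U := U.mul_mem hx hui
    have hxi : (⟨x * (u⁻¹) ^ i, hxuU⟩ : U) ∈ W := by
      rw [hWmem]
      apply Subtype.ext
      rw [Subgroup.coe_pow]
      show (x * (u⁻¹) ^ i) ^ (p ^ (k - 1)) = 1
      rw [hmulpow x (hUP hx) _ (hUP hui), hi, ← pow_mul, ← pow_mul, mul_comm i, inv_pow,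
        mul_inv_cancel]
    rw [hWN, hNmem] at hxi
    obtain ⟨z, hz⟩ := hxi
    refine ⟨i, z, z.2, ?_⟩
    have h2 : x * (u⁻¹) ^ i = (z : G) ^ p := by
      have := congrArg Subtype.val hz
      rwa [Subgroup.coe_pow] at this
    rw [← h2]
    have hc : u ^ i * x = x * u ^ i := hUc _ (U.pow_mem huU i) _ hx
    rw [← mul_assoc, hc, inv_pow, mul_assoc x, mul_inv_cancel, mul_one]
  have hiter : ∀ j : ℕ, ∀ x ∈ U, ∃ i : ℕ, ∃ w ∈ U, x = u ^ i * w ^ (p ^ j) := by
    intro j
    induction j with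
    | zero =>
      intro x hx
      exact ⟨0, x, hx, by simp⟩
    | succ j ih =>
      intro x hx
      obtain ⟨i, w, hw, rfl⟩ := ih x hx
      obtain ⟨i', w', hw', rfl⟩ := hstep w hw
      refine ⟨i + i' * p ^ j, w', hw', ?_⟩
      have hc : Commute (u ^ i') (w' ^ p) := hUc _ (U.pow_mem huU _) _ (U.pow_mem hw' _)
      rw [hc.mul_pow, ← pow_mul, ← pow_mul, pow_add, mul_assoc, pow_succ, mul_comm p (p ^ j)]
  have hUeq : U = zpowers u := by
    apply le_antisymm
    · intro x hx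
      obtain ⟨i, w, hw, rfl⟩ := hiter k x hx
      rw [hexp w (hUP hw), mul_one]
      exact pow_mem (mem_zpowers u) i
    · rw [zpowers_le]; exact huU
  have hord : orderOf u = p ^ k := by
    have h1 : u ^ (p ^ k) = 1 := hexp u (hUP huU)
    have h2 : ¬ u ^ (p ^ (k - 1)) = 1 := hu1
    have hk' : k = (k - 1) + 1 := by omega
    rw [hk'] at h1 ⊢
    exact orderOf_eq_prime_pow h2 h1
  refine ⟨U, hUP, hLU, ?_, ?_, ?_⟩
  · rw [hUeq]
    infer_instance
  · rw [hUeq, Nat.card_zpowers, hord]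
  · intro y hy
    obtain ⟨i, rfl⟩ := hYgen y hy
    exact U.pow_mem (U.pow_mem huU _) _

/-- In a cyclic subgroup `U` containing a subgroup `Y` of order `p`, every element of `U` of order
dividing `p` lies in `Y`. -/
theorem mem_of_pow_eq_one [Finite G] {p : ℕ} (hp : 0 < p) {U Y : Subgroup G} (hU : IsCyclic U)
    (hYU : Y ≤ U) (hY : Nat.card Y = p) {x : G} (hx : x ∈ U) (hxp : x ^ p = 1) : x ∈ Y := by
  classical
  haveI := hU
  letI : Fintype ↥U := Fintype.ofFinite _
  letI : Fintype ↥Y := Fintype.ofFinite _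
  let F : Finset ↥U := Finset.univ.filter (fun a : U => a ^ p = 1)
  have hF : F.card ≤ p := IsCyclic.card_pow_eq_one_le hp
  let YF : Finset ↥U := (Finset.univ : Finset ↥Y).image (Subgroup.inclusion hYU)
  have hYFcard : YF.card = p := by
    rw [Finset.card_image_of_injective _ (Subgroup.inclusion_injective hYU), Finset.card_univ,
      ← Nat.card_eq_fintype_card, hY]
  have hsub : YF ⊆ F := by
    intro a ha
    obtain ⟨y, -, rfl⟩ := Finset.mem_image.mp ha
    rw [Finset.mem_filter]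
    refine ⟨Finset.mem_univ _, ?_⟩
    apply Subtype.ext
    rw [Subgroup.coe_pow]
    show (y : G) ^ p = 1
    have h1 : (y : ↥Y) ^ Nat.card ↥Y = 1 := pow_card_eq_one'
    rw [hY] at h1
    have := congrArg Subtype.val h1
    simpa using this
  have heq : YF = F := Finset.eq_of_subset_of_card_le hsub (by rw [hYFcard]; exact hF)
  have hxF : (⟨x, hx⟩ : U) ∈ F := by
    rw [Finset.mem_filter]
    refine ⟨Finset.mem_univ _, ?_⟩
    apply Subtype.ext
    rw [Subgroup.coe_pow]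
    exact hxp
  rw [← heq] at hxF
  obtain ⟨y, -, hy⟩ := Finset.mem_image.mp hxF
  have : (y : G) = x := congrArg Subtype.val hy
  rw [← this]
  exact y.2

end Cfsg.Agent.Helper69.CyclicLift
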