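import Mathlib

/-!
# O2520 project (S0984, helper55 server), piece S3D: an element of order 4 normalizing a
self-centralizing elementary abelian group of order 9 inverts it by its square.
-/

set_option autoImplicit false

namespace Cfsg.Agent.Helper69.O2520

universe u

theorem h69_sq_add_one (k : ℤ) : ¬ ((3 : ℤ) ∣ k * k + 1) := by
  intro h
  have h0 : ((k * k + 1 : ℤ) : ZMod 3) = 0 := (ZMod.intCast_zmod_eq_zero_iff_dvd _ 3).mpr h
  push_cast at h0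
  have hall : ∀ a : ZMod 3, a * a + 1 ≠ 0 := by decide
  exact hall _ h0

/-- (S3D) -/
theorem inverts_of_order4 {G : Type u} [Group G] (P : Subgroup G) (hP : Nat.card P = 9)
    (hexp : ∀ x ∈ P, x ^ 3 = 1)
    (hC : Subgroup.centralizer (P : Set G) = P) (u : G) (hu : orderOf u = 4)
    (hn : u ∈ Subgroup.normalizer (P : Set G)) :
    ∀ x ∈ P, u ^ 2 * x * (u ^ 2)⁻¹ = x⁻¹ := by
  classical
  have hfin : Finite P := Nat.finite_of_card_ne_zero (by rw [hP]; norm_num)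
  have hu4 : u ^ 4 = 1 := by rw [← hu]; exact pow_orderOf_eq_one u
  -- P is abelian
  have hcomm : ∀ x ∈ P, ∀ y ∈ P, x * y = y * x := by
    intro x hx y hy
    have hx' : x ∈ Subgroup.centralizer (P : Set G) := by rw [hC]; exact hx
    exact (Subgroup.mem_centralizer_iff.mp hx' y hy).symm
  -- conjugation by u preserves P
  have hc : ∀ x ∈ P, u * x * u⁻¹ ∈ P := by
    intro x hx
    exact (Subgroup.mem_normalizer_iff.mp hn x).mp hx
  have hτ : ∀ x : G, u ^ 2 * x * (u ^ 2)⁻¹ = u * (u * x * u⁻¹) * u⁻¹ := by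
    intro x
    simp only [pow_two, mul_inv_rev, mul_assoc]
  have hτP : ∀ x ∈ P, u ^ 2 * x * (u ^ 2)⁻¹ ∈ P := by
    intro x hx
    rw [hτ]
    exact hc _ (hc _ hx)
  have hττ : ∀ x : G, u ^ 2 * (u ^ 2 * x * (u ^ 2)⁻¹) * (u ^ 2)⁻¹ = x := by
    intro x
    have h1 : u ^ 2 * (u ^ 2 * x * (u ^ 2)⁻¹) * (u ^ 2)⁻¹ = u ^ 4 * x * (u ^ 4)⁻¹ := by
      have h4 : u ^ 4 = u ^ 2 * u ^ 2 := by rw [← pow_add]
      rw [h4]
      simp only [mul_inv_rev, mul_assoc]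
    rw [h1, hu4]
    simp
  have hτmul : ∀ x y : G, u ^ 2 * (x * y) * (u ^ 2)⁻¹ =
      (u ^ 2 * x * (u ^ 2)⁻¹) * (u ^ 2 * y * (u ^ 2)⁻¹) := by
    intro x y
    simp only [mul_assoc, inv_mul_cancel_left]
  have hτinv : ∀ x : G, u ^ 2 * x⁻¹ * (u ^ 2)⁻¹ = (u ^ 2 * x * (u ^ 2)⁻¹)⁻¹ := by
    intro x
    simp only [mul_inv_rev, inv_inv, mul_assoc]
  -- u ^ 2 is not in P
  have hu2 : u ^ 2 ∉ P := by
    intro h
    have h3 := hexp _ h
    rw [← pow_mul] at h3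
    have hdvd : orderOf u ∣ 2 * 3 := orderOf_dvd_of_pow_eq_one h3
    rw [hu] at hdvd
    omega
  -- some element is moved
  have hmoved : ∃ z ∈ P, u ^ 2 * z * (u ^ 2)⁻¹ ≠ z := by
    by_contra hcon
    simp only [not_exists, not_and, not_not] at hcon
    apply hu2
    rw [← hC, Subgroup.mem_centralizer_iff]
    intro h hh
    have h1 := hcon h hh
    calc h * u ^ 2 = (u ^ 2 * h * (u ^ 2)⁻¹) * u ^ 2 := by rw [h1]
      _ = u ^ 2 * h := by simp only [mul_assoc, inv_mul_cancel, mul_one]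
  obtain ⟨z, hz, hzm⟩ := hmoved
  -- the inverted subgroup
  let I : Subgroup G :=
    { carrier := {x | x ∈ P ∧ u ^ 2 * x * (u ^ 2)⁻¹ = x⁻¹}
      one_mem' := ⟨P.one_mem, by simp⟩
      mul_mem' := by
        rintro x y ⟨hx, hx2⟩ ⟨hy, hy2⟩
        refine ⟨P.mul_mem hx hy, ?_⟩
        rw [hτmul, hx2, hy2, ← mul_inv_rev, hcomm y hy x hx]
      inv_mem' := by
        rintro x ⟨hx, hx2⟩
        exact ⟨P.inv_mem hx, by rw [hτinv, hx2]⟩ }
  have hIP : I ≤ P := fun x hx => hx.1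
  have hmemI : ∀ x, x ∈ I ↔ (x ∈ P ∧ u ^ 2 * x * (u ^ 2)⁻¹ = x⁻¹) := fun x => Iff.rfl
  intro x0 hx0
  by_contra hne
  -- y is fixed and non-trivial
  have hy : x0 * (u ^ 2 * x0 * (u ^ 2)⁻¹) ∈ P := P.mul_mem hx0 (hτP x0 hx0)
  have hyfix : u ^ 2 * (x0 * (u ^ 2 * x0 * (u ^ 2)⁻¹)) * (u ^ 2)⁻¹ =
      x0 * (u ^ 2 * x0 * (u ^ 2)⁻¹) := by
    rw [hτmul, hττ]
    exact hcomm _ (hτP x0 hx0) _ hx0
  have hy1 : x0 * (u ^ 2 * x0 * (u ^ 2)⁻¹) ≠ 1 := by
    intro h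
    exact hne (eq_inv_of_mul_eq_one_right h)
  -- w is inverted and non-trivial
  have hwP : z⁻¹ * (u ^ 2 * z * (u ^ 2)⁻¹) ∈ P := P.mul_mem (P.inv_mem hz) (hτP z hz)
  have hwI : z⁻¹ * (u ^ 2 * z * (u ^ 2)⁻¹) ∈ I := by
    rw [hmemI]
    refine ⟨hwP, ?_⟩
    rw [hτmul, hττ, hτinv, mul_inv_rev z⁻¹ _, inv_inv]
  have hw1 : z⁻¹ * (u ^ 2 * z * (u ^ 2)⁻¹) ≠ 1 := by
    intro h
    apply hzm
    have := eq_inv_of_mul_eq_one_right h
    rw [inv_inv] at this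
    exact this
  obtain ⟨w, hwdef⟩ : ∃ w : G, w = z⁻¹ * (u ^ 2 * z * (u ^ 2)⁻¹) := ⟨_, rfl⟩
  rw [← hwdef] at hwP hwI hw1
  -- the cardinality of I is 3
  have hfinI : Finite I := Finite.of_injective (Subgroup.inclusion hIP) (Subgroup.inclusion_injective hIP)
  have hdvd : Nat.card I ∣ 9 := by
    rw [← hP]
    exact Subgroup.card_dvd_of_le hIP
  have hI3 : Nat.card I = 3 := by
    have h9 : (9 : ℕ) = 3 ^ 2 := by norm_num
    rw [h9] at hdvd
    obtain ⟨k, hk, hk2⟩ := (Nat.dvd_prime_pow Nat.prime_three).mp hdvd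
    interval_cases k
    · exfalso
      rw [pow_zero] at hk2
      have hbot : I = ⊥ := Subgroup.eq_bot_of_card_eq I hk2
      rw [hbot, Subgroup.mem_bot] at hwI
      exact hw1 hwI
    · simpa using hk2
    · exfalso
      have hle : Nat.card P ≤ Nat.card I := by rw [hk2, hP]; norm_num
      have hIeq : I = P := Subgroup.eq_of_le_of_card_ge hIP hle
      have hyI : x0 * (u ^ 2 * x0 * (u ^ 2)⁻¹) ∈ I := by rw [hIeq]; exact hy
      have h2 := ((hmemI _).mp hyI).2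
      rw [hyfix] at h2
      -- y = y⁻¹ and y ^ 3 = 1
      have h3 := hexp _ hy
      apply hy1
      have hsq : (x0 * (u ^ 2 * x0 * (u ^ 2)⁻¹)) ^ 2 = 1 := by
        rw [pow_two]
        nth_rewrite 2 [h2]
        exact mul_inv_cancel _
      have h4 : (x0 * (u ^ 2 * x0 * (u ^ 2)⁻¹)) ^ 3 =
          (x0 * (u ^ 2 * x0 * (u ^ 2)⁻¹)) ^ 2 * (x0 * (u ^ 2 * x0 * (u ^ 2)⁻¹)) := pow_succ _ 2
      rw [hsq, one_mul] at h4
      rw [← h4]
      exact h3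
  -- conjugation by u maps w into I = zpowers w
  have hcwI : u * w * u⁻¹ ∈ I := by
    rw [hmemI]
    refine ⟨hc w hwP, ?_⟩
    have h1 : u ^ 2 * (u * w * u⁻¹) * (u ^ 2)⁻¹ = u * (u ^ 2 * w * (u ^ 2)⁻¹) * u⁻¹ := by
      simp only [pow_two, mul_inv_rev, mul_assoc]
    rw [h1, ((hmemI w).mp hwI).2]
    simp only [mul_inv_rev, inv_inv, mul_assoc]
  have : Fact (Nat.Prime 3) := ⟨Nat.prime_three⟩
  have hw1' : (⟨w, hwI⟩ : I) ≠ 1 := by
    intro h
    exact hw1 (congrArg Subtype.val h)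
  have htop := zpowers_eq_top_of_prime_card (G := I) hI3 hw1'
  have hmem : (⟨u * w * u⁻¹, hcwI⟩ : I) ∈ Subgroup.zpowers (⟨w, hwI⟩ : I) := by
    rw [htop]; exact Subgroup.mem_top _
  obtain ⟨k, hk⟩ := Subgroup.mem_zpowers_iff.mp hmem
  have hk' : w ^ k = u * w * u⁻¹ := by
    have := congrArg Subtype.val hk
    simpa using this
  -- τ w = w ^ (k * k)
  have hτw : u ^ 2 * w * (u ^ 2)⁻¹ = w ^ (k * k) := by
    rw [hτ, ← hk', ← conj_zpow, ← hk', ← zpow_mul]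
  have hτw' := ((hmemI w).mp hwI).2
  rw [hτw] at hτw'
  have hone : w ^ (k * k + 1) = 1 := by
    rw [zpow_add, hτw', zpow_one, inv_mul_cancel]
  have how : orderOf w = 3 := orderOf_eq_prime (hexp w hwP) hw1
  have hdvd3 : ((orderOf w : ℕ) : ℤ) ∣ k * k + 1 := orderOf_dvd_iff_zpow_eq_one.mpr hone
  rw [how] at hdvd3
  exact h69_sq_add_one k (by exact_mod_cast hdvd3)

end Cfsg.Agent.Helper69.O2520
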