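import Mathlib

set_option autoImplicit false

/-!
# Auxiliary lemmas for the Hall–Wielandt transfer theorem (helper69)

* `sum_eq_iter` : in an abelian group of exponent `p`, the `(p-1)`-st iterated difference at `0`
  equals the sum of the first `p` terms (`(E-1)^(p-1) = 1 + E + ... + E^(p-1)` in characteristic `p`).
* `prod_eq_iter` : multiplicative version.
* `prod_eq_one_of_free_cycle` : a product over a finset carrying a free `ℤ/p`-action with trivial
  orbit products is trivial.
* `exists_normalizing_outside` : normalizer growth: if `S ≤ N(Q)`, `S ⊔ Q` a `p`-group and `Q ≰ S`,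
  some `w ∈ Q \ S` with `w^p ∈ S` normalizes `S`.
-/

namespace Cfsg.Agent.Helper69.HW

open Polynomial in
theorem poly_identity (p : ℕ) [hp : Fact p.Prime] :
    ((X - 1 : (ZMod p)[X]) ^ (p - 1)) = ∑ i ∈ Finset.range p, (X : (ZMod p)[X]) ^ i := by
  have h1 : (X - 1 : (ZMod p)[X]) ^ (p - 1) * (X - 1) = X ^ p - 1 := by
    rw [← pow_succ, Nat.sub_add_cancel hp.out.one_le, sub_pow_char, one_pow]
  have h2 : (∑ i ∈ Finset.range p, (X : (ZMod p)[X]) ^ i) * (X - 1) = X ^ p - 1 := geom_sum_mul X p
  have h3 : (X - 1 : (ZMod p)[X]) ≠ 0 := by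
    have := X_sub_C_ne_zero (1 : ZMod p)
    simpa using this
  exact mul_right_cancel₀ h3 (h1.trans h2.symm)

theorem sum_eq_iter {M : Type*} [AddCommGroup M] (p : ℕ) [hp : Fact p.Prime] (hM : ∀ m : M, p • m = 0)
    (b : ℕ → ℕ → M) (hb : ∀ k j, b (k + 1) j = b k (j + 1) - b k j) :
    b (p - 1) 0 = ∑ i ∈ Finset.range p, b 0 i := by
  letI : Module (ZMod p) M := AddCommGroup.zmodModule hM
  let E : Module.End (ZMod p) (ℕ → M) := LinearMap.funLeft (ZMod p) M (fun j : ℕ => j + 1)
  have hE : ∀ (f : ℕ → M) (j : ℕ), E f j = f (j + 1) := fun f j => rfl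
  have hEpow : ∀ (i : ℕ) (f : ℕ → M) (j : ℕ), (E ^ i) f j = f (j + i) := by
    intro i
    induction i with
    | zero => intro f j; simp
    | succ i ih =>
      intro f j
      rw [pow_succ, Module.End.mul_apply, ih, hE]
      rfl
  have hid : (E - 1) ^ (p - 1) = ∑ i ∈ Finset.range p, E ^ i := by
    have := congrArg (Polynomial.aeval E) (poly_identity p)
    simpa using this
  have hbk : ∀ k : ℕ, (fun j => b k j) = ((E - 1) ^ k) (fun j => b 0 j) := by
    intro k
    induction k with
    | zero => simp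
    | succ k ih =>
      rw [pow_succ', Module.End.mul_apply, ← ih]
      funext j
      rw [LinearMap.sub_apply, Pi.sub_apply, hE, Module.End.one_apply, hb]
  have h1 : b (p - 1) 0 = ((E - 1) ^ (p - 1)) (fun j => b 0 j) 0 := congrFun (hbk (p - 1)) 0
  rw [h1, hid, LinearMap.sum_apply, Finset.sum_apply]
  refine Finset.sum_congr rfl (fun i _ => ?_)
  rw [hEpow, zero_add]

theorem prod_eq_iter {A : Type*} [CommGroup A] (p : ℕ) [hp : Fact p.Prime] (hA : ∀ a : A, a ^ p = 1)
    (b : ℕ → ℕ → A) (hb : ∀ k j, b (k + 1) j = b k (j + 1) / b k j) :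
    b (p - 1) 0 = ∏ i ∈ Finset.range p, b 0 i := by
  have := sum_eq_iter (M := Additive A) p (fun m => by
    show Additive.ofMul ((Additive.toMul m) ^ p) = 0
    rw [hA]; rfl) (fun k j => Additive.ofMul (b k j)) (fun k j => by
      rw [hb]; rfl)
  have h2 : (∑ i ∈ Finset.range p, Additive.ofMul (b 0 i)) = Additive.ofMul (∏ i ∈ Finset.range p, b 0 i) := by
    rw [ofMul_prod]
  rw [h2] at this
  exact Additive.ofMul.injective this


theorem prod_eq_one_of_free_cycle {α A : Type*} [DecidableEq α] [CommMonoid A] (p : ℕ) (hp : 0 < p)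
    (σ : α → α) (f : α → A) :
    ∀ (n : ℕ) (F : Finset α), F.card = n → (∀ a ∈ F, σ a ∈ F) → (∀ a ∈ F, σ^[p] a = a) →
      (∀ a ∈ F, ∀ j, 0 < j → j < p → σ^[j] a ≠ a) →
      (∀ a ∈ F, ∏ j ∈ Finset.range p, f (σ^[j] a) = 1) → ∏ a ∈ F, f a = 1 := by
  intro n
  induction n using Nat.strong_induction_on with
  | _ n ih =>
    intro F hcard hcl hper hfree hprod
    rcases F.eq_empty_or_nonempty with hF | ⟨a, ha⟩
    · rw [hF, Finset.prod_empty]
    · have hiter : ∀ j, σ^[j] a ∈ F := by
        intro j
        induction j with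
        | zero => exact ha
        | succ j ihj => rw [Function.iterate_succ_apply']; exact hcl _ ihj
      set O : Finset α := (Finset.range p).image (fun j => σ^[j] a) with hO
      have hOF : O ⊆ F := by
        intro b hb
        rw [hO, Finset.mem_image] at hb
        obtain ⟨j, _, rfl⟩ := hb
        exact hiter j
      have hinj : Set.InjOn (fun j => σ^[j] a) (Finset.range p : Set ℕ) := by
        have key : ∀ i j, i < j → j < p → σ^[i] a ≠ σ^[j] a := by
          intro i j hij hjp heq
          have h1 : σ^[p - j] (σ^[i] a) = σ^[p - j] (σ^[j] a) := by rw [heq]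
          rw [← Function.iterate_add_apply, ← Function.iterate_add_apply,
            Nat.sub_add_cancel hjp.le, hper a ha] at h1
          exact hfree a ha (p - j + i) (by omega) (by omega) h1
        intro i hi j hj heq
        simp only [Finset.coe_range, Set.mem_Iio] at hi hj
        rcases lt_trichotomy i j with h | h | h
        · exact absurd heq (key i j h hj)
        · exact h
        · exact absurd heq.symm (key j i h hi)
      have hprodO : ∏ b ∈ O, f b = 1 := by
        rw [hO, Finset.prod_image hinj]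
        exact hprod a ha
      have haO : a ∈ O := by
        rw [hO, Finset.mem_image]
        exact ⟨0, Finset.mem_range.mpr hp, rfl⟩
      have hcard' : (F \ O).card < n := by
        rw [← hcard]
        apply Finset.card_lt_card
        refine ⟨Finset.sdiff_subset, fun hsub => ?_⟩
        have := hsub ha
        rw [Finset.mem_sdiff] at this
        exact this.2 haO
      have hcl' : ∀ b ∈ F \ O, σ b ∈ F \ O := by
        intro b hb
        rw [Finset.mem_sdiff] at hb ⊢
        refine ⟨hcl b hb.1, fun hσ => hb.2 ?_⟩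
        rw [hO, Finset.mem_image] at hσ
        obtain ⟨j, hj, hjb⟩ := hσ
        rw [Finset.mem_range] at hj
        have h1 : σ^[p - 1] (σ b) = b := by
          rw [← Function.iterate_succ_apply, Nat.succ_eq_add_one, Nat.sub_add_cancel hp]
          exact hper b hb.1
        rw [← hjb, ← Function.iterate_add_apply] at h1
        rw [hO, Finset.mem_image]
        rcases Nat.eq_zero_or_pos j with hj0 | hj0
        · refine ⟨p - 1, Finset.mem_range.mpr (by omega), ?_⟩
          rw [← h1, hj0, add_zero]
        · refine ⟨j - 1, Finset.mem_range.mpr (by omega), ?_⟩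
          rw [← h1]
          have : p - 1 + j = (j - 1) + p := by omega
          rw [this, Function.iterate_add_apply, hper a ha]
      have h2 := ih (F \ O).card hcard' (F \ O) rfl hcl'
        (fun b hb => hper b (Finset.mem_sdiff.mp hb).1)
        (fun b hb => hfree b (Finset.mem_sdiff.mp hb).1)
        (fun b hb => hprod b (Finset.mem_sdiff.mp hb).1)
      rw [← Finset.prod_sdiff hOF, h2, hprodO, one_mul]

theorem exists_normalizing_outside {G : Type*} [Group G] [Finite G] {p : ℕ} [hp : Fact p.Prime]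
    (S Q : Subgroup G) (hK : IsPGroup p ↥(S ⊔ Q)) (hSQ : S ≤ Subgroup.normalizer (Q : Set G))
    (hne : ¬ Q ≤ S) :
    ∃ w ∈ Q, w ∉ S ∧ w ^ p ∈ S ∧ w ∈ Subgroup.normalizer (S : Set G) := by
  classical
  set K : Subgroup G := S ⊔ Q with hKdef
  have hSK : S ≤ K := le_sup_left
  have hQK : Q ≤ K := le_sup_right
  haveI : Group.IsNilpotent K := hK.isNilpotent
  have hnc := Group.normalizerCondition_of_isNilpotent (G := K)
  have hlt : S.subgroupOf K < ⊤ := by
    rw [lt_top_iff_ne_top]
    intro htop
    apply hne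
    intro q hq
    have : (⟨q, hQK hq⟩ : K) ∈ S.subgroupOf K := by rw [htop]; exact Subgroup.mem_top _
    exact Subgroup.mem_subgroupOf.mp this
  have h1 := hnc (S.subgroupOf K) hlt
  obtain ⟨y, hyN, hyS⟩ := SetLike.exists_of_lt h1
  -- y normalizes S in G
  have hyG : (y : G) ∈ Subgroup.normalizer (S : Set G) := by
    rw [Subgroup.mem_normalizer_iff]
    intro t
    rw [Subgroup.mem_normalizer_iff] at hyN
    constructor
    · intro ht
      have := (hyN ⟨t, hSK ht⟩).mp (Subgroup.mem_subgroupOf.mpr ht)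
      exact Subgroup.mem_subgroupOf.mp this
    · intro ht
      have htK : t ∈ K := by
        have h3 : (y : G) * t * (y : G)⁻¹ ∈ K := hSK ht
        have : t = (y : G)⁻¹ * ((y : G) * t * (y : G)⁻¹) * (y : G) := by group
        rw [this]
        exact K.mul_mem (K.mul_mem (K.inv_mem y.2) h3) y.2
      have := (hyN ⟨t, htK⟩).mpr (Subgroup.mem_subgroupOf.mpr ht)
      exact Subgroup.mem_subgroupOf.mp this
  have hyS' : (y : G) ∉ S := fun h => hyS (Subgroup.mem_subgroupOf.mpr h)
  have hmem : (y : G) ∈ (↑(S ⊔ Q) : Set G) := y.2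
  rw [Subgroup.coe_mul_of_left_le_normalizer_right S Q hSQ] at hmem
  obtain ⟨s, hs, q, hq, hsq⟩ := hmem
  have hs : s ∈ S := hs
  have hq : q ∈ Q := hq
  have hqN : q ∈ Subgroup.normalizer (S : Set G) := by
    have : q = s⁻¹ * (y : G) := by rw [← hsq]; group
    rw [this]
    exact Subgroup.mul_mem _ (Subgroup.inv_mem _ (Subgroup.le_normalizer hs)) hyG
  have hqS : q ∉ S := by
    intro h
    apply hyS'
    rw [← hsq]
    exact S.mul_mem hs h
  -- q is a p-element
  obtain ⟨k, hk⟩ := hK ⟨q, hQK hq⟩
  have hk' : q ^ p ^ k = 1 := congrArg Subtype.val hk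
  have hex : ∃ j, q ^ p ^ j ∈ S := ⟨k, by rw [hk']; exact S.one_mem⟩
  set j := Nat.find hex with hj
  have hjS : q ^ p ^ j ∈ S := Nat.find_spec hex
  have hj0 : j ≠ 0 := by
    intro h0
    rw [h0, pow_zero, pow_one] at hjS
    exact hqS hjS
  obtain ⟨i, hi⟩ := Nat.exists_eq_succ_of_ne_zero hj0
  refine ⟨q ^ p ^ i, Q.pow_mem hq _, ?_, ?_, Subgroup.pow_mem _ hqN _⟩
  · intro h
    have := Nat.find_min hex (m := i) (by omega)
    exact this h
  · rw [← pow_mul, ← pow_succ, ← Nat.succ_eq_add_one, ← hi]
    exact hjS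

end Cfsg.Agent.Helper69.HW
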