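import Mathlib
import Cfsg.Agent.Lib.Helper69.HWAux

set_option autoImplicit false

/-!
# The Hall–Wielandt transfer computation (helper69)

`transfer_kills`: `P` Sylow, `Q ≤ P` weakly closed, `[u, z; p-1] = 1` for `u ∈ P`, `z ∈ Q`.
If `lam : P →* A` (`A` abelian of exponent `p`) is constant on `N_G(Q)`-conjugacy classes of `P`,
then `lam` kills `P ∩ G'`.
-/

namespace Cfsg.Agent.Helper69.HW

open MulAction Subgroup

variable {G : Type*} [Group G]

/-- `g` fixes the coset `c` iff `c.out⁻¹ g c.out ∈ H`. -/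
theorem smul_eq_iff_out_conj_mem (H : Subgroup G) (g : G) (c : G ⧸ H) :
    g • c = c ↔ c.out⁻¹ * g * c.out ∈ H := by
  conv_lhs => rw [← QuotientGroup.out_eq' c]
  rw [MulAction.Quotient.smul_mk, eq_comm, QuotientGroup.eq, smul_eq_mul, mul_assoc]

/-- `(w • c).out` is `w * c.out` up to right multiplication by an element of `H`. -/
theorem exists_out_smul (H : Subgroup G) (w : G) (c : G ⧸ H) :
    ∃ u ∈ H, (w • c).out = w * c.out * u := by
  have h1 : w • c = ((w * c.out : G) : G ⧸ H) := by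
    conv_lhs => rw [← QuotientGroup.out_eq' c]
    rfl
  obtain ⟨u, hu⟩ := QuotientGroup.mk_out_eq_mul H (w * c.out)
  exact ⟨u, u.2, by rw [h1, hu]⟩


/-- Orbit product is trivial: the norm computation. -/
theorem orbit_prod_eq_one [Finite G] {p : ℕ} [hp : Fact p.Prime] (P : Subgroup G) (Q : Subgroup G)
    (h : ∀ u ∈ P, ∀ z ∈ Q, (fun y : G => y⁻¹ * z⁻¹ * y * z)^[p - 1] u = 1)
    {A : Type*} [CommGroup A] (hA : ∀ a : A, a ^ p = 1) (lam' : G → A)
    (lam'_mul : ∀ a b, a ∈ P → b ∈ P → lam' (a * b) = lam' a * lam' b)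
    (g x w : G) (S : Subgroup G) (hSP : S ≤ P) (hSg : ∀ s ∈ S, g⁻¹ * s * g ∈ P)
    (hxS : x ∈ S) (hwQ : w ∈ Q) (hwS : w ∈ normalizer (S : Set G)) :
    ∏ j ∈ Finset.range p, lam' (g⁻¹ * ((w ^ j)⁻¹ * x * w ^ j) * g) = 1 := by
  have lam'_one : lam' 1 = 1 := by
    have := lam'_mul 1 1 P.one_mem P.one_mem
    rw [mul_one] at this
    exact left_eq_mul.mp this
  set Λ : G → A := fun s => lam' (g⁻¹ * s * g) with hΛ
  have Λ_mul : ∀ s t, s ∈ S → t ∈ S → Λ (s * t) = Λ s * Λ t := by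
    intro s t hs ht
    show lam' (g⁻¹ * (s * t) * g) = lam' (g⁻¹ * s * g) * lam' (g⁻¹ * t * g)
    rw [← lam'_mul _ _ (hSg s hs) (hSg t ht)]
    congr 1; group
  have Λ_one : Λ 1 = 1 := by
    show lam' (g⁻¹ * 1 * g) = 1
    rw [mul_one, inv_mul_cancel]; exact lam'_one
  have Λ_inv : ∀ s, s ∈ S → Λ s⁻¹ = (Λ s)⁻¹ := by
    intro s hs
    have := Λ_mul s s⁻¹ hs (S.inv_mem hs)
    rw [mul_inv_cancel, Λ_one] at this
    exact (eq_inv_of_mul_eq_one_right this.symm)
  -- conjugation by powers of w preserves S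
  have hconj : ∀ (j : ℕ) (s : G), s ∈ S → (w ^ j)⁻¹ * s * w ^ j ∈ S := by
    intro j s hs
    have h1 : (w ^ j)⁻¹ ∈ normalizer (S : Set G) := Subgroup.inv_mem _ (Subgroup.pow_mem _ hwS j)
    have := (Subgroup.mem_normalizer_iff.mp h1 s).mp hs
    rwa [inv_inv] at this
  set u : ℕ → G := fun k => (fun y : G => y⁻¹ * w⁻¹ * y * w)^[k] x with hu
  have hu0 : u 0 = x := rfl
  have husucc : ∀ k, u (k + 1) = (u k)⁻¹ * w⁻¹ * u k * w := by
    intro k
    show (fun y : G => y⁻¹ * w⁻¹ * y * w)^[k + 1] x = _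
    rw [Function.iterate_succ_apply']
  have huS : ∀ k, u k ∈ S := by
    intro k
    induction k with
    | zero => exact hxS
    | succ k ih =>
      rw [husucc]
      have h1 := hconj 1 (u k) ih
      rw [pow_one] at h1
      have : (u k)⁻¹ * w⁻¹ * u k * w = (u k)⁻¹ * (w⁻¹ * u k * w) := by group
      rw [this]
      exact S.mul_mem (S.inv_mem ih) h1
  set b : ℕ → ℕ → A := fun k j => Λ ((w ^ j)⁻¹ * u k * w ^ j) with hb
  have hbrec : ∀ k j, b (k + 1) j = b k (j + 1) / b k j := by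
    intro k j
    show Λ ((w ^ j)⁻¹ * u (k + 1) * w ^ j) = Λ ((w ^ (j + 1))⁻¹ * u k * w ^ (j + 1)) / Λ ((w ^ j)⁻¹ * u k * w ^ j)
    have h1 : (w ^ j)⁻¹ * u (k + 1) * w ^ j =
        ((w ^ j)⁻¹ * u k * w ^ j)⁻¹ * ((w ^ (j + 1))⁻¹ * u k * w ^ (j + 1)) := by
      rw [husucc, pow_succ]; group
    rw [h1, Λ_mul _ _ (S.inv_mem (hconj j _ (huS k))) (hconj (j + 1) _ (huS k)),
      Λ_inv _ (hconj j _ (huS k)), div_eq_inv_mul]
  have key := prod_eq_iter p hA b hbrec
  have hlast : b (p - 1) 0 = 1 := by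
    show Λ ((w ^ 0)⁻¹ * u (p - 1) * w ^ 0) = 1
    have : u (p - 1) = 1 := h x (hSP hxS) w hwQ
    rw [this, pow_zero, inv_one, one_mul, mul_one, Λ_one]
  rw [hlast] at key
  exact key.symm


theorem transfer_kills [Finite G] {p : ℕ} [hp : Fact p.Prime] (P : Sylow p G) (Q : Subgroup G)
    (hQP : Q ≤ (P : Subgroup G)) (hQn : (P : Subgroup G) ≤ normalizer (Q : Set G))
    (hwc : ∀ g : G, (∀ q ∈ Q, g⁻¹ * q * g ∈ (P : Subgroup G)) → g ∈ normalizer (Q : Set G))
    (h : ∀ u ∈ (P : Subgroup G), ∀ z ∈ Q, (fun y : G => y⁻¹ * z⁻¹ * y * z)^[p - 1] u = 1)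
    {A : Type*} [CommGroup A] (hA : ∀ a : A, a ^ p = 1) (lam : (P : Subgroup G) →* A)
    (hstab : ∀ (x : G) (hx : x ∈ (P : Subgroup G)) (n : G), n ∈ normalizer (Q : Set G) →
      ∀ hx' : n⁻¹ * x * n ∈ (P : Subgroup G), lam ⟨n⁻¹ * x * n, hx'⟩ = lam ⟨x, hx⟩) :
    ∀ (m : ℕ) (x : G) (hx : x ∈ (P : Subgroup G)), orderOf x = m → x ∈ commutator G → lam ⟨x, hx⟩ = 1 := by
  classical
  set lam' : G → A := fun g => if hg : g ∈ (P : Subgroup G) then lam ⟨g, hg⟩ else 1 with hlam'
  have lam'_eq : ∀ g (hg : g ∈ (P : Subgroup G)), lam' g = lam ⟨g, hg⟩ := fun g hg => dif_pos hg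
  have lam'_mul : ∀ a b, a ∈ (P : Subgroup G) → b ∈ (P : Subgroup G) → lam' (a * b) = lam' a * lam' b := by
    intro a b ha hb
    rw [lam'_eq _ ((P : Subgroup G).mul_mem ha hb), lam'_eq _ ha, lam'_eq _ hb, ← map_mul]
    rfl
  have lam'_one : lam' 1 = 1 := by
    rw [lam'_eq _ (P : Subgroup G).one_mem]
    exact map_one lam
  have lam'_inv : ∀ a, a ∈ (P : Subgroup G) → lam' a⁻¹ = (lam' a)⁻¹ := by
    intro a ha
    rw [lam'_eq _ ((P : Subgroup G).inv_mem ha), lam'_eq _ ha, ← map_inv]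
    rfl
  have lam'_conj : ∀ a u, a ∈ (P : Subgroup G) → u ∈ (P : Subgroup G) → lam' (u⁻¹ * a * u) = lam' a := by
    intro a u ha hu
    rw [lam'_mul _ _ ((P : Subgroup G).mul_mem ((P : Subgroup G).inv_mem hu) ha) hu,
      lam'_mul _ _ ((P : Subgroup G).inv_mem hu) ha, lam'_inv _ hu]
    rw [mul_comm (lam' u)⁻¹, mul_assoc, inv_mul_cancel, mul_one]
  intro m
  induction m using Nat.strong_induction_on with
  | _ m ih =>
  intro x hx hxm hxc
  set τ : G →* A := MonoidHom.transfer lam with hτ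
  have hτx : τ x = 1 := MonoidHom.mem_ker.mp (Abelianization.commutator_subset_ker τ hxc)
  haveI : Fintype (Quotient (orbitRel (zpowers x) (G ⧸ (P : Subgroup G)))) := Fintype.ofFinite _
  haveI : Fintype (G ⧸ (P : Subgroup G)) := Fintype.ofFinite _
  have heval : τ x = ∏ q : Quotient (orbitRel (zpowers x) (G ⧸ (P : Subgroup G))),
      lam' (q.out.out⁻¹ * x ^ Function.minimalPeriod (x • ·) q.out * q.out.out) := by
    rw [hτ, MonoidHom.transfer_eq_prod_quotient_orbitRel_zpowers_quot lam x]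
    refine Finset.prod_congr rfl (fun q _ => ?_)
    rw [lam'_eq]
  -- terms with period ≠ 1 vanish by induction
  have hterm : ∀ q : Quotient (orbitRel (zpowers x) (G ⧸ (P : Subgroup G))),
      Function.minimalPeriod (x • ·) q.out ≠ 1 →
      lam' (q.out.out⁻¹ * x ^ Function.minimalPeriod (x • ·) q.out * q.out.out) = 1 := by
    intro q hq
    set n := Function.minimalPeriod (x • ·) q.out with hn
    set g := q.out.out with hg
    have hmem : g⁻¹ * x ^ n * g ∈ (P : Subgroup G) :=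
      QuotientGroup.out_conj_pow_minimalPeriod_mem (P : Subgroup G) x q.out
    have hdvd : n ∣ orderOf x := by
      rw [hn, ← MulAction.pow_smul_eq_iff_minimalPeriod_dvd, pow_orderOf_eq_one, one_smul]
    have hxpos : 0 < orderOf x := orderOf_pos x
    have hn0 : n ≠ 0 := fun h0 => by rw [h0, zero_dvd_iff] at hdvd; omega
    have hord : orderOf (g⁻¹ * x ^ n * g) = orderOf x / n := by
      have h1 : g⁻¹ * x ^ n * g = MulAut.conj g⁻¹ (x ^ n) := by simp [MulAut.conj_apply]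
      rw [h1, MulEquiv.orderOf_eq, orderOf_pow_of_dvd hn0 hdvd]
    have hlt : orderOf (g⁻¹ * x ^ n * g) < m := by
      rw [hord, ← hxm]
      exact Nat.div_lt_self hxpos (by omega)
    have hcomm : g⁻¹ * x ^ n * g ∈ commutator G := by
      have h1 : x ^ n ∈ commutator G := Subgroup.pow_mem _ hxc n
      have := (inferInstance : (commutator G).Normal).conj_mem _ h1 g⁻¹
      simpa using this
    rw [lam'_eq _ hmem]
    exact ih _ hlt _ hmem rfl hcomm
  set Fx : Finset (G ⧸ (P : Subgroup G)) := Finset.univ.filter (fun c => x • c = c) with hFx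
  set val : G ⧸ (P : Subgroup G) → A := fun c => lam' (c.out⁻¹ * x * c.out) with hval
  have hout : ∀ c : G ⧸ (P : Subgroup G), x • c = c →
      (Quotient.mk'' c : Quotient (orbitRel (zpowers x) (G ⧸ (P : Subgroup G)))).out = c := by
    intro c hc
    have h1 : orbitRel (zpowers x) (G ⧸ (P : Subgroup G))
        (Quotient.mk'' c : Quotient (orbitRel (zpowers x) (G ⧸ (P : Subgroup G)))).out c :=
      Quotient.exact (Quotient.out_eq' _)
    rw [orbitRel_apply, mem_orbit_iff] at h1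
    obtain ⟨⟨k, hk⟩, hkc⟩ := h1
    have hk' : k ∈ stabilizer G c := by
      obtain ⟨i, rfl⟩ := Subgroup.mem_zpowers_iff.mp hk
      exact (stabilizer G c).zpow_mem (mem_stabilizer_iff.mpr hc) i
    rw [← hkc]
    exact mem_stabilizer_iff.mp hk'
  have hprod : τ x = ∏ c ∈ Fx, val c := by
    rw [heval, ← Finset.prod_filter_of_ne
      (p := fun q : Quotient (orbitRel (zpowers x) (G ⧸ (P : Subgroup G))) =>
        Function.minimalPeriod (x • ·) q.out = 1)
      (fun q _ hne => by_contra fun hq => hne (hterm q hq))]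
    symm
    refine Finset.prod_bij (fun c _ => (Quotient.mk'' c : Quotient (orbitRel (zpowers x) (G ⧸ (P : Subgroup G)))))
      ?_ ?_ ?_ ?_
    · intro c hc
      rw [hFx, Finset.mem_filter] at hc
      rw [Finset.mem_filter]
      refine ⟨Finset.mem_univ _, ?_⟩
      rw [hout c hc.2, Function.minimalPeriod_eq_one_iff_isFixedPt]
      exact hc.2
    · intro c hc c' hc' heq
      rw [hFx, Finset.mem_filter] at hc hc'
      rw [← hout c hc.2, ← hout c' hc'.2, heq]
    · intro q hq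
      rw [Finset.mem_filter] at hq
      have hfix : x • q.out = q.out := Function.minimalPeriod_eq_one_iff_isFixedPt.mp hq.2
      refine ⟨q.out, ?_, Quotient.out_eq' q⟩
      rw [hFx, Finset.mem_filter]
      exact ⟨Finset.mem_univ _, hfix⟩
    · intro c hc
      rw [hFx, Finset.mem_filter] at hc
      show lam' (c.out⁻¹ * x * c.out) = _
      rw [hout c hc.2, Function.minimalPeriod_eq_one_iff_isFixedPt.mpr hc.2, pow_one]
  have hmemFx : ∀ c, c ∈ Fx ↔ x • c = c := by
    intro c; rw [hFx, Finset.mem_filter]; exact ⟨fun h => h.2, fun h => ⟨Finset.mem_univ _, h⟩⟩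
  set FN : Finset (G ⧸ (P : Subgroup G)) := Fx.filter (fun c => Q ≤ stabilizer G c) with hFNdef
  set F' : Finset (G ⧸ (P : Subgroup G)) := Fx.filter (fun c => ¬ Q ≤ stabilizer G c) with hF'def
  have hmemFN : ∀ c, c ∈ FN ↔ x • c = c ∧ Q ≤ stabilizer G c := by
    intro c; rw [hFNdef, Finset.mem_filter, hmemFx]
  have hmemF' : ∀ c, c ∈ F' ↔ x • c = c ∧ ¬ Q ≤ stabilizer G c := by
    intro c; rw [hF'def, Finset.mem_filter, hmemFx]
  have hsplit : ∏ c ∈ Fx, val c = (∏ c ∈ FN, val c) * ∏ c ∈ F', val c :=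
    (Finset.prod_filter_mul_prod_filter_not Fx _ val).symm
  -- the part inside N(Q)
  have hFN : ∀ c ∈ FN, val c = lam ⟨x, hx⟩ := by
    intro c hc
    obtain ⟨hcx, hcQ⟩ := (hmemFN c).mp hc
    have hn : c.out ∈ normalizer (Q : Set G) :=
      hwc _ (fun q hq => (smul_eq_iff_out_conj_mem _ q c).mp (mem_stabilizer_iff.mp (hcQ hq)))
    have hmem : c.out⁻¹ * x * c.out ∈ (P : Subgroup G) := (smul_eq_iff_out_conj_mem _ x c).mp hcx
    show lam' _ = _
    rw [lam'_eq _ hmem]
    exact hstab x hx c.out hn hmem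
  have hFNprod : ∏ c ∈ FN, val c = (lam ⟨x, hx⟩) ^ FN.card := by
    rw [Finset.prod_congr rfl hFN, Finset.prod_const]
  have hcard : ¬ p ∣ FN.card := by
    set K : Subgroup G := zpowers x ⊔ Q with hK
    have hKP : K ≤ (P : Subgroup G) := sup_le ((zpowers_le).mpr hx) hQP
    have hKp : IsPGroup p K := P.2.to_le hKP
    have h1 := hKp.card_modEq_card_fixedPoints (G ⧸ (P : Subgroup G))
    have h2 : Nat.card (fixedPoints K (G ⧸ (P : Subgroup G))) = FN.card := by
      rw [← Nat.card_eq_finsetCard FN]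
      apply Nat.card_congr
      apply Equiv.subtypeEquivRight
      intro c
      rw [mem_fixedPoints, hmemFN]
      constructor
      · intro hc
        refine ⟨hc ⟨x, le_sup_left (a := zpowers x) (b := Q) (mem_zpowers x)⟩, fun q hq => ?_⟩
        exact mem_stabilizer_iff.mpr (hc ⟨q, le_sup_right (a := zpowers x) (b := Q) hq⟩)
      · rintro ⟨hcx, hcQ⟩ ⟨k, hk⟩
        have hle : K ≤ stabilizer G c :=
          sup_le ((zpowers_le).mpr (mem_stabilizer_iff.mpr hcx)) hcQ
        exact mem_stabilizer_iff.mp (hle hk)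
    rw [h2] at h1
    intro hdvd
    have h3 : p ∣ Nat.card (G ⧸ (P : Subgroup G)) := (Nat.ModEq.dvd_iff h1 (dvd_refl p)).mpr hdvd
    rw [← Subgroup.index_eq_card] at h3
    exact P.not_dvd_index h3
  -- the part outside N(Q): a free action of order p with trivial orbit products
  set Sc : G ⧸ (P : Subgroup G) → Subgroup G := fun c => (P : Subgroup G) ⊓ stabilizer G c with hSc
  have hmemSc : ∀ c g, g ∈ Sc c ↔ g ∈ (P : Subgroup G) ∧ g • c = c := by
    intro c g; rw [hSc]; simp only [Subgroup.mem_inf, mem_stabilizer_iff]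
  obtain ⟨wOf, hwOf⟩ : ∃ wOf : Subgroup G → G, ∀ S : Subgroup G,
      (∃ w ∈ Q, w ∉ S ∧ w ^ p ∈ S ∧ w ∈ normalizer (S : Set G)) →
      (wOf S ∈ Q ∧ wOf S ∉ S ∧ wOf S ^ p ∈ S ∧ wOf S ∈ normalizer (S : Set G)) := by
    refine ⟨fun S => if hS : ∃ w ∈ Q, w ∉ S ∧ w ^ p ∈ S ∧ w ∈ normalizer (S : Set G)
      then hS.choose else 1, fun S hS => ?_⟩
    simp only [dif_pos hS]
    exact hS.choose_spec
  have hw : ∀ c ∈ F', wOf (Sc c) ∈ Q ∧ wOf (Sc c) ∉ Sc c ∧ wOf (Sc c) ^ p ∈ Sc c ∧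
      wOf (Sc c) ∈ normalizer (Sc c : Set G) := by
    intro c hc
    apply hwOf
    apply exists_normalizing_outside (Sc c) Q
    · exact P.2.to_le (sup_le inf_le_left hQP)
    · exact le_trans inf_le_left hQn
    · intro hle
      exact ((hmemF' c).mp hc).2 (le_trans hle inf_le_right)
  have hSc_smul : ∀ (c : G ⧸ (P : Subgroup G)) (v : G), v ∈ (P : Subgroup G) →
      v ∈ normalizer (Sc c : Set G) → Sc (v • c) = Sc c := by
    intro c v hvP hvN
    ext g
    have hN := Subgroup.mem_normalizer_iff.mp (Subgroup.inv_mem _ hvN) g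
    rw [inv_inv] at hN
    rw [hN, hmemSc, hmemSc]
    constructor
    · rintro ⟨hgP, hgc⟩
      refine ⟨(P : Subgroup G).mul_mem ((P : Subgroup G).mul_mem ((P : Subgroup G).inv_mem hvP) hgP) hvP, ?_⟩
      rw [mul_smul, mul_smul, hgc, inv_smul_smul]
    · rintro ⟨hgP, hgc⟩
      refine ⟨?_, ?_⟩
      · have : g = v * (v⁻¹ * g * v) * v⁻¹ := by group
        rw [this]
        exact (P : Subgroup G).mul_mem ((P : Subgroup G).mul_mem hvP hgP) ((P : Subgroup G).inv_mem hvP)
      · rw [mul_smul, mul_smul] at hgc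
        have := congrArg (fun t => v • t) hgc
        simpa using this
  set σ : G ⧸ (P : Subgroup G) → G ⧸ (P : Subgroup G) := fun c => wOf (Sc c) • c with hσ
  have hσiter : ∀ c ∈ F', ∀ j : ℕ, σ^[j] c = (wOf (Sc c)) ^ j • c ∧ Sc (σ^[j] c) = Sc c := by
    intro c hc j
    obtain ⟨hwQ, -, -, hwN⟩ := hw c hc
    induction j with
    | zero => simp
    | succ j ihj =>
      obtain ⟨h1, h2⟩ := ihj
      have h3 : σ^[j + 1] c = wOf (Sc c) ^ (j + 1) • c := by
        rw [Function.iterate_succ_apply']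
        show wOf (Sc (σ^[j] c)) • (σ^[j] c) = _
        rw [h2, h1, smul_smul, ← pow_succ']
      refine ⟨h3, ?_⟩
      rw [h3]
      exact hSc_smul c _ (hQP (Q.pow_mem hwQ _)) (Subgroup.pow_mem _ hwN _)
  have hF'prod : ∏ c ∈ F', val c = 1 := by
    apply prod_eq_one_of_free_cycle p hp.out.pos σ val F'.card F' rfl
    · -- closure
      intro c hc
      obtain ⟨hwQ, -, -, hwN⟩ := hw c hc
      obtain ⟨hcx, hcQ⟩ := (hmemF' c).mp hc
      rw [hmemF']
      show x • (wOf (Sc c) • c) = wOf (Sc c) • c ∧ ¬ Q ≤ stabilizer G (wOf (Sc c) • c)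
      set w := wOf (Sc c) with hwdef
      constructor
      · have hxS : x ∈ Sc c := (hmemSc c x).mpr ⟨hx, hcx⟩
        have h1 := (Subgroup.mem_normalizer_iff.mp (Subgroup.inv_mem _ hwN) x).mp hxS
        rw [inv_inv] at h1
        have h2 := ((hmemSc c _).mp h1).2
        rw [mul_smul, mul_smul] at h2
        have := congrArg (fun t => w • t) h2
        simpa using this
      · intro hle
        apply hcQ
        intro q hq
        have h1 : w * q * w⁻¹ ∈ Q := Q.mul_mem (Q.mul_mem hwQ hq) (Q.inv_mem hwQ)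
        have h2 := mem_stabilizer_iff.mp (hle h1)
        rw [mul_smul, mul_smul, inv_smul_smul] at h2
        exact mem_stabilizer_iff.mpr (smul_left_cancel w h2)
    · -- period p
      intro c hc
      obtain ⟨-, -, hwp, -⟩ := hw c hc
      rw [(hσiter c hc p).1]
      exact ((hmemSc c _).mp hwp).2
    · -- freeness
      intro c hc j hj0 hjp hfix
      obtain ⟨hwQ, hwS, hwp, -⟩ := hw c hc
      rw [(hσiter c hc j).1] at hfix
      apply hwS
      set w := wOf (Sc c) with hwdef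
      have hwj : w ^ j ∈ Sc c := (hmemSc c _).mpr ⟨hQP (Q.pow_mem hwQ j), hfix⟩
      have hcop : Nat.Coprime j p := by
        rw [Nat.coprime_comm, Nat.Prime.coprime_iff_not_dvd hp.out]
        intro hd
        have := Nat.le_of_dvd hj0 hd
        omega
      have hw1 : w = (w ^ j) ^ (Nat.gcdA j p) * (w ^ p) ^ (Nat.gcdB j p) := by
        rw [← zpow_natCast w j, ← zpow_natCast w p, ← zpow_mul, ← zpow_mul, ← zpow_add,
          ← Nat.gcd_eq_gcd_ab, hcop, Nat.cast_one, zpow_one]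
      rw [hw1]
      exact (Sc c).mul_mem ((Sc c).zpow_mem hwj _) ((Sc c).zpow_mem hwp _)
    · -- orbit products
      intro c hc
      obtain ⟨hwQ, -, -, hwN⟩ := hw c hc
      obtain ⟨hcx, -⟩ := (hmemF' c).mp hc
      set w := wOf (Sc c) with hwdef
      have hxS : x ∈ Sc c := (hmemSc c x).mpr ⟨hx, hcx⟩
      have hSg : ∀ s ∈ Sc c, c.out⁻¹ * s * c.out ∈ (P : Subgroup G) := fun s hs =>
        (smul_eq_iff_out_conj_mem _ s c).mp ((hmemSc c s).mp hs).2
      have hconj : ∀ j : ℕ, (w ^ j)⁻¹ * x * w ^ j ∈ Sc c := by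
        intro j
        have h1 := (Subgroup.mem_normalizer_iff.mp (Subgroup.inv_mem _ (Subgroup.pow_mem _ hwN j)) x).mp hxS
        rwa [inv_inv] at h1
      rw [← orbit_prod_eq_one (P : Subgroup G) Q h hA lam' lam'_mul c.out x w (Sc c) inf_le_left hSg hxS hwQ hwN]
      refine Finset.prod_congr rfl (fun j _ => ?_)
      rw [(hσiter c hc j).1]
      show lam' ((w ^ j • c).out⁻¹ * x * (w ^ j • c).out) = _
      obtain ⟨u, hu, hout'⟩ := exists_out_smul (P : Subgroup G) (w ^ j) c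
      rw [hout']
      have h1 : (w ^ j * c.out * u)⁻¹ * x * (w ^ j * c.out * u) =
          u⁻¹ * (c.out⁻¹ * ((w ^ j)⁻¹ * x * w ^ j) * c.out) * u := by group
      rw [h1]
      exact lam'_conj _ u (hSg _ (hconj j)) hu
  -- conclusion
  rw [hprod, hsplit, hFNprod, hF'prod, mul_one] at hτx
  have hp1 : (lam ⟨x, hx⟩) ^ p = 1 := hA _
  have hg : (lam ⟨x, hx⟩) ^ Nat.gcd FN.card p = 1 := pow_gcd_eq_one.mpr ⟨hτx, hp1⟩
  have hcop : Nat.gcd FN.card p = 1 := by
    have : Nat.Coprime p FN.card := (Nat.Prime.coprime_iff_not_dvd hp.out).mpr hcard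
    exact this.symm
  rw [hcop, pow_one] at hg
  exact hg

end Cfsg.Agent.Helper69.HW
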