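import Mathlib
import Cfsg.Agent.Lib.Helper69.PiParts
import Cfsg.Agent.S4184
import Cfsg.Agent.S4163
import Cfsg.Agent.S4365
import Cfsg.Agent.Lib.Helper69.FpfNorm

set_option autoImplicit false

/-!
# Ito's theorem on groups with two conjugacy class sizes

If every conjugacy class of the finite group `G` has size `1` or `n`, then `G / Z(G)` is a `p`-group.
-/

namespace Cfsg.Agent.Helper69.Ito

open Cfsg.Agent.Helper69

section basics

variable {G : Type*} [Group G]

/-- the centralizer of an element -/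
abbrev cen (x : G) : Subgroup G := Subgroup.centralizer ({x} : Set G)

theorem mem_cen {x g : G} : g ∈ cen x ↔ x * g = g * x := by
  rw [Subgroup.mem_centralizer_iff]
  constructor
  · intro h; exact h x rfl
  · intro h y hy
    rw [Set.mem_singleton_iff] at hy
    rw [hy]; exact h

theorem self_mem_cen (x : G) : x ∈ cen x := mem_cen.mpr rfl

theorem center_le_cen (x : G) : Subgroup.center G ≤ cen x := by
  intro z hz
  rw [mem_cen]
  exact Subgroup.mem_center_iff.mp hz x

theorem cen_eq_top_iff {x : G} : cen x = ⊤ ↔ x ∈ Subgroup.center G := by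
  constructor
  · intro h
    rw [Subgroup.mem_center_iff]
    intro g
    have : g ∈ cen x := by rw [h]; trivial
    exact (mem_cen.mp this).symm
  · intro h
    rw [eq_top_iff]
    intro g _
    rw [mem_cen]
    exact (Subgroup.mem_center_iff.mp h g).symm

theorem cen_le_of_mem_zpowers {x y : G} (h : y ∈ Subgroup.zpowers x) : cen x ≤ cen y := by
  intro g hg
  rw [mem_cen] at hg ⊢
  obtain ⟨k, rfl⟩ := Subgroup.mem_zpowers_iff.mp h
  exact ((show Commute x g from hg).zpow_left k).eq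

theorem cen_mul_central {x z : G} (hz : z ∈ Subgroup.center G) : cen (x * z) = cen x := by
  ext g
  rw [mem_cen, mem_cen]
  have hc : ∀ w : G, w * z = z * w := Subgroup.mem_center_iff.mp hz
  constructor
  · intro h
    have h1 : x * g * z = g * x * z := by
      calc x * g * z = x * (g * z) := mul_assoc _ _ _
        _ = x * (z * g) := by rw [hc g]
        _ = x * z * g := (mul_assoc _ _ _).symm
        _ = g * (x * z) := h
        _ = g * x * z := (mul_assoc _ _ _).symm
    exact mul_right_cancel h1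
  · intro h
    calc x * z * g = x * (z * g) := mul_assoc _ _ _
      _ = x * (g * z) := by rw [hc g]
      _ = x * g * z := (mul_assoc _ _ _).symm
      _ = g * x * z := by rw [h]
      _ = g * (x * z) := mul_assoc _ _ _

/-- conjugating the centralizer -/
theorem mem_cen_conj {g x k : G} : k ∈ cen (g * x * g⁻¹) ↔ g⁻¹ * k * g ∈ cen x := by
  rw [mem_cen, mem_cen]
  constructor
  · intro h
    calc x * (g⁻¹ * k * g) = g⁻¹ * ((g * x * g⁻¹) * k) * g := by group
      _ = g⁻¹ * (k * (g * x * g⁻¹)) * g := by rw [h]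
      _ = g⁻¹ * k * g * x := by group
  · intro h
    calc g * x * g⁻¹ * k = g * (x * (g⁻¹ * k * g)) * g⁻¹ := by group
      _ = g * ((g⁻¹ * k * g) * x) * g⁻¹ := by rw [h]
      _ = k * (g * x * g⁻¹) := by group

theorem zpowers_le_cen {x g : G} (hg : g ∈ cen x) : Subgroup.zpowers g ≤ cen x := by
  rw [Subgroup.zpowers_le]; exact hg

/-- both factors of a product of commuting elements of coprime orders are powers of it -/
theorem mem_zpowers_mul_of_coprime {u y : G} (hc : Commute u y)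
    (hco : (orderOf u).Coprime (orderOf y)) :
    u ∈ Subgroup.zpowers (u * y) ∧ y ∈ Subgroup.zpowers (u * y) := by
  constructor
  · obtain ⟨m, hm⟩ := exists_pow_eq_self_of_coprime (x := u) hco.symm
    have h1 : (u * y) ^ orderOf y = u ^ orderOf y := by
      rw [hc.mul_pow, pow_orderOf_eq_one, mul_one]
    have h2 : ((u * y) ^ orderOf y) ^ m = u := by rw [h1, hm]
    have h3 : ((u * y) ^ orderOf y) ^ m ∈ Subgroup.zpowers (u * y) :=
      Subgroup.pow_mem _ (Subgroup.pow_mem _ (Subgroup.mem_zpowers _) _) _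
    rwa [h2] at h3
  · obtain ⟨m, hm⟩ := exists_pow_eq_self_of_coprime (x := y) hco
    have h1 : (u * y) ^ orderOf u = y ^ orderOf u := by
      rw [hc.mul_pow, pow_orderOf_eq_one, one_mul]
    have h2 : ((u * y) ^ orderOf u) ^ m = y := by rw [h1, hm]
    have h3 : ((u * y) ^ orderOf u) ^ m ∈ Subgroup.zpowers (u * y) :=
      Subgroup.pow_mem _ (Subgroup.pow_mem _ (Subgroup.mem_zpowers _) _) _
    rwa [h2] at h3

theorem isPiElt_singleton_of_orderOf {r : ℕ} (hr : r.Prime) {g : G} (h : ∃ k, orderOf g = r ^ k) :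
    IsPiElt {r} g := by
  obtain ⟨k, hk⟩ := h
  intro q hq hd
  rw [hk] at hd
  have := (Nat.prime_dvd_prime_iff_eq hq hr).mp (hq.dvd_of_dvd_pow hd)
  exact this

theorem orderOf_of_isPiElt_singleton {r : ℕ} {g : G} (h0 : orderOf g ≠ 0)
    (h : IsPiElt {r} g) : ∃ k, orderOf g = r ^ k :=
  ⟨_, Nat.eq_prime_pow_of_unique_prime_dvd h0 (fun {q} hq hd => h q hq hd)⟩

theorem coprime_of_isPiElt {π : Set ℕ} {g h : G} (hg : IsPiElt π g) (hh : IsPiElt πᶜ h) :
    (orderOf g).Coprime (orderOf h) :=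
  Nat.coprime_of_dvd fun q hq h1 h2 => (hh q hq h2) (hg q hq h1)

end basics

section twoCS

variable {G : Type*} [Group G] [Finite G]

/-- every conjugacy class has size `1` or `n` -/
def TwoCS (G : Type*) [Group G] (n : ℕ) : Prop :=
  ∀ x : G, (cen x).index = 1 ∨ (cen x).index = n

variable {n : ℕ}

theorem index_of_not_central (h : TwoCS G n) {x : G} (hx : x ∉ Subgroup.center G) :
    (cen x).index = n := by
  rcases h x with h1 | h1
  · exact absurd (cen_eq_top_iff.mp (Subgroup.index_eq_one.mp h1)) hx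
  · exact h1

theorem n_pos (h : TwoCS G n) {x : G} (hx : x ∉ Subgroup.center G) : 0 < n := by
  rw [← index_of_not_central h hx]
  exact Nat.pos_of_ne_zero (Subgroup.index_ne_zero_of_finite)

theorem cen_eq_of_le (h : TwoCS G n) {x y : G} (hx : x ∉ Subgroup.center G)
    (hy : y ∉ Subgroup.center G) (hle : cen x ≤ cen y) : cen x = cen y := by
  apply le_antisymm hle
  have h1 := Subgroup.relIndex_mul_index hle
  rw [index_of_not_central h hx, index_of_not_central h hy] at h1
  have h2 : (cen x).relIndex (cen y) = 1 :=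
    Nat.eq_of_mul_eq_mul_right (n_pos h hx) (by rw [h1, one_mul])
  exact Subgroup.relIndex_eq_one.mp h2

theorem card_cen_eq (h : TwoCS G n) {x y : G} (hx : x ∉ Subgroup.center G)
    (hy : y ∉ Subgroup.center G) : Nat.card (cen x) = Nat.card (cen y) := by
  have h1 := (cen x).card_mul_index
  have h2 := (cen y).card_mul_index
  rw [index_of_not_central h hx] at h1
  rw [index_of_not_central h hy] at h2
  exact Nat.eq_of_mul_eq_mul_right (n_pos h hx) (h1.trans h2.symm)

/-- an element of `C(u)` of order coprime to `u` is central in `C(u)` -/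
theorem cen_le_of_coprime (h : TwoCS G n) {u y : G} (hu : u ∉ Subgroup.center G)
    (hy : y ∈ cen u) (hco : (orderOf u).Coprime (orderOf y)) : cen u ≤ cen y := by
  have hc : Commute u y := mem_cen.mp hy
  obtain ⟨h1, h2⟩ := mem_zpowers_mul_of_coprime hc hco
  have huy : u * y ∉ Subgroup.center G := by
    intro hz
    apply hu
    have : Subgroup.zpowers (u * y) ≤ Subgroup.center G := by
      rw [Subgroup.zpowers_le]; exact hz
    exact this h1
  have e : cen (u * y) = cen u := cen_eq_of_le h huy hu (cen_le_of_mem_zpowers h1)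
  rw [← e]
  exact cen_le_of_mem_zpowers h2

/-- if a noncentral `p`-element commutes with a noncentral `q`-element then its centralizer is
abelian -/
theorem abelian_of_pair (h : TwoCS G n) {p q : ℕ} (hp : p.Prime) (hq : q.Prime) (hpq : p ≠ q)
    {u y : G} (hu : u ∉ Subgroup.center G) (hy : y ∉ Subgroup.center G)
    (hup : ∃ a, orderOf u = p ^ a) (hyq : ∃ b, orderOf y = q ^ b) (hc : Commute u y) :
    ∀ g ∈ cen u, cen u ≤ cen g := by
  have hyu : y ∈ cen u := mem_cen.mpr hc
  have hpiu : IsPiElt {p} u := isPiElt_singleton_of_orderOf hp hup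
  have hpiy : IsPiElt ({p} : Set ℕ)ᶜ y := by
    intro r hr hd
    obtain ⟨b, hb⟩ := hyq
    rw [hb] at hd
    have e := (Nat.prime_dvd_prime_iff_eq hr hq).mp (hr.dvd_of_dvd_pow hd)
    intro hrp
    rw [Set.mem_singleton_iff] at hrp
    exact hpq (hrp ▸ e)
  have hle : cen u ≤ cen y := cen_le_of_coprime h hu hyu (coprime_of_isPiElt hpiu hpiy)
  have heq : cen u = cen y := cen_eq_of_le h hu hy hle
  intro g hg
  have o : ∀ x : G, orderOf x ≠ 0 := fun x => (orderOf_pos x).ne'
  have hg1 : piPart {p} g ∈ cen u := zpowers_le_cen hg (piPart_mem_zpowers _ g)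
  have hg2 : piPart' {p} g ∈ cen u := zpowers_le_cen hg (piPart'_mem_zpowers _ g)
  have h2 : cen u ≤ cen (piPart' {p} g) :=
    cen_le_of_coprime h hu hg2 (coprime_of_isPiElt hpiu (isPiElt_piPart' _ g (o g)))
  have h1 : cen u ≤ cen (piPart {p} g) := by
    rw [heq]
    apply cen_le_of_coprime h hy (heq ▸ hg1)
    exact (coprime_of_isPiElt (isPiElt_piPart _ g (o g)) hpiy).symm
  intro k hk
  have k1 := mem_cen.mp (h1 hk)
  have k2 := mem_cen.mp (h2 hk)
  rw [mem_cen, ← piPart_mul_piPart' {p} g]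
  exact ((show Commute _ k from k1).mul_left (show Commute _ k from k2)).eq

/-- a noncentral element has a noncentral power of prime power order -/
theorem exists_primePow_part (x : G) (hx : x ∉ Subgroup.center G) :
    ∃ r : ℕ, r.Prime ∧ ∃ x' ∈ Subgroup.zpowers x, x' ∉ Subgroup.center G ∧
      ∃ k, orderOf x' = r ^ k := by
  induction' hN : orderOf x using Nat.strong_induction_on with N ih generalizing x
  have o : ∀ x : G, orderOf x ≠ 0 := fun x => (orderOf_pos x).ne'
  have hx1 : orderOf x ≠ 1 := by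
    intro h1
    rw [orderOf_eq_one_iff] at h1
    exact hx (h1 ▸ Subgroup.one_mem _)
  set r := (orderOf x).minFac with hr
  have hrp : r.Prime := Nat.minFac_prime hx1
  have hrd : r ∣ orderOf x := Nat.minFac_dvd _
  by_cases h1 : piPart {r} x ∈ Subgroup.center G
  · have h2 : piPart' {r} x ∉ Subgroup.center G := by
      intro h2
      apply hx
      rw [← piPart_mul_piPart' {r} x]
      exact Subgroup.mul_mem _ h1 h2
    have hd : orderOf (piPart' {r} x) ∣ orderOf x :=
      orderOf_dvd_of_mem_zpowers (piPart'_mem_zpowers _ x)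
    have hne : orderOf (piPart' {r} x) ≠ orderOf x := by
      intro e
      have := isPiElt_piPart' {r} x (o x) r hrp (e ▸ hrd)
      exact this rfl
    have hlt : orderOf (piPart' {r} x) < N := by
      rw [← hN]
      exact lt_of_le_of_ne (Nat.le_of_dvd (orderOf_pos x) hd) hne
    obtain ⟨r', hr', x', hx', hx'c, hk⟩ := ih _ hlt (piPart' {r} x) h2 rfl
    refine ⟨r', hr', x', ?_, hx'c, hk⟩
    have : Subgroup.zpowers (piPart' {r} x) ≤ Subgroup.zpowers x := by
      rw [Subgroup.zpowers_le]; exact piPart'_mem_zpowers _ x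
    exact this hx'
  · exact ⟨r, hrp, piPart {r} x, piPart_mem_zpowers _ x, h1,
      orderOf_of_isPiElt_singleton (o _) (isPiElt_piPart {r} x (o x))⟩

end twoCS

section relIndex

variable {G : Type*} [Group G] [Finite G]

theorem relIndex_center_eq (K : Subgroup G) :
    (Subgroup.center G).relIndex K = Nat.card (↥K ⧸ (Subgroup.center G).subgroupOf K) := by
  rw [Subgroup.relIndex, Subgroup.index_eq_card]

/-- a noncentral `r`-element of `K` forces `r ∣ |K : Z ∩ K|` -/
theorem dvd_relIndex_of_mem (K : Subgroup G) {r : ℕ} (hr : r.Prime) {x : G} (hxK : x ∈ K)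
    (hx : x ∉ Subgroup.center G) (hxo : ∃ k, orderOf x = r ^ k) :
    r ∣ (Subgroup.center G).relIndex K := by
  rw [relIndex_center_eq]
  set Z' := (Subgroup.center G).subgroupOf K with hZ'
  set xb : ↥K ⧸ Z' := QuotientGroup.mk' Z' ⟨x, hxK⟩ with hxb
  have hne : xb ≠ 1 := by
    intro h
    rw [hxb, QuotientGroup.mk'_apply, QuotientGroup.eq_one_iff] at h
    exact hx (Subgroup.mem_subgroupOf.mp h)
  have hd : orderOf xb ∣ orderOf x := by
    have := orderOf_map_dvd (QuotientGroup.mk' Z') (⟨x, hxK⟩ : ↥K)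
    rwa [Subgroup.orderOf_mk] at this
  obtain ⟨k, hk⟩ := hxo
  rw [hk] at hd
  obtain ⟨j, _, hj⟩ := (Nat.dvd_prime_pow hr).mp hd
  have hj0 : j ≠ 0 := by
    rintro rfl
    rw [pow_zero, orderOf_eq_one_iff] at hj
    exact hne hj
  calc r ∣ r ^ j := dvd_pow_self r hj0
    _ = orderOf xb := hj.symm
    _ ∣ Nat.card _ := orderOf_dvd_natCard xb

/-- if `r ∣ |K : Z ∩ K|` then `K` contains a noncentral `r`-element -/
theorem exists_noncentral_pelt (K : Subgroup G) {r : ℕ} (hr : r.Prime)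
    (hd : r ∣ (Subgroup.center G).relIndex K) :
    ∃ x ∈ K, x ∉ Subgroup.center G ∧ ∃ k, orderOf x = r ^ k := by
  have : Fact r.Prime := ⟨hr⟩
  rw [relIndex_center_eq] at hd
  set Z' := (Subgroup.center G).subgroupOf K with hZ'
  obtain ⟨xb, hxb⟩ := exists_prime_orderOf_dvd_card' r hd
  obtain ⟨x, rfl⟩ := QuotientGroup.mk'_surjective Z' xb
  have o : ∀ y : ↥K, orderOf y ≠ 0 := fun y => (orderOf_pos y).ne'
  set y := piPart {r} x with hy
  set y' := piPart' {r} x with hy'
  have hyy : y * y' = x := piPart_mul_piPart' {r} x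
  -- the image of y' is trivial
  have h1 : QuotientGroup.mk' Z' y' = 1 := by
    rw [← orderOf_eq_one_iff]
    have d1 : orderOf (QuotientGroup.mk' Z' y') ∣ orderOf y' := orderOf_map_dvd _ _
    have d2 : orderOf (QuotientGroup.mk' Z' y') ∣ r := by
      rw [← hxb]
      apply orderOf_dvd_of_mem_zpowers
      obtain ⟨k, hk⟩ := Subgroup.mem_zpowers_iff.mp (piPart'_mem_zpowers {r} x)
      rw [hy', ← hk, map_zpow]
      exact Subgroup.zpow_mem_zpowers _ _
    rcases (Nat.dvd_prime hr).mp d2 with e | e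
    · exact e
    · exfalso
      rw [e] at d1
      have := isPiElt_piPart' {r} x (o x) r hr d1
      exact this rfl
  have h2 : QuotientGroup.mk' Z' y ≠ 1 := by
    intro h2
    have : QuotientGroup.mk' Z' x = 1 := by rw [← hyy, map_mul, h1, h2, mul_one]
    rw [this, orderOf_one] at hxb
    exact hr.one_lt.ne hxb
  refine ⟨(y : G), y.2, ?_, ?_⟩
  · intro hc
    apply h2
    rw [QuotientGroup.mk'_apply, QuotientGroup.eq_one_iff]
    exact Subgroup.mem_subgroupOf.mpr hc
  · rw [Subgroup.orderOf_coe]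
    exact orderOf_of_isPiElt_singleton (o _) (isPiElt_piPart {r} x (o x))

end relIndex

section sylowfacts

variable {G : Type*} [Group G] [Finite G] {n : ℕ}

open Cfsg.Agent.S4184 (exists_conj_le eq_top_of_forall_conj_mem)

/-- primes dividing `|G : Z|` divide `n` -/
theorem dvd_n (h : TwoCS G n) (r : ℕ) [Fact r.Prime] (hr : r ∣ (Subgroup.center G).index) :
    r ∣ n := by
  have hrp : r.Prime := Fact.out
  by_contra hrn
  obtain ⟨P⟩ : Nonempty (Sylow r G) := inferInstance
  have htop : Subgroup.centralizer ((P : Subgroup G) : Set G) = ⊤ := by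
    apply eq_top_of_forall_conj_mem
    intro g
    have hg : ¬ r ∣ (cen g).index := by
      rcases h g with h1 | h1
      · rw [h1]; exact hrp.not_dvd_one
      · rw [h1]; exact hrn
    obtain ⟨x, hx⟩ := exists_conj_le r P (cen g) hg
    refine ⟨x, ?_⟩
    rw [Subgroup.mem_centralizer_iff]
    intro y hy
    have := mem_cen.mp (hx y hy)
    calc y * (x⁻¹ * g * x) = x⁻¹ * ((x * y * x⁻¹) * g) * x := by group
      _ = x⁻¹ * (g * (x * y * x⁻¹)) * x := by rw [this]
      _ = x⁻¹ * g * x * y := by group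
  have hPZ : (P : Subgroup G) ≤ Subgroup.center G := by
    intro z hz
    rw [Subgroup.mem_center_iff]
    intro g
    have : g ∈ Subgroup.centralizer ((P : Subgroup G) : Set G) := by rw [htop]; trivial
    exact (Subgroup.mem_centralizer_iff.mp this z hz).symm
  exact P.not_dvd_index (hr.trans (Subgroup.index_dvd_of_le hPZ))

/-- if `r ∣ n` then the centre of a Sylow `r`-subgroup is central -/
theorem center_sylow_le (h : TwoCS G n) (r : ℕ) [Fact r.Prime] (hrn : r ∣ n) (P : Sylow r G)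
    {z : G} (hz : ∀ g ∈ P, g * z = z * g) : z ∈ Subgroup.center G := by
  by_contra hzc
  have h1 := index_of_not_central h hzc
  have hle : (P : Subgroup G) ≤ cen z := by
    intro g hg
    rw [mem_cen]
    exact (hz g hg).symm
  apply P.not_dvd_index
  have := Subgroup.index_dvd_of_le hle
  rw [h1] at this
  exact hrn.trans this

/-- a prime not dividing `|G : Z|` has its Sylow subgroups in the centre -/
theorem sylow_le_center (r : ℕ) [Fact r.Prime] (hr : ¬ r ∣ (Subgroup.center G).index)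
    (P : Sylow r G) : (P : Subgroup G) ≤ Subgroup.center G := by
  obtain ⟨x, hx⟩ := exists_conj_le r P (Subgroup.center G) hr
  intro y hy
  have h1 := hx y hy
  have h2 := (inferInstance : (Subgroup.center G).Normal).conj_mem _ h1 x⁻¹
  have e : x⁻¹ * (x * y * x⁻¹) * x⁻¹⁻¹ = y := by group
  rwa [e] at h2

/-- a subgroup containing a Sylow subgroup for every prime is everything -/
theorem eq_top_of_sylows (H : Subgroup G)
    (hH : ∀ (r : ℕ) [Fact r.Prime], ∃ P : Sylow r G, (P : Subgroup G) ≤ H) : H = ⊤ := by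
  rw [← Subgroup.index_eq_one]
  by_contra h1
  obtain ⟨r, hr, hd⟩ := Nat.exists_prime_and_dvd h1
  have : Fact r.Prime := ⟨hr⟩
  obtain ⟨P, hP⟩ := hH r
  exact P.not_dvd_index (hd.trans (Subgroup.index_dvd_of_le hP))

end sylowfacts

section lemmaA

variable {G : Type*} [Group G] [Finite G] {n : ℕ}

theorem relIndex_cen_mul (h : TwoCS G n) {x : G} (hx : x ∉ Subgroup.center G) :
    (Subgroup.center G).relIndex (cen x) * n = (Subgroup.center G).index := by
  rw [← index_of_not_central h hx]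
  exact Subgroup.relIndex_mul_index (center_le_cen x)

theorem relIndex_cen_eq (h : TwoCS G n) {x y : G} (hx : x ∉ Subgroup.center G)
    (hy : y ∉ Subgroup.center G) :
    (Subgroup.center G).relIndex (cen x) = (Subgroup.center G).relIndex (cen y) :=
  Nat.eq_of_mul_eq_mul_right (n_pos h hx) ((relIndex_cen_mul h hx).trans (relIndex_cen_mul h hy).symm)

/-- all centralizers of noncentral elements are abelian -/
def AbCen (G : Type*) [Group G] : Prop :=
  ∀ x : G, x ∉ Subgroup.center G → ∀ g ∈ cen x, cen x ≤ cen g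

theorem AbCen.cen_eq (hab : AbCen G) (h : TwoCS G n) {x w : G} (hx : x ∉ Subgroup.center G)
    (hw : w ∈ cen x) (hwz : w ∉ Subgroup.center G) : cen w = cen x :=
  (cen_eq_of_le h hx hwz (hab x hx w hw)).symm

/-- Lemma A and its consequences: if two primes divide `|G : Z|` then all noncentral centralizers are
abelian and `|C(x) : Z|` is divisible by both primes -/
theorem abCen_of_two_primes (h : TwoCS G n) {p q : ℕ} (hp : p.Prime) (hq : q.Prime) (hpq : p ≠ q)
    (hpd : p ∣ (Subgroup.center G).index) (hqd : q ∣ (Subgroup.center G).index) :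
    AbCen G ∧ ∀ x : G, x ∉ Subgroup.center G →
      p ∣ (Subgroup.center G).relIndex (cen x) ∧ q ∣ (Subgroup.center G).relIndex (cen x) := by
  rw [← Subgroup.relIndex_top_right] at hpd hqd
  obtain ⟨u, -, hu, huo⟩ := exists_noncentral_pelt ⊤ hp hpd
  obtain ⟨y₀, -, hy₀, hy₀o⟩ := exists_noncentral_pelt ⊤ hq hqd
  have hpu : p ∣ (Subgroup.center G).relIndex (cen u) :=
    dvd_relIndex_of_mem (cen u) hp (self_mem_cen u) hu huo
  have hqu : q ∣ (Subgroup.center G).relIndex (cen u) := by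
    rw [relIndex_cen_eq h hu hy₀]
    exact dvd_relIndex_of_mem (cen y₀) hq (self_mem_cen y₀) hy₀ hy₀o
  have hdiv : ∀ x : G, x ∉ Subgroup.center G →
      p ∣ (Subgroup.center G).relIndex (cen x) ∧ q ∣ (Subgroup.center G).relIndex (cen x) := by
    intro x hx
    rw [relIndex_cen_eq h hx hu]
    exact ⟨hpu, hqu⟩
  refine ⟨?_, hdiv⟩
  intro x hx
  obtain ⟨r, hr, x', hx'z, hx'c, hx'o⟩ := exists_primePow_part x hx
  have e : cen x = cen x' := cen_eq_of_le h hx hx'c (cen_le_of_mem_zpowers hx'z)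
  rw [e]
  by_cases hrp : r = p
  · obtain ⟨y, hyc, hy, hyo⟩ := exists_noncentral_pelt (cen x') hq (hdiv x' hx'c).2
    exact abelian_of_pair h hr hq (hrp ▸ hpq) hx'c hy hx'o hyo (mem_cen.mp hyc)
  · obtain ⟨y, hyc, hy, hyo⟩ := exists_noncentral_pelt (cen x') hp (hdiv x' hx'c).1
    exact abelian_of_pair h hr hp hrp hx'c hy hx'o hyo (mem_cen.mp hyc)

end lemmaA

section sylowZ2

variable {G : Type*} [Group G] [Finite G] {n : ℕ}

/-- an element of `Z₂(R) ∖ Z(R)` of order `r` modulo `Z(R)` -/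
theorem exists_w (h : TwoCS G n) (r : ℕ) [Fact r.Prime] (hrn : r ∣ n) (R : Sylow r G)
    (hR : ¬ (R : Subgroup G) ≤ Subgroup.center G) :
    ∃ w ∈ R, w ∉ Subgroup.center G ∧ (∀ g ∈ R, w⁻¹ * (g⁻¹ * w * g) ∈ Subgroup.center G) ∧
      w ^ r ∈ Subgroup.center G := by
  have hrp : r.Prime := Fact.out
  have hZR : ∀ z : ↥(R : Subgroup G), z ∈ Subgroup.center ↥(R : Subgroup G) →
      (z : G) ∈ Subgroup.center G := by
    intro z hz
    apply center_sylow_le h r hrn R
    intro g hg
    have := Subgroup.mem_center_iff.mp hz ⟨g, hg⟩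
    exact congrArg Subtype.val this
  set ZR := Subgroup.center ↥(R : Subgroup G) with hZRdef
  have hne : ZR ≠ ⊤ := by
    intro htop
    apply hR
    intro a ha
    apply hZR ⟨a, ha⟩
    rw [htop]; trivial
  have hnt : Nontrivial (↥(R : Subgroup G) ⧸ ZR) := by
    rw [← Finite.one_lt_card_iff_nontrivial, ← Subgroup.index_eq_card]
    have h1 : ZR.index ≠ 1 := fun h1 => hne (Subgroup.index_eq_one.mp h1)
    have h0 : ZR.index ≠ 0 := Subgroup.index_ne_zero_of_finite
    omega
  have hQ : IsPGroup r (↥(R : Subgroup G) ⧸ ZR) := R.isPGroup'.to_quotient ZR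
  have hnt2 : Nontrivial (Subgroup.center (↥(R : Subgroup G) ⧸ ZR)) := hQ.center_nontrivial
  have hcard : r ∣ Nat.card (Subgroup.center (↥(R : Subgroup G) ⧸ ZR)) := by
    rcases (hQ.to_subgroup (Subgroup.center (↥(R : Subgroup G) ⧸ ZR))).card_eq_or_dvd with h1 | h1
    · exfalso
      have := Finite.one_lt_card (α := Subgroup.center (↥(R : Subgroup G) ⧸ ZR))
      omega
    · exact h1
  obtain ⟨wb, hwb⟩ := exists_prime_orderOf_dvd_card' r hcard
  obtain ⟨w₀, hw₀⟩ := QuotientGroup.mk'_surjective ZR (wb : ↥(R : Subgroup G) ⧸ ZR)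
  have hwbo : orderOf (wb : ↥(R : Subgroup G) ⧸ ZR) = r := by
    rw [Subgroup.orderOf_coe]; exact hwb
  have hw1 : w₀ ∉ ZR := by
    intro hin
    have : (wb : ↥(R : Subgroup G) ⧸ ZR) = 1 := by
      rw [← hw₀, QuotientGroup.mk'_apply, QuotientGroup.eq_one_iff]; exact hin
    rw [this, orderOf_one] at hwbo
    exact hrp.one_lt.ne hwbo
  have hw2 : ∀ g : ↥(R : Subgroup G), w₀⁻¹ * (g⁻¹ * w₀ * g) ∈ ZR := by
    intro g
    rw [← QuotientGroup.eq_one_iff, ← QuotientGroup.mk'_apply]
    simp only [map_mul, map_inv]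
    rw [hw₀]
    have hc := Subgroup.mem_center_iff.mp wb.2 (QuotientGroup.mk' ZR g)
    calc (wb : ↥(R : Subgroup G) ⧸ ZR)⁻¹ * ((QuotientGroup.mk' ZR g)⁻¹ * wb * QuotientGroup.mk' ZR g)
        = (wb : ↥(R : Subgroup G) ⧸ ZR)⁻¹ * ((QuotientGroup.mk' ZR g)⁻¹ *
            (wb * QuotientGroup.mk' ZR g)) := by group
      _ = (wb : ↥(R : Subgroup G) ⧸ ZR)⁻¹ * ((QuotientGroup.mk' ZR g)⁻¹ *
            (QuotientGroup.mk' ZR g * wb)) := by rw [hc]
      _ = 1 := by group
  have hw3 : w₀ ^ r ∈ ZR := by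
    rw [← QuotientGroup.eq_one_iff, ← QuotientGroup.mk'_apply, map_pow, hw₀]
    exact orderOf_dvd_iff_pow_eq_one.mp (by rw [hwbo])
  refine ⟨(w₀ : G), w₀.2, ?_, ?_, ?_⟩
  · intro hc
    apply hw1
    rw [hZRdef, Subgroup.mem_center_iff]
    intro g
    apply Subtype.ext
    exact Subgroup.mem_center_iff.mp hc (g : G)
  · intro g hg
    exact hZR _ (hw2 ⟨g, hg⟩)
  · exact hZR _ hw3

/-- conjugation by `g⁻¹` as an automorphism of a subgroup normalized by `g` -/
def conjAut (M : Subgroup G) (g : G) (h1 : ∀ k ∈ M, g⁻¹ * k * g ∈ M)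
    (h2 : ∀ k ∈ M, g * k * g⁻¹ ∈ M) : MulAut ↥M where
  toFun k := ⟨g⁻¹ * k * g, h1 k k.2⟩
  invFun k := ⟨g * k * g⁻¹, h2 k k.2⟩
  left_inv k := by apply Subtype.ext; simp only []; group
  right_inv k := by apply Subtype.ext; simp only []; group
  map_mul' a b := by apply Subtype.ext; simp only [Subgroup.coe_mul]; group

theorem conjAut_apply (M : Subgroup G) (g : G) (h1 : ∀ k ∈ M, g⁻¹ * k * g ∈ M)
    (h2 : ∀ k ∈ M, g * k * g⁻¹ ∈ M) (k : ↥M) :
    ((conjAut M g h1 h2 k : ↥M) : G) = g⁻¹ * k * g := rfl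

theorem conjAut_pow_apply (M : Subgroup G) (g : G) (h1 : ∀ k ∈ M, g⁻¹ * k * g ∈ M)
    (h2 : ∀ k ∈ M, g * k * g⁻¹ ∈ M) (j : ℕ) (k : ↥M) :
    ((((conjAut M g h1 h2) ^ j) k : ↥M) : G) = (g ^ j)⁻¹ * k * g ^ j := by
  induction j generalizing k with
  | zero => simp
  | succ j ih =>
    rw [pow_succ, MulAut.mul_apply, ih, conjAut_apply, pow_succ']
    group

section Dfacts

variable {w : G}

theorem conj_w {g : G} : g⁻¹ * w * g = w * (w⁻¹ * (g⁻¹ * w * g)) := by group

theorem conj_w_inv {g : G} (hg : w⁻¹ * (g⁻¹ * w * g) ∈ Subgroup.center G) :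
    g * w * g⁻¹ = w * (w⁻¹ * (g⁻¹ * w * g))⁻¹ := by
  set c := w⁻¹ * (g⁻¹ * w * g) with hc
  have hcc : ∀ x : G, x * c = c * x := Subgroup.mem_center_iff.mp hg
  have h1 : g⁻¹ * w * g = w * c := conj_w
  have h2 : w = g * w * g⁻¹ * c := by
    calc w = g * (g⁻¹ * w * g) * g⁻¹ := by group
      _ = g * (w * c) * g⁻¹ := by rw [h1]
      _ = g * w * (c * g⁻¹) := by group
      _ = g * w * (g⁻¹ * c) := by rw [hcc g⁻¹]
      _ = g * w * g⁻¹ * c := by group
  calc g * w * g⁻¹ = g * w * g⁻¹ * c * c⁻¹ := by group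
    _ = w * c⁻¹ := by rw [← h2]

theorem conj_mem_cen {g : G} (hg : w⁻¹ * (g⁻¹ * w * g) ∈ Subgroup.center G) {k : G}
    (hk : k ∈ cen w) : g⁻¹ * k * g ∈ cen w ∧ g * k * g⁻¹ ∈ cen w := by
  constructor
  · have h1 : g⁻¹ * k * g ∈ cen (g⁻¹ * w * g⁻¹⁻¹) := by
      rw [mem_cen_conj]
      have : g⁻¹⁻¹ * (g⁻¹ * k * g) * g⁻¹ = k := by group
      rw [this]; exact hk
    rw [inv_inv, conj_w, cen_mul_central hg] at h1
    exact h1
  · have h1 : g * k * g⁻¹ ∈ cen (g * w * g⁻¹) := by
      rw [mem_cen_conj]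
      have : g⁻¹ * (g * k * g⁻¹) * g = k := by group
      rw [this]; exact hk
    rw [conj_w_inv hg, cen_mul_central (Subgroup.inv_mem _ hg)] at h1
    exact h1

/-- commutators of elements of `D` lie in `C(w)` -/
theorem comm_mem_cen {g₁ g₂ : G} (h1 : w⁻¹ * (g₁⁻¹ * w * g₁) ∈ Subgroup.center G)
    (h2 : w⁻¹ * (g₂⁻¹ * w * g₂) ∈ Subgroup.center G) :
    g₁ * g₂ * (g₂ * g₁)⁻¹ ∈ cen w := by
  set c₁ := w⁻¹ * (g₁⁻¹ * w * g₁) with hc₁
  set c₂ := w⁻¹ * (g₂⁻¹ * w * g₂) with hc₂
  have e1 : g₁⁻¹ * w * g₁ = w * c₁ := conj_w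
  have e2 : g₂⁻¹ * w * g₂ = w * c₂ := conj_w
  have hcc₁ : ∀ x : G, x * c₁ = c₁ * x := Subgroup.mem_center_iff.mp h1
  have hcc₂ : ∀ x : G, x * c₂ = c₂ * x := Subgroup.mem_center_iff.mp h2
  have k1 : (g₁ * g₂)⁻¹ * w * (g₁ * g₂) = w * c₂ * c₁ := by
    calc (g₁ * g₂)⁻¹ * w * (g₁ * g₂) = g₂⁻¹ * (g₁⁻¹ * w * g₁) * g₂ := by group
      _ = g₂⁻¹ * (w * c₁) * g₂ := by rw [e1]
      _ = g₂⁻¹ * w * (c₁ * g₂) := by group
      _ = g₂⁻¹ * w * (g₂ * c₁) := by rw [hcc₁ g₂]
      _ = (g₂⁻¹ * w * g₂) * c₁ := by group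
      _ = w * c₂ * c₁ := by rw [e2]
  have k2 : (g₂ * g₁)⁻¹ * w * (g₂ * g₁) = w * c₂ * c₁ := by
    calc (g₂ * g₁)⁻¹ * w * (g₂ * g₁) = g₁⁻¹ * (g₂⁻¹ * w * g₂) * g₁ := by group
      _ = g₁⁻¹ * (w * c₂) * g₁ := by rw [e2]
      _ = g₁⁻¹ * w * (c₂ * g₁) := by group
      _ = g₁⁻¹ * w * (g₁ * c₂) := by rw [hcc₂ g₁]
      _ = (g₁⁻¹ * w * g₁) * c₂ := by group
      _ = w * c₁ * c₂ := by rw [e1]
      _ = w * (c₁ * c₂) := mul_assoc _ _ _
      _ = w * (c₂ * c₁) := by rw [hcc₂ c₁]
      _ = w * c₂ * c₁ := (mul_assoc _ _ _).symm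
  rw [mem_cen]
  have k3 : (g₁ * g₂)⁻¹ * w * (g₁ * g₂) = (g₂ * g₁)⁻¹ * w * (g₂ * g₁) := k1.trans k2.symm
  calc w * (g₁ * g₂ * (g₂ * g₁)⁻¹)
      = (g₁ * g₂) * ((g₁ * g₂)⁻¹ * w * (g₁ * g₂)) * (g₂ * g₁)⁻¹ := by group
    _ = (g₁ * g₂) * ((g₂ * g₁)⁻¹ * w * (g₂ * g₁)) * (g₂ * g₁)⁻¹ := by rw [k3]
    _ = g₁ * g₂ * (g₂ * g₁)⁻¹ * w := by group

/-- `r`-th powers of elements of `D` lie in `C(w)` -/
theorem pow_mem_cen (r : ℕ) (hwr : w ^ r ∈ Subgroup.center G) {g : G}
    (hg : w⁻¹ * (g⁻¹ * w * g) ∈ Subgroup.center G) : g ^ r ∈ cen w := by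
  set c := w⁻¹ * (g⁻¹ * w * g) with hc
  have e : g⁻¹ * w * g = w * c := conj_w
  have hcc : ∀ x : G, x * c = c * x := Subgroup.mem_center_iff.mp hg
  -- c ^ r = 1
  have h1 : (g⁻¹ * w * g) ^ r = w ^ r := by
    have : (g⁻¹ * w * g) ^ r = g⁻¹ * w ^ r * g := by
      have := map_pow (MulAut.conj g⁻¹) w r
      simp only [MulAut.conj_apply, inv_inv] at this
      exact this.symm
    rw [this]
    have hz : ∀ x : G, x * w ^ r = w ^ r * x := Subgroup.mem_center_iff.mp hwr
    calc g⁻¹ * w ^ r * g = g⁻¹ * (w ^ r * g) := mul_assoc _ _ _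
      _ = g⁻¹ * (g * w ^ r) := by rw [hz g]
      _ = w ^ r := by group
  have h2 : (w * c) ^ r = w ^ r * c ^ r := (show Commute w c from hcc w).mul_pow r
  rw [e, h2] at h1
  have hcr : c ^ r = 1 := by
    have := mul_left_cancel (h1.trans (mul_one _).symm)
    exact this
  have h3 := Cfsg.Agent.S4365.conj_pow_of_central w g c hg e r
  rw [hcr, mul_one] at h3
  rw [mem_cen]
  calc w * g ^ r = g ^ r * ((g ^ r)⁻¹ * w * g ^ r) := by group
    _ = g ^ r * w := by rw [h3]

end Dfacts

open scoped IsMulCommutative in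
/-- the group `D / C_D(w)` is cyclic, generated by any nontrivial element -/
theorem cyclic_mod (h : TwoCS G n) (hab : AbCen G) (r : ℕ) (hr : r.Prime) {s : ℕ} (hs : s.Prime)
    (hsr : s ≠ r)
    (hsd : ∀ x : G, x ∉ Subgroup.center G → s ∣ (Subgroup.center G).relIndex (cen x))
    {w : G} (hw : w ∉ Subgroup.center G) (hwr : w ^ r ∈ Subgroup.center G)
    {g₁ g₂ : G} (hg₁ : w⁻¹ * (g₁⁻¹ * w * g₁) ∈ Subgroup.center G)
    (hg₂ : w⁻¹ * (g₂⁻¹ * w * g₂) ∈ Subgroup.center G) (hg₂M : g₂ ∉ cen w) :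
    ∃ j < r, g₂ ^ j * g₁ ∈ cen w := by
  by_contra hno
  push Not at hno
  have hMab : ∀ a ∈ cen w, ∀ b ∈ cen w, a * b = b * a := by
    intro a ha b hb
    exact mem_cen.mp (hab w hw a ha hb)
  haveI : IsMulCommutative ↥(cen w) := ⟨⟨fun a b => Subtype.ext (hMab a a.2 b b.2)⟩⟩
  set α : MulAut ↥(cen w) := conjAut (cen w) g₁ (fun k hk => (conj_mem_cen hg₁ hk).1)
    (fun k hk => (conj_mem_cen hg₁ hk).2) with hα_def
  set β : MulAut ↥(cen w) := conjAut (cen w) g₂ (fun k hk => (conj_mem_cen hg₂ hk).1)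
    (fun k hk => (conj_mem_cen hg₂ hk).2) with hβ_def
  have hc : Commute α β := by
    apply MulEquiv.ext
    intro k
    apply Subtype.ext
    rw [MulAut.mul_apply, MulAut.mul_apply, hα_def, hβ_def, conjAut_apply, conjAut_apply,
      conjAut_apply, conjAut_apply]
    have ht := comm_mem_cen hg₁ hg₂
    have hk := hMab _ ht k k.2
    calc g₁⁻¹ * (g₂⁻¹ * (k : G) * g₂) * g₁
        = (g₁ * g₂)⁻¹ * ((g₁ * g₂ * (g₂ * g₁)⁻¹) * k) * (g₂ * g₁) := by group
      _ = (g₁ * g₂)⁻¹ * (k * (g₁ * g₂ * (g₂ * g₁)⁻¹)) * (g₂ * g₁) := by rw [hk]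
      _ = g₂⁻¹ * (g₁⁻¹ * (k : G) * g₁) * g₂ := by group
  have hpow : ∀ (g : G) (h1 : ∀ k ∈ cen w, g⁻¹ * k * g ∈ cen w)
      (h2 : ∀ k ∈ cen w, g * k * g⁻¹ ∈ cen w), g ^ r ∈ cen w →
      (conjAut (cen w) g h1 h2) ^ r = 1 := by
    intro g h1 h2 hgr
    apply MulEquiv.ext
    intro k
    apply Subtype.ext
    rw [conjAut_pow_apply, MulAut.one_apply]
    have hk := hMab _ hgr k k.2
    calc (g ^ r)⁻¹ * (k : G) * g ^ r = (g ^ r)⁻¹ * (k * g ^ r) := mul_assoc _ _ _
      _ = (g ^ r)⁻¹ * (g ^ r * k) := by rw [hk]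
      _ = k := by group
  have hα : α ^ r = 1 := hpow g₁ _ _ (pow_mem_cen r hwr hg₁)
  have hβ : β ^ r = 1 := hpow g₂ _ _ (pow_mem_cen r hwr hg₂)
  set F : Subgroup ↥(cen w) := (Subgroup.center G).subgroupOf (cen w) with hF
  have hfix : ∀ (g : G) (a : ↥(cen w)), g⁻¹ * (a : G) * g = a → g ∉ cen w → a ∈ F := by
    intro g a hga hg
    rw [hF, Subgroup.mem_subgroupOf]
    by_contra haz
    apply hg
    rw [← hab.cen_eq h hw a.2 haz, mem_cen]
    calc (a : G) * g = g * (g⁻¹ * a * g) := by group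
      _ = g * a := by rw [hga]
  have h1 : ∀ a, β a = a → a ∈ F := by
    intro a ha
    apply hfix g₂ a _ hg₂M
    have := congrArg Subtype.val ha
    rwa [hβ_def, conjAut_apply] at this
  have h2 : ∀ j < r, ∀ a, (α * β ^ j) a = a → a ∈ F := by
    intro j hj a ha
    apply hfix (g₂ ^ j * g₁) a _ (hno j hj)
    have := congrArg Subtype.val ha
    rw [MulAut.mul_apply, hα_def, conjAut_apply, hβ_def, conjAut_pow_apply] at this
    calc (g₂ ^ j * g₁)⁻¹ * (a : G) * (g₂ ^ j * g₁)
        = g₁⁻¹ * ((g₂ ^ j)⁻¹ * (a : G) * g₂ ^ j) * g₁ := by group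
      _ = a := this
  have h3 : ∀ a ∈ F, α a = a := by
    intro a ha
    apply Subtype.ext
    rw [hα_def, conjAut_apply]
    rw [hF, Subgroup.mem_subgroupOf] at ha
    have := Subgroup.mem_center_iff.mp ha g₁
    calc g₁⁻¹ * (a : G) * g₁ = g₁⁻¹ * (a * g₁) := mul_assoc _ _ _
      _ = g₁⁻¹ * (g₁ * a) := by rw [this]
      _ = a := by group
  have key := pow_mem_of_fpf r hr α β hc hα hβ F h1 h2 h3
  obtain ⟨y, hyM, hyz, ⟨b, hyo⟩⟩ := exists_noncentral_pelt (cen w) hs (hsd w hw)
  have hy := key ⟨y, hyM⟩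
  rw [hF, Subgroup.mem_subgroupOf] at hy
  have hy' : y ^ r ∈ Subgroup.center G := hy
  have hco : Nat.Coprime r (orderOf y) := by
    rw [hyo]
    exact Nat.Coprime.pow_right _ ((Nat.coprime_primes hr hs).mpr hsr.symm)
  obtain ⟨m, hm⟩ := exists_pow_eq_self_of_coprime hco
  apply hyz
  rw [← hm]
  exact Subgroup.pow_mem _ hy' m

/-- `|R : C_R(w)| = r` -/
theorem card_sylow_eq (h : TwoCS G n) (hab : AbCen G) (r : ℕ) [Fact r.Prime] (hrn : r ∣ n)
    {s : ℕ} (hs : s.Prime) (hsr : s ≠ r)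
    (hsd : ∀ x : G, x ∉ Subgroup.center G → s ∣ (Subgroup.center G).relIndex (cen x))
    (R : Sylow r G) {w : G} (hw : w ∉ Subgroup.center G)
    (hwR : ∀ g ∈ R, w⁻¹ * (g⁻¹ * w * g) ∈ Subgroup.center G)
    (hwr : w ^ r ∈ Subgroup.center G) :
    Nat.card (R : Subgroup G) = r * Nat.card ↥((R : Subgroup G) ⊓ cen w) := by
  classical
  have hrp : r.Prime := Fact.out
  -- an element of R outside C(w)
  obtain ⟨g₂, hg₂R, hg₂⟩ : ∃ g₂ ∈ R, g₂ ∉ cen w := by
    by_contra hall
    push Not at hall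
    apply hw
    apply center_sylow_le h r hrn R
    intro g hg
    exact (mem_cen.mp (hall g hg)).symm
  have hex : ∀ g : ↥(R : Subgroup G), ∃ j < r, g₂ ^ j * (g : G) ∈ cen w := fun g =>
    cyclic_mod h hab r hrp hs hsr hsd hw hwr (hwR g g.2) (hwR g₂ hg₂R) hg₂
  -- the injection
  let f : ↥(R : Subgroup G) → Fin r × ↥((R : Subgroup G) ⊓ cen w) := fun g =>
    (⟨Classical.choose (hex g), (Classical.choose_spec (hex g)).1⟩,
      ⟨g₂ ^ Classical.choose (hex g) * (g : G),
        ⟨(R : Subgroup G).mul_mem ((R : Subgroup G).pow_mem hg₂R _) g.2,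
          (Classical.choose_spec (hex g)).2⟩⟩)
  have hf : Function.Injective f := by
    intro g g' e
    have e1 : Classical.choose (hex g) = Classical.choose (hex g') :=
      congrArg (fun z => (z.1 : ℕ)) e
    have e2 : g₂ ^ Classical.choose (hex g) * (g : G) = g₂ ^ Classical.choose (hex g') * (g' : G) :=
      congrArg (fun z => ((z.2 : ↥((R : Subgroup G) ⊓ cen w)) : G)) e
    rw [e1] at e2
    exact Subtype.ext (mul_left_cancel e2)
  have hle : Nat.card (R : Subgroup G) ≤ r * Nat.card ↥((R : Subgroup G) ⊓ cen w) := by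
    have := Nat.card_le_card_of_injective f hf
    rwa [Nat.card_prod, Nat.card_fin] at this
  -- divisibility
  obtain ⟨m, hm⟩ := Subgroup.card_dvd_of_le (inf_le_left : (R : Subgroup G) ⊓ cen w ≤ R)
  have hBpos : 0 < Nat.card ↥((R : Subgroup G) ⊓ cen w) := Nat.card_pos
  have hm1 : m ≠ 1 := by
    rintro rfl
    rw [mul_one] at hm
    have : (R : Subgroup G) ⊓ cen w = R :=
      Subgroup.eq_of_le_of_card_ge inf_le_left (le_of_eq hm)
    apply hg₂
    have h2 : g₂ ∈ (R : Subgroup G) ⊓ cen w := by rw [this]; exact hg₂R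
    exact h2.2
  obtain ⟨a, ha⟩ := IsPGroup.iff_card.mp R.isPGroup'
  have hmd : m ∣ r ^ a := by rw [← ha, hm]; exact dvd_mul_left _ _
  obtain ⟨i, _, rfl⟩ := (Nat.dvd_prime_pow hrp).mp hmd
  have hmle : r ^ i ≤ r := by
    rw [hm, mul_comm] at hle
    exact Nat.le_of_mul_le_mul_right hle hBpos
  have hi : i = 1 := by
    have hi0 : i ≠ 0 := by rintro rfl; exact hm1 (pow_zero r)
    have hi1 : i ≤ 1 := by
      by_contra hgt
      push Not at hgt
      have : r ^ 2 ≤ r ^ i := Nat.pow_le_pow_right hrp.pos hgt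
      have h2 : r < r ^ 2 := by
        have := hrp.one_lt
        nlinarith
      omega
    omega
  rw [hm, hi, pow_one, mul_comm]

/-- `n` is not divisible by `r²` -/
theorem not_sq_dvd_n (h : TwoCS G n) (hab : AbCen G) (r : ℕ) [Fact r.Prime] (hrn : r ∣ n)
    {s : ℕ} (hs : s.Prime) (hsr : s ≠ r)
    (hsd : ∀ x : G, x ∉ Subgroup.center G → s ∣ (Subgroup.center G).relIndex (cen x))
    (R : Sylow r G) (hR : ¬ (R : Subgroup G) ≤ Subgroup.center G) : ¬ r ^ 2 ∣ n := by
  have hrp : r.Prime := Fact.out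
  obtain ⟨w, -, hw, hwR, hwr⟩ := exists_w h r hrn R hR
  have hcard := card_sylow_eq h hab r hrn hs hsr hsd R hw hwR hwr
  intro hsq
  have h1 : (cen w).index * Nat.card (cen w) = Nat.card G := (cen w).index_mul_card
  rw [index_of_not_central h hw] at h1
  have h2 : Nat.card ↥((R : Subgroup G) ⊓ cen w) ∣ Nat.card (cen w) :=
    Subgroup.card_dvd_of_le inf_le_right
  have h3 : r ^ 2 * Nat.card ↥((R : Subgroup G) ⊓ cen w) ∣ Nat.card G := by
    rw [← h1]
    exact Nat.mul_dvd_mul hsq h2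
  have h4 : r ^ 2 * Nat.card ↥((R : Subgroup G) ⊓ cen w) =
      r ^ ((Nat.card G).factorization r + 1) := by
    have h5 : Nat.card (R : Subgroup G) = r ^ (Nat.card G).factorization r :=
      R.card_eq_multiplicity
    rw [pow_succ r ((Nat.card G).factorization r), ← h5, hcard]
    ring
  rw [h4] at h3
  exact Nat.pow_succ_factorization_not_dvd Nat.card_pos.ne' hrp h3

end sylowZ2

section normal

variable {G : Type*} [Group G] [Finite G] {n : ℕ}

/-- a Sylow `r`-subgroup of `G` normalizing `C(u)` -/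
theorem exists_sylow_le_normalizer (h : TwoCS G n) (hab : AbCen G) {p q : ℕ} (hp : p.Prime)
    (hq : q.Prime) (hpq : p ≠ q)
    (hdiv : ∀ x : G, x ∉ Subgroup.center G →
      p ∣ (Subgroup.center G).relIndex (cen x) ∧ q ∣ (Subgroup.center G).relIndex (cen x))
    {u : G} (hu : u ∉ Subgroup.center G) (r : ℕ) [Fact r.Prime] :
    ∃ R : Sylow r G, (R : Subgroup G) ≤ Subgroup.normalizer ((cen u : Subgroup G) : Set G) := by
  have hrp : r.Prime := Fact.out
  have hZN : Subgroup.center G ≤ Subgroup.normalizer ((cen u : Subgroup G) : Set G) := by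
    intro z hz
    rw [Subgroup.mem_set_normalizer_iff]
    intro k
    have : z * k * z⁻¹ = k := by
      rw [← Subgroup.mem_center_iff.mp hz k]; group
    rw [this]
  by_cases hr : r ∣ (Subgroup.center G).index
  · -- the interesting case
    have hrn : r ∣ n := dvd_n h r hr
    obtain ⟨R₀⟩ : Nonempty (Sylow r G) := inferInstance
    have hR₀ : ¬ (R₀ : Subgroup G) ≤ Subgroup.center G := by
      intro hle
      exact R₀.not_dvd_index (hr.trans (Subgroup.index_dvd_of_le hle))
    obtain ⟨s, hs, hsr, hsd⟩ : ∃ s : ℕ, s.Prime ∧ s ≠ r ∧ ∀ x : G, x ∉ Subgroup.center G →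
        s ∣ (Subgroup.center G).relIndex (cen x) := by
      by_cases hpr : p = r
      · exact ⟨q, hq, fun e => hpq (hpr.trans e.symm), fun x hx => (hdiv x hx).2⟩
      · exact ⟨p, hp, hpr, fun x hx => (hdiv x hx).1⟩
    have hnsq : ¬ r ^ 2 ∣ n := not_sq_dvd_n h hab r hrn hs hsr hsd R₀ hR₀
    -- `r` divides `|C(u) : Z|`
    obtain ⟨w, hwR, hw, -, -⟩ := exists_w h r hrn R₀ hR₀
    have hwo : ∃ k, orderOf w = r ^ k := by
      obtain ⟨k, hk⟩ := (IsPGroup.iff_orderOf.mp R₀.isPGroup') ⟨w, hwR⟩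
      exact ⟨k, by rw [← hk, Subgroup.orderOf_mk]⟩
    have hru : r ∣ (Subgroup.center G).relIndex (cen u) := by
      rw [relIndex_cen_eq h hu hw]
      exact dvd_relIndex_of_mem (cen w) hrp (self_mem_cen w) hw hwo
    obtain ⟨y, hyu, hyz, hyo⟩ := exists_noncentral_pelt (cen u) hrp hru
    -- the Sylow subgroup of `C(u)`
    obtain ⟨P₀⟩ : Nonempty (Sylow r ↥(cen u)) := inferInstance
    set S : Subgroup G := (P₀ : Subgroup ↥(cen u)).map (cen u).subtype with hS
    have hSle : S ≤ cen u := Subgroup.map_subtype_le _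
    have hSp : IsPGroup r S := P₀.isPGroup'.map _
    have hScard : Nat.card S = r ^ (Nat.card (cen u)).factorization r := by
      rw [hS, Subgroup.card_map_of_injective (cen u).subtype_injective]
      exact P₀.card_eq_multiplicity
    -- `y ∈ S`
    have hyS : y ∈ S := by
      have hz : IsPGroup r (Subgroup.zpowers (⟨y, hyu⟩ : ↥(cen u))) := by
        obtain ⟨k, hk⟩ := hyo
        apply IsPGroup.of_card (n := k)
        rw [Nat.card_zpowers, ← hk]
        exact Subgroup.orderOf_mk y hyu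
      obtain ⟨Q, hQ⟩ := hz.exists_le_sylow
      obtain ⟨x, hx⟩ := MulAction.exists_smul_eq ↥(cen u) Q P₀
      have h1 : x * ⟨y, hyu⟩ * x⁻¹ ∈ ((x • Q : Sylow r ↥(cen u)) : Subgroup ↥(cen u)) := by
        rw [Sylow.coe_subgroup_smul]
        exact ⟨⟨y, hyu⟩, hQ (Subgroup.mem_zpowers _), rfl⟩
      rw [hx] at h1
      have h2 : x * ⟨y, hyu⟩ * x⁻¹ = ⟨y, hyu⟩ := by
        apply Subtype.ext
        have hc : (x : G) * y = y * x := (mem_cen.mp (hab u hu y hyu x.2)).symm
        show (x : G) * y * (x : G)⁻¹ = y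
        rw [hc]; group
      rw [h2] at h1
      exact ⟨⟨y, hyu⟩, h1, rfl⟩
    obtain ⟨R, hSR⟩ := hSp.exists_le_sylow
    refine ⟨R, ?_⟩
    -- `|R| ≤ r |S|`
    have hRcard : Nat.card (R : Subgroup G) = r ^ (Nat.card G).factorization r :=
      R.card_eq_multiplicity
    have hfac : (Nat.card G).factorization r ≤ (Nat.card (cen u)).factorization r + 1 := by
      have h1 : (cen u).index * Nat.card (cen u) = Nat.card G := (cen u).index_mul_card
      rw [index_of_not_central h hu] at h1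
      have hn0 : n ≠ 0 := (n_pos h hu).ne'
      rw [← h1, Nat.factorization_mul hn0 Nat.card_pos.ne']
      have : n.factorization r ≤ 1 := by
        by_contra hgt
        push Not at hgt
        exact hnsq ((hrp.pow_dvd_iff_le_factorization hn0).mpr hgt)
      simp only [Finsupp.coe_add, Pi.add_apply]
      omega
    -- `S` is normal in `R`
    have hSnorm : ∀ g ∈ R, ∀ k ∈ S, g * k * g⁻¹ ∈ S := by
      set S' : Subgroup ↥(R : Subgroup G) := S.subgroupOf R with hS'
      have hS'card : Nat.card S' = Nat.card S := by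
        rw [hS']
        exact Nat.card_congr (Subgroup.subgroupOfEquivOfLe hSR).toEquiv
      have hidx : S'.index * Nat.card S' = Nat.card (R : Subgroup G) := S'.index_mul_card
      have hnorm : S'.Normal := by
        by_cases hlt : (Nat.card G).factorization r = (Nat.card (cen u)).factorization r + 1
        · apply Subgroup.normal_of_index_eq_minFac_card
          rw [hS'card, hScard, hRcard, hlt, pow_succ] at hidx
          have hpos : 0 < r ^ (Nat.card (cen u)).factorization r := pow_pos hrp.pos _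
          have h1 : S'.index = r := by
            rw [mul_comm] at hidx
            exact Nat.eq_of_mul_eq_mul_left hpos hidx
          rw [h1, hRcard, hlt]
          exact (hrp.pow_minFac (Nat.succ_ne_zero _)).symm
        · have hle : (Nat.card G).factorization r ≤ (Nat.card (cen u)).factorization r := by
            omega
          have h1 : Nat.card (R : Subgroup G) ≤ Nat.card S := by
            rw [hRcard, hScard]
            exact Nat.pow_le_pow_right hrp.pos hle
          have h2 : S = R := Subgroup.eq_of_le_of_card_ge hSR h1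
          have h3 : S' = ⊤ := by
            rw [hS', h2]
            exact Subgroup.subgroupOf_self _
          rw [h3]
          infer_instance
      intro g hg k hk
      have := hnorm.conj_mem ⟨k, hSR hk⟩ (Subgroup.mem_subgroupOf.mpr hk) ⟨g, hg⟩
      exact Subgroup.mem_subgroupOf.mp this
    -- conclusion
    have hcy : cen y = cen u := hab.cen_eq h hu hyu hyz
    have hconj : ∀ g ∈ R, ∀ k ∈ cen u, g * k * g⁻¹ ∈ cen u := by
      intro g hg k hk
      have hy' : g * y * g⁻¹ ∈ cen u := hSle (hSnorm g hg y hyS)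
      have hy'z : g * y * g⁻¹ ∉ Subgroup.center G := by
        intro hc
        apply hyz
        have := (inferInstance : (Subgroup.center G).Normal).conj_mem _ hc g⁻¹
        have e : g⁻¹ * (g * y * g⁻¹) * g⁻¹⁻¹ = y := by group
        rwa [e] at this
      have hc' : cen (g * y * g⁻¹) = cen u := hab.cen_eq h hu hy' hy'z
      rw [← hc', mem_cen_conj]
      have e : g⁻¹ * (g * k * g⁻¹) * g = k := by group
      rw [e, hcy]
      exact hk
    intro g hg
    rw [Subgroup.mem_set_normalizer_iff]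
    intro k
    constructor
    · intro hk
      exact hconj g hg k hk
    · intro hk
      have := hconj g⁻¹ ((R : Subgroup G).inv_mem hg) _ hk
      have e : g⁻¹ * (g * k * g⁻¹) * g⁻¹⁻¹ = k := by group
      rwa [e] at this
  · obtain ⟨R⟩ : Nonempty (Sylow r G) := inferInstance
    exact ⟨R, (sylow_le_center r hr R).trans hZN⟩

/-- `C(u)` is a normal subgroup -/
theorem cen_normal (h : TwoCS G n) (hab : AbCen G) {p q : ℕ} (hp : p.Prime)
    (hq : q.Prime) (hpq : p ≠ q)
    (hdiv : ∀ x : G, x ∉ Subgroup.center G →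
      p ∣ (Subgroup.center G).relIndex (cen x) ∧ q ∣ (Subgroup.center G).relIndex (cen x))
    {u : G} (hu : u ∉ Subgroup.center G) : (cen u).Normal := by
  have htop : Subgroup.normalizer ((cen u : Subgroup G) : Set G) = ⊤ :=
    eq_top_of_sylows _ (fun r _ => exists_sylow_le_normalizer h hab hp hq hpq hdiv hu r)
  exact Subgroup.normalizer_eq_top_iff.mp htop

end normal

section final

variable {G : Type*} [Group G] [Finite G] {n : ℕ}

open Cfsg.Agent.S4163 (comm_mem_center)
open Cfsg.Agent.S4365 (conj_pow_of_central)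

/-- two distinct primes cannot divide `|G : Z(G)|` -/
theorem not_two_primes (h : TwoCS G n) {p q : ℕ} (hp : p.Prime) (hq : q.Prime) (hpq : p ≠ q)
    (hpd : p ∣ (Subgroup.center G).index) (hqd : q ∣ (Subgroup.center G).index) : False := by
  obtain ⟨hab, hdiv⟩ := abCen_of_two_primes h hp hq hpq hpd hqd
  have hpd' := hpd
  rw [← Subgroup.relIndex_top_right] at hpd'
  obtain ⟨u, -, hu, -⟩ := exists_noncentral_pelt ⊤ hp hpd'
  haveI : (cen u).Normal := cen_normal h hab hp hq hpq hdiv hu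
  have hMab : ∀ a ∈ cen u, ∀ b ∈ cen u, a * b = b * a := by
    intro a ha b hb
    exact mem_cen.mp (hab u hu a ha hb)
  obtain ⟨y, hyu, hyz, a, hya⟩ := exists_noncentral_pelt (cen u) hp (hdiv u hu).1
  -- a `q`-element outside `C(u)`
  haveI : Fact q.Prime := ⟨hq⟩
  have hqn : q ∣ n := dvd_n h q hqd
  obtain ⟨Q⟩ : Nonempty (Sylow q G) := inferInstance
  obtain ⟨v, hvQ, hv⟩ : ∃ v ∈ Q, v ∉ cen u := by
    by_contra hall
    push Not at hall
    have hle : (Q : Subgroup G) ≤ cen u := hall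
    apply Q.not_dvd_index
    have := Subgroup.index_dvd_of_le hle
    rw [index_of_not_central h hu] at this
    exact hqn.trans this
  have hvz : v ∉ Subgroup.center G := fun hc => hv (center_le_cen u hc)
  obtain ⟨b, hvb⟩ : ∃ b, orderOf v = q ^ b := by
    obtain ⟨k, hk⟩ := (IsPGroup.iff_orderOf.mp Q.isPGroup') ⟨v, hvQ⟩
    exact ⟨k, by rw [← hk, Subgroup.orderOf_mk]⟩
  have hmin : ∀ z : G, 1 < (Subgroup.centralizer ({z} : Set G)).index →
      n ≤ (Subgroup.centralizer ({z} : Set G)).index := by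
    intro z hz
    rcases h z with h1 | h1
    · have h2 : (Subgroup.centralizer ({z} : Set G)).index = 1 := h1
      omega
    · exact le_of_eq h1.symm
  set t := v⁻¹ * (y⁻¹ * v * y) with ht
  have htz : t ∈ Subgroup.center G :=
    comm_mem_center (cen u) hMab n hmin v (index_of_not_central h hvz) y hyu
  have e1 : y⁻¹ * v * y = v * t := by rw [ht]; group
  have hcy : cen y = cen u := hab.cen_eq h hu hyu hyz
  have ht1 : t ≠ 1 := by
    intro h1
    rw [h1, mul_one] at e1
    apply hv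
    rw [← hcy, mem_cen]
    calc y * v = y * (y⁻¹ * v * y) := by rw [e1]
      _ = v * y := by group
  have hct : ∀ x : G, x * t = t * x := Subgroup.mem_center_iff.mp htz
  -- `t ^ orderOf y = 1`
  have k1 : t ^ orderOf y = 1 := by
    have := conj_pow_of_central v y t htz e1 (orderOf y)
    rw [pow_orderOf_eq_one, inv_one, one_mul, mul_one] at this
    exact (mul_left_cancel (this.symm.trans (mul_one v).symm)).symm ▸ rfl
  -- `t ^ orderOf v = 1`
  have e2 : v⁻¹ * y * v = y * t⁻¹ := by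
    have h1 : v * y = y * v * t := by
      calc v * y = y * (y⁻¹ * v * y) := by group
        _ = y * (v * t) := by rw [e1]
        _ = y * v * t := (mul_assoc _ _ _).symm
    calc v⁻¹ * y * v = v⁻¹ * (y * v * t) * t⁻¹ := by group
      _ = v⁻¹ * (v * y) * t⁻¹ := by rw [h1]
      _ = y * t⁻¹ := by group
  have k2 : t ^ orderOf v = 1 := by
    have := conj_pow_of_central y v t⁻¹ (Subgroup.inv_mem _ htz) e2 (orderOf v)
    rw [pow_orderOf_eq_one, inv_one, one_mul, mul_one] at this
    have h3 : t⁻¹ ^ orderOf v = 1 := (mul_left_cancel (this.symm.trans (mul_one y).symm)).symm ▸ rfl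
    rwa [inv_pow, inv_eq_one] at h3
  have d1 : orderOf t ∣ p ^ a := hya ▸ orderOf_dvd_of_pow_eq_one k1
  have d2 : orderOf t ∣ q ^ b := hvb ▸ orderOf_dvd_of_pow_eq_one k2
  have hco : Nat.Coprime (p ^ a) (q ^ b) :=
    Nat.Coprime.pow _ _ ((Nat.coprime_primes hp hq).mpr hpq)
  have : orderOf t = 1 := Nat.eq_one_of_dvd_coprimes hco d1 d2
  exact ht1 (orderOf_eq_one_iff.mp this)

/-- **Ito's theorem**: if `G` has class sizes `1` and `n` only, then `G / Z(G)` is a `p`-group. -/
theorem index_center_eq_prime_pow (h : TwoCS G n) (hna : ∃ x : G, x ∉ Subgroup.center G) :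
    ∃ p k : ℕ, p.Prime ∧ (Subgroup.center G).index = p ^ k := by
  obtain ⟨x, hx⟩ := hna
  have h1 : (Subgroup.center G).index ≠ 1 := by
    intro h1
    rw [Subgroup.index_eq_one] at h1
    exact hx (h1 ▸ Subgroup.mem_top x)
  have h0 : (Subgroup.center G).index ≠ 0 := Subgroup.index_ne_zero_of_finite
  set p := (Subgroup.center G).index.minFac with hp
  have hpp : p.Prime := Nat.minFac_prime h1
  have hpd : p ∣ (Subgroup.center G).index := Nat.minFac_dvd _
  refine ⟨p, _, hpp, Nat.eq_prime_pow_of_unique_prime_dvd h0 ?_⟩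
  intro d hd hdd
  by_contra hne
  exact not_two_primes h hd hpp hne hdd hpd

end final

end Cfsg.Agent.Helper69.Ito
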