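import Mathlib
import Cfsg.Agent.Lib.Helper79.Coprime.Fusion
import Cfsg.Agent.Lib.Helper20.ZStarCor

set_option autoImplicit false

/-! Norm map over the automizer of an abelian subgroup with odd relative index in its
normalizer, and "isolated involutions of an abelian Sylow are central" from `ZStarHyp`. -/

namespace Cfsg.Agent.Helper69.ACS

universe u

open scoped Classical

section Norm

variable {X : Type*} [Group X]

/-- conjugation by an element of the normalizer, as an automorphism of the subgroup -/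
def conjT (T : Subgroup X) (n : ↥(Subgroup.normalizer (T : Set X))) : ↥T ≃* ↥T where
  toFun t := ⟨n * t * (n : X)⁻¹, (Subgroup.mem_normalizer_iff.mp n.2 t).mp t.2⟩
  invFun t := ⟨(n : X)⁻¹ * t * n, by
    have h := (Subgroup.mem_normalizer_iff.mp (inv_mem n.2) (t : X)).mp t.2
    simpa using h⟩
  left_inv t := by ext; simp [mul_assoc]
  right_inv t := by ext; simp [mul_assoc]
  map_mul' s t := by ext; simp [mul_assoc]

@[simp] theorem conjT_coe (T : Subgroup X) (n : ↥(Subgroup.normalizer (T : Set X))) (t : ↥T) :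
    ((conjT T n t : ↥T) : X) = n * t * (n : X)⁻¹ := rfl

/-- the conjugation action of the normalizer on the subgroup, as a homomorphism -/
def conjHom (T : Subgroup X) : ↥(Subgroup.normalizer (T : Set X)) →* MulAut ↥T :=
  MonoidHom.mk' (conjT T) (by
    intro a b
    ext t
    simp [MulAut.mul_apply, mul_assoc])

theorem conjHom_coe (T : Subgroup X) (n : ↥(Subgroup.normalizer (T : Set X))) (t : ↥T) :
    ((conjHom T n t : ↥T) : X) = n * t * (n : X)⁻¹ := rfl

variable [Finite X]

theorem exists_fixed_mul_pow (T : Subgroup X)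
    (hab : ∀ a ∈ T, ∀ b ∈ T, a * b = b * a)
    (hodd : Odd (T.relIndex (Subgroup.normalizer (T : Set X))))
    (I : Subgroup X) (a : X) (ha : a ∈ T)
    (hI : ∀ n ∈ Subgroup.normalizer (T : Set X), n * a * n⁻¹ * a⁻¹ ∈ I) :
    ∃ (m : ℕ) (p b : X), Odd m ∧ p ∈ I ∧ p ∈ T ∧ b ∈ T ∧ b = p * a ^ m ∧
      ∀ n ∈ Subgroup.normalizer (T : Set X), n * b * n⁻¹ = b := by
  letI : CommGroup ↥T :=
    { (inferInstance : Group ↥T) with
      mul_comm := fun x y => Subtype.ext (hab x x.2 y y.2) }
  set N := Subgroup.normalizer (T : Set X) with hN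
  set σ := conjHom T with hσ
  set Q := σ.range with hQ
  haveI : Finite ↥Q := by
    rw [hQ]; exact Set.finite_range _
  letI : Fintype ↥Q := Fintype.ofFinite _
  -- card Q odd
  have hker : T.subgroupOf N ≤ σ.ker := by
    intro t ht
    rw [MonoidHom.mem_ker]
    ext s
    rw [conjHom_coe]
    have : (t : X) ∈ T := ht
    rw [hab _ this _ s.2]
    simp
  have hcard : Odd (Nat.card ↥Q) := by
    have h1 : σ.ker.index = Nat.card ↥Q := Subgroup.index_ker σ
    have h2 : σ.ker.index ∣ (T.subgroupOf N).index := Subgroup.index_dvd_of_le hker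
    rw [h1] at h2
    exact Odd.of_dvd_nat hodd h2
  set a' : ↥T := ⟨a, ha⟩ with ha'
  set ν : ↥T := ∏ q : ↥Q, (q : MulAut ↥T) a' with hν
  set p : ↥T := ∏ q : ↥Q, ((q : MulAut ↥T) a' * a'⁻¹) with hp
  have hνp : ν = p * a' ^ (Nat.card ↥Q) := by
    rw [hν, hp, Nat.card_eq_fintype_card, ← Finset.card_univ, ← Finset.prod_const,
      ← Finset.prod_mul_distrib]
    apply Finset.prod_congr rfl
    intro q _
    rw [inv_mul_cancel_right]
  have hpI : (p : X) ∈ I := by
    have : p ∈ I.subgroupOf T := by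
      rw [hp]
      apply Subgroup.prod_mem
      intro q _
      obtain ⟨n, hn⟩ := q.2
      rw [Subgroup.mem_subgroupOf, ← hn]
      have := hI n n.2
      show ((σ n a' : ↥T) : X) * ((a'⁻¹ : ↥T) : X) ∈ I
      rw [hσ, conjHom_coe]
      simpa [a'] using this
    exact this
  refine ⟨Nat.card ↥Q, (p : X), (ν : X), hcard, hpI, p.2, ν.2, ?_, ?_⟩
  · rw [hνp]; simp [a']
  · intro n hn
    have h1 : σ ⟨n, hn⟩ ν = ν := by
      rw [hν, map_prod]
      have hmem : σ ⟨n, hn⟩ ∈ Q := ⟨_, rfl⟩
      apply Fintype.prod_equiv (Equiv.mulLeft (⟨σ ⟨n, hn⟩, hmem⟩ : ↥Q))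
      intro q
      simp [MulAut.mul_apply]
    have h2 := congrArg (Subtype.val) h1
    rw [hσ, conjHom_coe] at h2
    exact h2

end Norm

section Iso

/-- in a group with trivial odd core and an abelian Sylow 2-subgroup, an involution of the Sylow
subgroup fixed by its normalizer is central (from the `Z*`-theorem) -/
theorem central_of_fixed (hZ : Cfsg.Agent.Helper20.ZStarHyp.{u}) {X : Type u} [Group X] [Finite X]
    (T : Sylow 2 X) (hab : ∀ a ∈ T, ∀ b ∈ T, a * b = b * a)
    (hO : ∀ M : Subgroup X, M.Normal → Odd (Nat.card M) → M = ⊥)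
    (u : X) (huT : u ∈ T) (hu : orderOf u = 2)
    (hfix : ∀ n ∈ Subgroup.normalizer ((T : Subgroup X) : Set X), n * u * n⁻¹ = u) :
    ∀ x : X, x * u = u * x := by
  have : Fact (Nat.Prime 2) := ⟨Nat.prime_two⟩
  have hcent : ∀ t ∈ T, t ∈ Subgroup.centralizer ((T : Subgroup X) : Set X) := by
    intro t ht
    rw [Subgroup.mem_centralizer_iff]
    intro s hs
    exact hab s hs t ht
  obtain ⟨M, hM, hodd, hcomm⟩ := hZ X T u hu huT (by
    intro g hg
    obtain ⟨n, hn, hnx⟩ := Cfsg.Agent.Helper79.Cop.burnside_fusion T (hcent u huT) (hcent _ hg) rfl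
    rw [← hnx]
    exact hfix n hn)
  have hM1 := hO M hM hodd
  intro x
  have := hcomm x
  rw [hM1, Subgroup.mem_bot] at this
  -- u * x * u⁻¹ * x⁻¹ = 1
  have h2 : u * x = x * u := by
    have h3 : u * x * u⁻¹ = x := by
      rw [mul_inv_eq_one] at this
      exact this
    calc u * x = u * x * u⁻¹ * u := by group
      _ = x * u := by rw [h3]
  exact h2.symm

end Iso

end Cfsg.Agent.Helper69.ACS
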