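import Mathlib
import Cfsg.Agent.Lib.Helper69.AutCentSylowA
import Cfsg.Agent.Lib.Helper55.Cores

set_option autoImplicit false
set_option maxHeartbeats 1000000

/-! A 2-power-order automorphism centralizing an abelian Sylow 2-subgroup of a group with trivial
centre and trivial odd core is inner — conditional on the `Z*`-theorem (`ZStarHyp`). -/

namespace Cfsg.Agent.Helper69.ACS

universe u

variable {G : Type u} [Group G]

theorem conj_conj (φ : MulAut G) (g : G) : φ * MulAut.conj g * φ⁻¹ = MulAut.conj (φ g) := by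
  ext x
  simp [MulAut.mul_apply, MulAut.conj_apply, MulAut.inv_apply]

theorem conj_inj (hZ : Subgroup.center G = ⊥) :
    Function.Injective (MulAut.conj : G →* MulAut G) := by
  rw [injective_iff_map_eq_one]
  intro g hg
  have : g ∈ Subgroup.center G := by
    rw [Subgroup.mem_center_iff]
    intro x
    have h1 : MulAut.conj g x = x := by rw [hg]; rfl
    rw [MulAut.conj_apply] at h1
    calc x * g = g * x * g⁻¹ * g := by rw [h1]
      _ = g * x := by group
  rw [hZ, Subgroup.mem_bot] at this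
  exact this

theorem inner_of_fix (hZS : Cfsg.Agent.Helper20.ZStarHyp.{u}) [Finite G]
    (hZ : Subgroup.center G = ⊥) (hcore : Cfsg.pPrimeCore 2 G = ⊥) (P : Sylow 2 G)
    (hab : ∀ a ∈ P, ∀ b ∈ P, a * b = b * a) :
    ∀ j : ℕ, ∀ α : MulAut G, orderOf α = 2 ^ j → (∀ x ∈ P, α x = x) →
      ∃ g : G, α = MulAut.conj g := by
  haveI : Fact (Nat.Prime 2) := ⟨Nat.prime_two⟩
  have hinj := conj_inj hZ
  intro j
  induction j using Nat.strong_induction_on with
  | _ j ih =>
  intro α hα hfix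
  rcases j with _ | j
  · refine ⟨1, ?_⟩
    rw [pow_zero, orderOf_eq_one_iff] at hα
    rw [hα, map_one]
  -- the inner automorphisms
  set Inn : Subgroup (MulAut G) := (MulAut.conj : G →* MulAut G).range with hInn
  haveI hInnN : Inn.Normal := ⟨fun n hn φ => by
    obtain ⟨g, rfl⟩ := hn
    exact ⟨φ g, (conj_conj φ g).symm⟩⟩
  set X : Subgroup (MulAut G) := Inn ⊔ Subgroup.zpowers α with hX
  have hαX : α ∈ X := (le_sup_right : Subgroup.zpowers α ≤ X) (Subgroup.mem_zpowers α)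
  have hcX : ∀ g : G, MulAut.conj g ∈ X := fun g =>
    (le_sup_left : Inn ≤ X) ⟨g, rfl⟩
  have F1 : ∀ x ∈ X, ∃ g : G, ∃ k : ℤ, x = MulAut.conj g * α ^ k := by
    intro x hx
    have h := Subgroup.normal_mul Inn (Subgroup.zpowers α)
    rw [← SetLike.mem_coe, hX, h, Set.mem_mul] at hx
    obtain ⟨i, ⟨g, rfl⟩, z, ⟨k, rfl⟩, rfl⟩ := hx
    exact ⟨g, k, rfl⟩
  set αX : ↥X := ⟨α, hαX⟩ with hαXdef
  set cX : G →* ↥X := (MulAut.conj : G →* MulAut G).codRestrict X hcX with hcXdef
  have hcXcoe : ∀ g : G, ((cX g : ↥X) : MulAut G) = MulAut.conj g := fun g => rfl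
  have hcXinj : Function.Injective cX := by
    intro a b hab'
    apply hinj
    have := congrArg (Subtype.val) hab'
    simpa [hcXcoe] using this
  have hordαX : orderOf αX = 2 ^ (j + 1) := by
    rw [hαXdef, Subgroup.orderOf_mk, hα]
  -- α commutes with conj g for g ∈ P
  have hcommα : ∀ g ∈ P, Commute α (MulAut.conj g) := by
    intro g hg
    have h1 := conj_conj α g
    rw [hfix g hg] at h1
    show α * MulAut.conj g = MulAut.conj g * α
    calc α * MulAut.conj g = α * MulAut.conj g * α⁻¹ * α := by group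
      _ = MulAut.conj g * α := by rw [h1]
  -- a Sylow 2-subgroup containing α and conj P
  set P' : Subgroup ↥X := (P : Subgroup G).map cX with hP'
  set A₀ : Subgroup ↥X := Subgroup.zpowers αX with hA₀
  have hP'2 : IsPGroup 2 ↥P' := P.isPGroup'.map cX
  have hA₀2 : IsPGroup 2 ↥A₀ := by
    apply IsPGroup.of_card (n := j + 1)
    rw [hA₀, Nat.card_zpowers, hordαX]
  have hA₀N : A₀ ≤ Subgroup.normalizer (P' : Set ↥X) := by
    rw [hA₀, Subgroup.zpowers_le]
    rw [Subgroup.mem_normalizer_iff]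
    intro h
    have key : ∀ y : ↥X, y ∈ P' → αX * y * αX⁻¹ = y := by
      intro y hy
      obtain ⟨g, hg, rfl⟩ := hy
      apply Subtype.ext
      show α * MulAut.conj g * α⁻¹ = MulAut.conj g
      rw [conj_conj, hfix g hg]
    constructor
    · intro hh
      rw [key h hh]; exact hh
    · intro hh
      have := key _ hh
      have h2 : h = αX⁻¹ * (αX * h * αX⁻¹) * αX := by group
      rw [h2]
      have h3 : αX⁻¹ * (αX * h * αX⁻¹) * αX = αX * h * αX⁻¹ := by
        have h4 := key _ hh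
        calc αX⁻¹ * (αX * h * αX⁻¹) * αX
            = αX⁻¹ * (αX * (αX * h * αX⁻¹) * αX⁻¹) * αX := by rw [h4]
          _ = αX * h * αX⁻¹ := by group
      rw [h3]; exact hh
  have hT₀ : IsPGroup 2 ↥(A₀ ⊔ P') := IsPGroup.to_sup_of_normal_right' hA₀2 hP'2 hA₀N
  obtain ⟨T, hT⟩ := hT₀.exists_le_sylow
  have hαT : αX ∈ T := hT ((le_sup_left : A₀ ≤ A₀ ⊔ P') (Subgroup.mem_zpowers αX))
  have hPT : ∀ g ∈ P, cX g ∈ T := fun g hg =>
    hT ((le_sup_right : P' ≤ A₀ ⊔ P') ⟨g, hg, rfl⟩)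
  -- conj g ∈ T → g ∈ P
  have F5a : ∀ g : G, cX g ∈ T → g ∈ P := by
    intro g hg
    have hR : IsPGroup 2 ↥((T : Subgroup ↥X).comap cX) :=
      T.isPGroup'.comap_of_injective cX hcXinj
    have hPR : (P : Subgroup G) ≤ (T : Subgroup ↥X).comap cX := fun x hx => hPT x hx
    have := P.is_maximal' hR hPR
    have hg' : g ∈ (T : Subgroup ↥X).comap cX := hg
    rw [this] at hg'
    exact hg'
  have F5b : ∀ t : ↥X, t ∈ T → ∃ g ∈ P, ∃ k : ℤ, (t : MulAut G) = MulAut.conj g * α ^ k := by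
    intro t ht
    obtain ⟨g, k, hgk⟩ := F1 t t.2
    refine ⟨g, ?_, k, hgk⟩
    apply F5a
    have : cX g = t * αX ^ (-k) := by
      apply Subtype.ext
      show MulAut.conj g = (t : MulAut G) * ((αX ^ (-k) : ↥X) : MulAut G)
      rw [Subgroup.coe_zpow, hgk]
      show MulAut.conj g = MulAut.conj g * α ^ k * α ^ (-k)
      rw [zpow_neg, mul_inv_cancel_right]
    rw [this]
    exact Subgroup.mul_mem _ ht (Subgroup.zpow_mem _ hαT _)
  have habT : ∀ a ∈ (T : Subgroup ↥X), ∀ b ∈ (T : Subgroup ↥X), a * b = b * a := by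
    intro a ha b hb
    obtain ⟨g₁, hg₁, k₁, h₁⟩ := F5b a ha
    obtain ⟨g₂, hg₂, k₂, h₂⟩ := F5b b hb
    apply Subtype.ext
    show (a : MulAut G) * (b : MulAut G) = (b : MulAut G) * (a : MulAut G)
    rw [h₁, h₂]
    have c11 : Commute (MulAut.conj g₁) (MulAut.conj g₂) := by
      show MulAut.conj g₁ * MulAut.conj g₂ = MulAut.conj g₂ * MulAut.conj g₁
      rw [← map_mul, ← map_mul, hab g₁ hg₁ g₂ hg₂]
    have c12 : Commute (MulAut.conj g₁) (α ^ k₂) := ((hcommα g₁ hg₁).zpow_left k₂).symm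
    have c21 : Commute (α ^ k₁) (MulAut.conj g₂) := (hcommα g₂ hg₂).zpow_left k₁
    have c22 : Commute (α ^ k₁) (α ^ k₂) := (Commute.refl α).zpow_zpow k₁ k₂
    exact ((c11.mul_right c12).mul_left (c21.mul_right c22)).eq
  -- trivial odd core of X
  have hpowInn : ∀ x ∈ X, x ^ (2 ^ (j + 1)) ∈ Inn := by
    intro x hx
    obtain ⟨g, k, rfl⟩ := F1 x hx
    rw [← QuotientGroup.eq_one_iff]
    have h1 : ((MulAut.conj g : MulAut G) : MulAut G ⧸ Inn) = 1 := by
      rw [QuotientGroup.eq_one_iff]; exact ⟨g, rfl⟩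
    rw [QuotientGroup.mk_pow, QuotientGroup.mk_mul, h1, one_mul, QuotientGroup.mk_zpow,
      ← zpow_natCast, ← zpow_mul, mul_comm, zpow_mul, zpow_natCast, ← QuotientGroup.mk_pow,
      ← hα, pow_orderOf_eq_one, QuotientGroup.mk_one, one_zpow]
  have hO : ∀ M : Subgroup ↥X, M.Normal → Odd (Nat.card M) → M = ⊥ := by
    intro M hM hodd
    have hMG : M.comap cX = ⊥ := by
      have hn : (M.comap cX).Normal := hM.comap cX
      have hdvd : Nat.card ↥(M.comap cX) ∣ Nat.card ↥M := by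
        apply Subgroup.card_dvd_of_injective (cX.subgroupComap M)
        intro a b hab'
        apply Subtype.ext
        apply hcXinj
        have := congrArg (Subtype.val) hab'
        exact this
      have hcop : (Nat.card ↥(M.comap cX)).Coprime 2 :=
        Nat.Coprime.coprime_dvd_left hdvd (Nat.coprime_two_right.mpr hodd)
      have := Cfsg.Agent.Helper55.le_pPrimeCore hn hcop
      rw [hcore] at this
      exact le_bot_iff.mp this
    rw [Subgroup.eq_bot_iff_forall]
    intro m hm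
    obtain ⟨g, hg⟩ := hpowInn m m.2
    have h1 : m ^ (2 ^ (j + 1)) = cX g := by
      apply Subtype.ext
      rw [Subgroup.coe_pow]
      exact hg.symm
    have h2 : g ∈ M.comap cX := by
      show cX g ∈ M
      rw [← h1]; exact Subgroup.pow_mem _ hm _
    rw [hMG, Subgroup.mem_bot] at h2
    rw [h2, map_one] at h1
    have h3 : orderOf m ∣ 2 ^ (j + 1) := orderOf_dvd_of_pow_eq_one h1
    have h4 : orderOf m ∣ Nat.card ↥M := by
      have := orderOf_dvd_natCard (⟨m, hm⟩ : ↥M)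
      rwa [Subgroup.orderOf_mk] at this
    have h5 : (Nat.card ↥M).Coprime (2 ^ (j + 1)) :=
      Nat.Coprime.pow_right _ (Nat.coprime_two_right.mpr hodd)
    have h6 : orderOf m = 1 :=
      Nat.eq_one_of_dvd_coprimes h5 h4 h3
    exact orderOf_eq_one_iff.mp h6
  -- the norm map
  have hoddT : Odd ((T : Subgroup ↥X).relIndex
      (Subgroup.normalizer ((T : Subgroup ↥X) : Set ↥X))) := by
    have h1 := Subgroup.relIndex_mul_index
      (Subgroup.le_normalizer : (T : Subgroup ↥X) ≤ Subgroup.normalizer ((T : Subgroup ↥X) : Set ↥X))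
    have h2 : ¬ 2 ∣ (T : Subgroup ↥X).index := T.not_dvd_index
    rw [← Nat.not_even_iff_odd, even_iff_two_dvd]
    intro h3
    exact h2 (h1 ▸ Dvd.dvd.mul_right h3 _)
  have hI : ∀ n ∈ Subgroup.normalizer ((T : Subgroup ↥X) : Set ↥X),
      n * αX * n⁻¹ * αX⁻¹ ∈ cX.range := by
    intro n _
    obtain ⟨g, k, hgk⟩ := F1 n n.2
    refine ⟨g * α g⁻¹, ?_⟩
    apply Subtype.ext
    show MulAut.conj (g * α g⁻¹) = (n : MulAut G) * α * (n : MulAut G)⁻¹ * α⁻¹
    rw [hgk, map_mul, ← conj_conj α g⁻¹, map_inv]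
    have hk : α ^ k * α * (α ^ k)⁻¹ = α := by
      rw [(Commute.zpow_self α k).eq, mul_inv_cancel_right]
    calc MulAut.conj g * (α * (MulAut.conj g)⁻¹ * α⁻¹)
        = MulAut.conj g * (α ^ k * α * (α ^ k)⁻¹) * (MulAut.conj g)⁻¹ * α⁻¹ := by
          rw [hk]; group
      _ = MulAut.conj g * α ^ k * α * (MulAut.conj g * α ^ k)⁻¹ * α⁻¹ := by group
  obtain ⟨m, p, b, hm, hpI, hpT, hbT, hb, hbfix⟩ :=
    exists_fixed_mul_pow (T : Subgroup ↥X) habT hoddT cX.range αX hαT hI
  -- adjust the exponent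
  have hcop : Nat.Coprime m (2 ^ (j + 1)) :=
    Nat.Coprime.pow_right _ (Nat.coprime_two_right.mpr hm)
  obtain ⟨e, -, he⟩ := Nat.exists_mul_mod_eq_one_of_coprime hcop
    (Nat.one_lt_two_pow (Nat.succ_ne_zero j))
  set β : ↥X := b ^ e with hβ
  have hβT : β ∈ T := Subgroup.pow_mem _ hbT e
  have hβfix : ∀ n ∈ Subgroup.normalizer ((T : Subgroup ↥X) : Set ↥X), n * β * n⁻¹ = β := by
    intro n hn
    rw [hβ, ← conj_pow, hbfix n hn]
  have hβeq : β = p ^ e * αX := by
    rw [hβ, hb]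
    have hc : Commute p (αX ^ m) := habT p hpT _ (Subgroup.pow_mem _ hαT m)
    rw [hc.mul_pow, ← pow_mul]
    congr 1
    rw [← pow_mod_orderOf, hordαX, he, pow_one]
  obtain ⟨g₀, hg₀⟩ : ∃ g₀ : G, cX g₀ = p ^ e := by
    obtain ⟨g, hg⟩ := hpI
    exact ⟨g ^ e, by rw [map_pow, hg]⟩
  have hg₀P : g₀ ∈ P := by
    apply F5a
    rw [hg₀]
    exact Subgroup.pow_mem _ hpT e
  set βG : MulAut G := (β : MulAut G) with hβG
  have hβGeq : βG = MulAut.conj g₀ * α := by
    rw [hβG, hβeq, ← hg₀]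
    rfl
  -- the order of β
  obtain ⟨s, hs⟩ : ∃ s : ℕ, orderOf β = 2 ^ s := by
    obtain ⟨s, hs⟩ := (IsPGroup.iff_orderOf.mp T.isPGroup') ⟨β, hβT⟩
    rw [Subgroup.orderOf_mk] at hs
    exact ⟨s, hs⟩
  have hslt : s < j + 1 := by
    by_contra hcon
    push_neg at hcon
    have hs1 : 1 ≤ s := le_trans (Nat.succ_le_succ (Nat.zero_le j)) hcon
    set u : ↥X := β ^ (orderOf β / 2) with hu
    have hu2 : orderOf u = 2 := by
      apply orderOf_pow_orderOf_div
      · rw [hs]; positivity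
      · rw [hs]; exact dvd_pow_self 2 (by omega)
    have huT : u ∈ T := Subgroup.pow_mem _ hβT _
    have hufix : ∀ n ∈ Subgroup.normalizer ((T : Subgroup ↥X) : Set ↥X), n * u * n⁻¹ = u := by
      intro n hn
      rw [hu, ← conj_pow, hβfix n hn]
    have hucent := central_of_fixed hZS T habT hO u huT hu2 hufix
    have hu1 : (u : MulAut G) = 1 := by
      ext g
      apply hinj
      have h1 := hucent (cX g)
      have h2 : (u : MulAut G) * MulAut.conj g * (u : MulAut G)⁻¹ = MulAut.conj g := by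
        have h3 := congrArg (Subtype.val) h1
        have h4 : MulAut.conj g * (u : MulAut G) = (u : MulAut G) * MulAut.conj g := h3
        rw [← h4, mul_inv_cancel_right]
      rw [conj_conj] at h2
      rw [h2]; rfl
    have hu1' : u = 1 := Subtype.ext hu1
    rw [hu1', orderOf_one] at hu2
    exact absurd hu2 (by norm_num)
  -- induction
  have hβGord : orderOf βG = 2 ^ s := by
    rw [hβG, Subgroup.orderOf_coe, hs]
  have hβGfix : ∀ x ∈ P, βG x = x := by
    intro x hx
    rw [hβGeq, MulAut.mul_apply, hfix x hx, MulAut.conj_apply, hab g₀ hg₀P x hx,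
      mul_inv_cancel_right]
  obtain ⟨g₁, hg₁⟩ := ih s hslt βG hβGord hβGfix
  refine ⟨g₀⁻¹ * g₁, ?_⟩
  rw [map_mul, map_inv, ← hg₁, hβGeq, inv_mul_cancel_left]

end Cfsg.Agent.Helper69.ACS
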