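import Mathlib

set_option autoImplicit false

/-!
# Averaging operators for representations, orbits and coprime indices
-/

namespace Cfsg.Agent.Helper69

/-- a function whose fibres are the right cosets of `D` has `D.index` values -/
theorem card_range_eq_index' {G X : Type*} [Group G] (f : G → X) (D : Subgroup G)
    (hf : ∀ g h : G, f g = f h ↔ h * g⁻¹ ∈ D) : Nat.card (Set.range f) = D.index := by
  have hker : Setoid.ker f = QuotientGroup.rightRel D := by
    ext g h
    rw [Setoid.ker_def, QuotientGroup.rightRel_apply]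
    exact hf g h
  rw [← Nat.card_congr (Setoid.quotientKerEquivRange f), hker,
    Nat.card_congr (QuotientGroup.quotientRightRelEquivQuotientLeftRel D)]
  rfl

/-- if two subgroups have coprime indices then `|B : A ∩ B| = |H : A|` and `H = B A` -/
theorem coprime_index_aux {H : Type*} [Group H] [Finite H] (A B : Subgroup H)
    (hco : A.index.Coprime B.index) :
    A.relIndex B = A.index ∧ ∀ h : H, ∃ y ∈ B, ∃ x ∈ A, h = y * x := by
  classical
  let f : ↥B → H ⧸ A := fun y => QuotientGroup.mk ((y : H)⁻¹)
  have hf : ∀ g h : ↥B, f g = f h ↔ h * g⁻¹ ∈ A.subgroupOf B := by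
    intro g h
    simp only [f]
    rw [QuotientGroup.eq, Subgroup.mem_subgroupOf, inv_inv]
    have : ((h * g⁻¹ : ↥B) : H) = ((g : H) * (h : H)⁻¹)⁻¹ := by
      simp
    rw [this, inv_mem_iff]
  have hcard := card_range_eq_index' f (A.subgroupOf B) hf
  have h1 : (A ⊓ B).relIndex B * B.index = (A ⊓ B).index :=
    Subgroup.relIndex_mul_index inf_le_right
  have h2 : (A ⊓ B).relIndex A * A.index = (A ⊓ B).index :=
    Subgroup.relIndex_mul_index inf_le_left
  rw [Subgroup.inf_relIndex_right] at h1
  have h3 : A.index ∣ A.relIndex B * B.index := by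
    rw [h1, ← h2]; exact dvd_mul_left _ _
  have h4 : A.index ∣ A.relIndex B := hco.dvd_of_dvd_mul_right h3
  have h5 : Nat.card (Set.range f) ≤ Nat.card (H ⧸ A) :=
    Nat.card_le_card_of_injective _ Subtype.val_injective
  have hpos : 0 < Nat.card (Set.range f) := by
    haveI : Nonempty (Set.range f) := ⟨⟨f 1, ⟨1, rfl⟩⟩⟩
    exact Nat.card_pos
  have h6 : Nat.card (Set.range f) = Nat.card (H ⧸ A) := by
    apply le_antisymm h5
    have : A.index = Nat.card (H ⧸ A) := rfl
    rw [← this]
    rw [hcard] at hpos ⊢
    exact Nat.le_of_dvd hpos h4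
  refine ⟨?_, ?_⟩
  · have : A.relIndex B = (A.subgroupOf B).index := rfl
    rw [this, ← hcard, h6]; rfl
  intro h
  have hsurj : Set.range f = Set.univ := by
    rw [Set.eq_univ_iff_ncard, ← Nat.card_coe_set_eq, h6]
  have : (QuotientGroup.mk h : H ⧸ A) ∈ Set.range f := by rw [hsurj]; trivial
  obtain ⟨y, hy⟩ := this
  simp only [f] at hy
  rw [QuotientGroup.eq, inv_inv] at hy
  refine ⟨(y : H)⁻¹, B.inv_mem y.2, (y : H) * h, hy, ?_⟩
  group

/-- if two subgroups have coprime indices then the group is their product -/
theorem exists_mul_of_coprime_index {H : Type*} [Group H] [Finite H] (A B : Subgroup H)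
    (hco : A.index.Coprime B.index) (h : H) : ∃ y ∈ B, ∃ x ∈ A, h = y * x :=
  (coprime_index_aux A B hco).2 h

theorem relIndex_eq_index_of_coprime {H : Type*} [Group H] [Finite H] (A B : Subgroup H)
    (hco : A.index.Coprime B.index) : A.relIndex B = A.index :=
  (coprime_index_aux A B hco).1

section avg

variable {k V K : Type*} [Field k] [AddCommGroup V] [Module k V] [Group K] [Fintype K]

/-- averaging operator of a representation -/
noncomputable def avg (σ : Representation k K V) : V →ₗ[k] V :=
  ((Fintype.card K : k)⁻¹) • ∑ g : K, σ g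

theorem avg_apply (σ : Representation k K V) (v : V) :
    avg σ v = (Fintype.card K : k)⁻¹ • ∑ g : K, σ g v := by
  simp [avg, LinearMap.sum_apply]

theorem avg_absorb (σ : Representation k K V) (g : K) (v : V) : avg σ (σ g v) = avg σ v := by
  rw [avg_apply, avg_apply]
  congr 1
  have : ∀ x : K, σ x (σ g v) = σ (x * g) v := by
    intro x; rw [map_mul]; rfl
  simp_rw [this]
  exact Fintype.sum_bijective (· * g) (Group.mulRight_bijective g) _ _ (fun _ => rfl)

theorem avg_fixed (σ : Representation k K V) (hK : (Fintype.card K : k) ≠ 0) (v : V)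
    (hv : ∀ g, σ g v = v) : avg σ v = v := by
  rw [avg_apply]
  simp_rw [hv]
  rw [Finset.sum_const, Finset.card_univ, ← Nat.cast_smul_eq_nsmul k, smul_smul,
    inv_mul_cancel₀ hK, one_smul]

end avg

section main

variable {k V H : Type*} [Field k] [AddCommGroup V] [Module k V] [Group H] [Finite H]

/-- Key lemma: if a subgroup `B` of order invertible in `k` is transitive on the orbit of `a`,
the orbit spans `V` and has size invertible in `k`, then every `B`-fixed vector is a multiple of an
`H`-fixed vector. -/
theorem fixed_of_transitive (ρ : Representation k H V) (a : V)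
    (hspan : Submodule.span k {u : V | ∃ h : H, ρ h a = u} = ⊤)
    (hm : (Nat.card {u : V | ∃ h : H, ρ h a = u} : k) ≠ 0)
    (B : Subgroup H) (hB : (Nat.card B : k) ≠ 0)
    (htrans : ∀ h : H, ∃ y ∈ B, ρ h a = ρ y a) :
    ∃ s : V, (∀ h : H, ρ h s = s) ∧ ∀ b : V, (∀ y ∈ B, ρ y b = b) → b ∈ Submodule.span k {s} := by
  classical
  haveI : Fintype H := Fintype.ofFinite H
  haveI : Fintype ↥B := Fintype.ofFinite ↥B
  rw [Nat.card_eq_fintype_card] at hB
  let σ : Representation k ↥B V := ρ.comp B.subtype
  have hσ : ∀ (y : ↥B) (v : V), σ y v = ρ (y : H) v := fun _ _ => rfl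
  let F : Finset V := Finset.univ.image (fun h : H => ρ h a)
  have hF : (F : Set V) = {u : V | ∃ h : H, ρ h a = u} := by
    ext u; simp [F]
  have hFcard : (F.card : k) ≠ 0 := by
    rw [← hF] at hm
    rwa [Nat.card_coe_set_eq, Set.ncard_coe_finset] at hm
  let s : V := ∑ u ∈ F, u
  let w : V := avg σ a
  -- `s` is `H`-invariant
  have hs : ∀ g : H, ρ g s = s := by
    intro g
    simp only [s]
    rw [map_sum]
    have hinj : Set.InjOn (fun u => ρ g u) (F : Set V) := by
      intro x _ y _ hxy
      have := congrArg (ρ g⁻¹) hxy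
      simpa [← Module.End.mul_apply, ← map_mul] using this
    rw [← Finset.sum_image (f := fun u => u) hinj]
    congr 1
    simp only [F]
    rw [Finset.image_image]
    ext u
    simp only [Finset.mem_image, Finset.mem_univ, true_and, Function.comp_apply]
    constructor
    · rintro ⟨h, rfl⟩
      exact ⟨g * h, by rw [map_mul]; rfl⟩
    · rintro ⟨h, rfl⟩
      exact ⟨g⁻¹ * h, by rw [← Module.End.mul_apply, ← map_mul, mul_inv_cancel_left]⟩
  -- `avg σ` maps every orbit element to `w`
  have horb : ∀ h : H, avg σ (ρ h a) = w := by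
    intro h
    obtain ⟨y, hy, hya⟩ := htrans h
    rw [hya]
    exact avg_absorb σ ⟨y, hy⟩ a
  have hsw : s = (F.card : k) • w := by
    have h1 : avg σ s = s := avg_fixed σ hB s (fun y => hs y)
    have h2 : avg σ s = (F.card : k) • w := by
      simp only [s]
      rw [map_sum]
      have : ∀ u ∈ F, avg σ u = w := by
        intro u hu
        simp only [F, Finset.mem_image, Finset.mem_univ, true_and] at hu
        obtain ⟨h, rfl⟩ := hu
        exact horb h
      rw [Finset.sum_congr rfl this, Finset.sum_const, Nat.cast_smul_eq_nsmul]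
    rw [← h1, h2]
  have hws : w = (F.card : k)⁻¹ • s := by
    rw [hsw, smul_smul, inv_mul_cancel₀ hFcard, one_smul]
  refine ⟨s, hs, ?_⟩
  intro b hb
  have h1 : avg σ b = b := avg_fixed σ hB b (fun y => hb y y.2)
  have h2 : ∀ v ∈ Submodule.span k {u : V | ∃ h : H, ρ h a = u},
      avg σ v ∈ Submodule.span k {s} := by
    intro v hv
    induction hv using Submodule.span_induction with
    | mem x hx =>
      obtain ⟨h, rfl⟩ := hx
      rw [horb h, hws]
      exact Submodule.smul_mem _ _ (Submodule.mem_span_singleton_self s)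
    | zero => rw [map_zero]; exact Submodule.zero_mem _
    | add x y _ _ hx hy => rw [map_add]; exact Submodule.add_mem _ hx hy
    | smul c x _ hx => rw [map_smul]; exact Submodule.smul_mem _ _ hx
  rw [← h1]
  exact h2 b (by rw [hspan]; trivial)

/-- consequences: the fixed space is at most one-dimensional and `B`-fixed vectors are `H`-fixed -/
theorem fixed_of_transitive' (ρ : Representation k H V) (a : V)
    (hspan : Submodule.span k {u : V | ∃ h : H, ρ h a = u} = ⊤)
    (hm : (Nat.card {u : V | ∃ h : H, ρ h a = u} : k) ≠ 0)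
    (B : Subgroup H) (hB : (Nat.card B : k) ≠ 0)
    (htrans : ∀ h : H, ∃ y ∈ B, ρ h a = ρ y a) :
    Module.finrank k ρ.invariants ≤ 1 ∧
      ∀ b : V, (∀ y ∈ B, ρ y b = b) → ∀ h : H, ρ h b = b := by
  obtain ⟨s, hs, hb⟩ := fixed_of_transitive ρ a hspan hm B hB htrans
  constructor
  · have hle : ρ.invariants ≤ Submodule.span k {s} := by
      intro v hv
      exact hb v (fun y _ => hv y)
    calc Module.finrank k ρ.invariants ≤ Module.finrank k (Submodule.span k {s}) :=
          Submodule.finrank_mono hle
      _ ≤ 1 := by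
          have := finrank_span_le_card (R := k) ({s} : Set V)
          simpa using this
  · intro b hbB h
    have := hb b hbB
    rw [Submodule.mem_span_singleton] at this
    obtain ⟨c, rfl⟩ := this
    rw [map_smul, hs]


/-- the stabilizer of a vector -/
def fixer (ρ : Representation k H V) (b : V) : Subgroup H where
  carrier := {h | ρ h b = b}
  one_mem' := by simp
  mul_mem' := by
    intro x y hx hy
    simp only [Set.mem_setOf_eq] at hx hy ⊢
    rw [map_mul, Module.End.mul_apply, hy, hx]
  inv_mem' := by
    intro x hx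
    simp only [Set.mem_setOf_eq] at hx ⊢
    have := congrArg (ρ x⁻¹) hx
    rw [← Module.End.mul_apply, ← map_mul, inv_mul_cancel, map_one, Module.End.one_apply] at this
    exact this.symm

omit [Finite H] in
theorem mem_fixer (ρ : Representation k H V) (b : V) (h : H) : h ∈ fixer ρ b ↔ ρ h b = b :=
  Iff.rfl

omit [Finite H] in
theorem card_orbit_eq_index (ρ : Representation k H V) (a : V) :
    Nat.card {u : V | ∃ h : H, ρ h a = u} = (fixer ρ a).index := by
  have hf : ∀ g h : H, (fun x : H => ρ x⁻¹ a) g = (fun x : H => ρ x⁻¹ a) h ↔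
      h * g⁻¹ ∈ fixer ρ a := by
    intro g h
    rw [mem_fixer]
    simp only
    constructor
    · intro e
      rw [map_mul, Module.End.mul_apply, e, ← Module.End.mul_apply, ← map_mul, mul_inv_cancel,
        map_one, Module.End.one_apply]
    · intro e
      have := congrArg (ρ h⁻¹) e
      rw [← Module.End.mul_apply, ← map_mul, inv_mul_cancel_left] at this
      exact this
  rw [← card_range_eq_index' _ _ hf]
  have hset : {u : V | ∃ h : H, ρ h a = u} = Set.range (fun x : H => ρ x⁻¹ a) := by
    ext u
    constructor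
    · rintro ⟨h, rfl⟩
      exact ⟨h⁻¹, by simp⟩
    · rintro ⟨h, rfl⟩
      exact ⟨h⁻¹, rfl⟩
  rw [hset]

end main

end Cfsg.Agent.Helper69
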