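import Mathlib
import Cfsg.Prelude.Def_OddOrderLocal
import Cfsg.Agent.S1350
import Cfsg.Agent.S1405
import Cfsg.Agent.S1408
import Cfsg.Agent.S1417
import Cfsg.Agent.S1418
import Cfsg.Agent.S1419
import Cfsg.Agent.Lib.Helper69.BG1213f

/-!
# Bender–Glauberman 12.12 (statement S1421): the case split and the Case I branch of the final row

* `sylow_nonabelian_all`: if one Sylow `p`-subgroup of `G` is nonabelian, all of them are.
* `caseAB_or_caseNA`: either all `τ₂(M)`-Sylow subgroups of `G` are abelian, or some `p ∈ τ₂(M)`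
  has only nonabelian Sylow `p`-subgroups.
* `result_caseNA`: the conclusion of S1421 in Case I, from the rows S1350, S1405, S1408, S1417,
  S1418, S1419 and `BG1213f.case_nonabelian`.
* `result_of_caseAB`: the conclusion of S1421 from its Case AB branch.
-/

set_option autoImplicit false

namespace Cfsg.Agent.Helper69.BG1213g

open Subgroup Cfsg

variable {G : Type*} [Group G]

theorem sylow_nonabelian_all [Finite G] {p : ℕ} [Fact p.Prime] (S0 : Sylow p G)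
    (h0 : ¬ IsMulCommutative (S0 : Subgroup G)) :
    ∀ S : Sylow p G, ¬ IsMulCommutative (S : Subgroup G) := by
  intro S hS
  apply h0
  obtain ⟨g, hg⟩ := MulAction.exists_smul_eq G S S0
  have hS' : ∀ a ∈ (S : Subgroup G), ∀ b ∈ (S : Subgroup G), a * b = b * a := by
    intro a ha b hb
    have := hS.is_comm.comm ⟨a, ha⟩ ⟨b, hb⟩
    exact congrArg Subtype.val this
  refine ⟨⟨fun a b => ?_⟩⟩
  obtain ⟨a, ha⟩ := a
  obtain ⟨b, hb⟩ := b
  apply Subtype.ext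
  show a * b = b * a
  rw [← hg] at ha hb
  rw [Sylow.coe_subgroup_smul] at ha hb
  rw [Subgroup.mem_pointwise_smul_iff_inv_smul_mem] at ha hb
  have h1 := hS' _ ha _ hb
  rw [← smul_mul', ← smul_mul'] at h1
  exact smul_left_cancel _ h1

theorem caseAB_or_caseNA [Finite G] (M : Subgroup G) :
    (∀ (r : ℕ) [Fact r.Prime], r ∈ tau2 M → ∀ S : Sylow r G,
        IsMulCommutative (S : Subgroup G)) ∨
      ∃ (p : ℕ) (_ : Fact p.Prime), p ∈ tau2 M ∧
        ∀ S : Sylow p G, ¬ IsMulCommutative (S : Subgroup G) := by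
  by_cases hab : ∀ (r : ℕ) [Fact r.Prime], r ∈ tau2 M → ∀ S : Sylow r G,
      IsMulCommutative (S : Subgroup G)
  · exact Or.inl hab
  · right
    push Not at hab
    obtain ⟨p, hp, hpτ, S0, hS0⟩ := hab
    exact ⟨p, hp, hpτ, sylow_nonabelian_all S0 hS0⟩

/-- The statement of S1421 in Case I. -/
theorem result_caseNA [Finite G] (hG : IsMinSimpleOddOrder G)
    (M : Subgroup G) (hM : IsCoatom M) (E : Subgroup G) (hE : IsComplIn E (sigmaCore M) M)
    (h : ∀ e ∈ E, e ≠ 1 → (∀ p : ℕ, p.Prime → p ∣ orderOf e → p ∈ tau1 M ∪ tau3 M) →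
      sigmaCore M ⊓ centralizer ({e} : Set G) = ⊥)
    (p : ℕ) [Fact p.Prime] (hpτ : p ∈ tau2 M)
    (hS : ∀ S : Sylow p G, ¬ IsMulCommutative (S : Subgroup G)) :
    (∃ A₀ : Subgroup G, A₀ ≤ E ∧ E ≤ normalizer (A₀ : Set G) ∧ IsMulCommutative A₀ ∧
        ∀ x ∈ sigmaCore M, x ≠ 1 → E ⊓ centralizer ({x} : Set G) ≤ A₀) ∧
      ∃ E₀ : Subgroup G, E₀ ≤ E ∧ Monoid.exponent E₀ = Monoid.exponent E ∧
        ∀ e ∈ E₀, e ≠ 1 → sigmaCore M ⊓ centralizer ({e} : Set G) = ⊥ :=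
  Cfsg.Agent.Helper69.BG1213f.case_nonabelian hG M E hE
    (Cfsg.Agent.S1350.result hG M hM).1
    (Cfsg.Agent.S1405.result hG M hM).1
    (Cfsg.Agent.S1405.result hG M hM).2.2.1
    h p hpτ hS
    (Cfsg.Agent.S1408.result hG M hM p hpτ.2.1 hpτ.2.2.1 hpτ.2.2.2)
    (fun A hA => Cfsg.Agent.S1417.result hG M hM p hpτ A hA)
    (fun A hA => Cfsg.Agent.S1418.result hG M hM E hE p hpτ A hA)
    (fun A hA => Cfsg.Agent.S1419.result hG M hM E hE p hpτ hS A hA)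

/-- The statement of S1421 from its Case AB branch (all `τ₂(M)`-Sylow subgroups of `G`
abelian). -/
theorem result_of_caseAB [Finite G] (hG : IsMinSimpleOddOrder G)
    (M : Subgroup G) (hM : IsCoatom M) (E : Subgroup G) (hE : IsComplIn E (sigmaCore M) M)
    (h : ∀ e ∈ E, e ≠ 1 → (∀ p : ℕ, p.Prime → p ∣ orderOf e → p ∈ tau1 M ∪ tau3 M) →
      sigmaCore M ⊓ centralizer ({e} : Set G) = ⊥)
    (hAB : (∀ (r : ℕ) [Fact r.Prime], r ∈ tau2 M → ∀ S : Sylow r G,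
        IsMulCommutative (S : Subgroup G)) →
      (∃ A₀ : Subgroup G, A₀ ≤ E ∧ E ≤ normalizer (A₀ : Set G) ∧ IsMulCommutative A₀ ∧
        ∀ x ∈ sigmaCore M, x ≠ 1 → E ⊓ centralizer ({x} : Set G) ≤ A₀) ∧
      ∃ E₀ : Subgroup G, E₀ ≤ E ∧ Monoid.exponent E₀ = Monoid.exponent E ∧
        ∀ e ∈ E₀, e ≠ 1 → sigmaCore M ⊓ centralizer ({e} : Set G) = ⊥) :
    (∃ A₀ : Subgroup G, A₀ ≤ E ∧ E ≤ normalizer (A₀ : Set G) ∧ IsMulCommutative A₀ ∧
        ∀ x ∈ sigmaCore M, x ≠ 1 → E ⊓ centralizer ({x} : Set G) ≤ A₀) ∧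
      ∃ E₀ : Subgroup G, E₀ ≤ E ∧ Monoid.exponent E₀ = Monoid.exponent E ∧
        ∀ e ∈ E₀, e ≠ 1 → sigmaCore M ⊓ centralizer ({e} : Set G) = ⊥ := by
  rcases caseAB_or_caseNA M with hab | ⟨p, hp, hpτ, hS⟩
  · exact hAB hab
  · have := hp
    exact result_caseNA hG M hM E hE h p hpτ hS

end Cfsg.Agent.Helper69.BG1213g
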