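import Mathlib
import Cfsg.Agent.Lib.Helper32.C3Defs

/-!
# C3 (QW) part a: the four-group `Q = {1, q₁, q₂, q₃}` permuted cyclically by `b` -- helper69
-/

set_option autoImplicit false

namespace Cfsg.Agent.Helper69.C3

open Cfsg.Agent.Helper32.C3

universe u v

theorem h69_four_elems {G : Type u} [Group G] (Q : Subgroup G) (b : G) (hb3 : b ^ 3 = 1)
    (h4 : Four Q b) :
    ∃ q₁ q₂ q₃ : G, (q₁ ∈ Q ∧ q₂ ∈ Q ∧ q₃ ∈ Q) ∧
      (∀ q ∈ Q, q = 1 ∨ q = q₁ ∨ q = q₂ ∨ q = q₃) ∧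
      (q₁ ≠ 1 ∧ q₂ ≠ 1 ∧ q₃ ≠ 1 ∧ q₁ ≠ q₂ ∧ q₂ ≠ q₃ ∧ q₁ ≠ q₃) ∧
      (q₁ * q₁ = 1 ∧ q₂ * q₂ = 1 ∧ q₃ * q₃ = 1) ∧
      (q₁ * q₂ = q₃ ∧ q₂ * q₁ = q₃ ∧ q₂ * q₃ = q₁ ∧ q₃ * q₂ = q₁ ∧ q₁ * q₃ = q₂ ∧
        q₃ * q₁ = q₂) ∧
      (b * q₁ * b⁻¹ = q₂ ∧ b * q₂ * b⁻¹ = q₃ ∧ b * q₃ * b⁻¹ = q₁) := by
  classical
  obtain ⟨hcard, hsq, hconj, q₁, hq₁, hne⟩ := h4
  set q₂ := b * q₁ * b⁻¹ with hq₂def
  set q₃ := b * q₂ * b⁻¹ with hq₃def
  have hq₂ : q₂ ∈ Q := hconj q₁ hq₁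
  have hq₃ : q₃ ∈ Q := hconj q₂ hq₂
  have hbbb : b * b * b = 1 := by
    rw [← hb3, pow_succ, pow_succ, pow_one]
  have hc3 : b * q₃ * b⁻¹ = q₁ := by
    have : b * q₃ * b⁻¹ = (b * b * b) * q₁ * (b * b * b)⁻¹ := by
      rw [hq₃def, hq₂def]; group
    rw [this, hbbb]; simp
  have h1 : q₁ ≠ 1 := by
    intro h; apply hne; rw [hq₂def, h]; simp
  have h2 : q₂ ≠ 1 := by
    intro h
    apply h1
    have : q₁ = b⁻¹ * q₂ * b := by rw [hq₂def]; group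
    rw [this, h]; simp
  have h3 : q₃ ≠ 1 := by
    intro h
    apply h2
    have : q₂ = b⁻¹ * q₃ * b := by rw [hq₃def]; group
    rw [this, h]; simp
  have h12 : q₁ ≠ q₂ := fun h => hne h.symm
  have h23 : q₂ ≠ q₃ := by
    intro h
    apply h12
    have e1 : q₁ = b⁻¹ * q₂ * b := by rw [hq₂def]; group
    have e2 : q₂ = b⁻¹ * q₃ * b := by rw [hq₃def]; group
    rw [e1]; nth_rewrite 2 [e2]; rw [h]
  have h13 : q₁ ≠ q₃ := by
    intro h
    apply hne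
    show q₂ = q₁
    have : q₂ = b * q₃ * b⁻¹ := by rw [← h]
    rw [this, hc3]
  -- the four elements exhaust `Q`
  have hall : ∀ q ∈ Q, q = 1 ∨ q = q₁ ∨ q = q₂ ∨ q = q₃ := by
    have hsub : ((({1, q₁, q₂, q₃} : Finset G) : Set G)) ⊆ (Q : Set G) := by
      intro x hx
      simp only [Finset.coe_insert, Finset.coe_singleton, Set.mem_insert_iff,
        Set.mem_singleton_iff] at hx
      rcases hx with rfl | rfl | rfl | rfl
      · exact Q.one_mem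
      · exact hq₁
      · exact hq₂
      · exact hq₃
    have hc : ({1, q₁, q₂, q₃} : Finset G).card = 4 := by
      rw [Finset.card_insert_of_notMem, Finset.card_insert_of_notMem,
        Finset.card_insert_of_notMem, Finset.card_singleton]
      · simp only [Finset.mem_singleton]; exact h23
      · simp only [Finset.mem_insert, Finset.mem_singleton, not_or]; exact ⟨h12, h13⟩
      · simp only [Finset.mem_insert, Finset.mem_singleton, not_or]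
        exact ⟨h1.symm, h2.symm, h3.symm⟩
    have hQfin : (Q : Set G).Finite := by
      have : Nat.card (Q : Set G) ≠ 0 := by
        have : Nat.card (Q : Set G) = 4 := hcard
        omega
      exact Set.finite_coe_iff.mp (Nat.finite_of_card_ne_zero this)
    have heq : ((({1, q₁, q₂, q₃} : Finset G) : Set G)) = (Q : Set G) := by
      apply Set.eq_of_subset_of_ncard_le hsub _ hQfin
      rw [Set.ncard_coe_finset, hc, ← Nat.card_coe_set_eq]
      exact le_of_eq hcard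
    intro q hq
    have : q ∈ ((({1, q₁, q₂, q₃} : Finset G) : Set G)) := by rw [heq]; exact hq
    simpa using this
  have key : ∀ x ∈ Q, ∀ y ∈ Q, x ≠ 1 → y ≠ 1 → x ≠ y →
      x * y ≠ 1 ∧ x * y ≠ x ∧ x * y ≠ y := by
    intro x _ y hy hx1 hy1 hxy
    refine ⟨?_, ?_, ?_⟩
    · intro h
      apply hxy
      have hyy := hsq y hy
      calc x = x * (y * y) := by rw [hyy, mul_one]
        _ = (x * y) * y := by group
        _ = y := by rw [h, one_mul]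
    · intro h
      apply hy1
      exact mul_left_cancel (a := x) (by rw [h, mul_one])
    · intro h
      apply hx1
      exact mul_right_cancel (b := y) (by rw [h, one_mul])
  have prod : ∀ x ∈ Q, ∀ y ∈ Q, ∀ z : G, x ≠ 1 → y ≠ 1 → x ≠ y →
      (∀ q ∈ Q, q = 1 ∨ q = x ∨ q = y ∨ q = z) → x * y = z := by
    intro x hx y hy z hx1 hy1 hxy hal
    obtain ⟨k1, k2, k3⟩ := key x hx y hy hx1 hy1 hxy
    rcases hal (x * y) (Q.mul_mem hx hy) with h | h | h | h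
    · exact absurd h k1
    · exact absurd h k2
    · exact absurd h k3
    · exact h
  refine ⟨q₁, q₂, q₃, ⟨hq₁, hq₂, hq₃⟩, hall, ⟨h1, h2, h3, h12, h23, h13⟩,
    ⟨hsq q₁ hq₁, hsq q₂ hq₂, hsq q₃ hq₃⟩, ⟨?_, ?_, ?_, ?_, ?_, ?_⟩, ⟨rfl, rfl, hc3⟩⟩
  · exact prod q₁ hq₁ q₂ hq₂ q₃ h1 h2 h12 hall
  · exact prod q₂ hq₂ q₁ hq₁ q₃ h2 h1 h12.symm (fun q hq => by
      rcases hall q hq with h | h | h | h <;> tauto)
  · exact prod q₂ hq₂ q₃ hq₃ q₁ h2 h3 h23 (fun q hq => by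
      rcases hall q hq with h | h | h | h <;> tauto)
  · exact prod q₃ hq₃ q₂ hq₂ q₁ h3 h2 h23.symm (fun q hq => by
      rcases hall q hq with h | h | h | h <;> tauto)
  · exact prod q₁ hq₁ q₃ hq₃ q₂ h1 h3 h13 (fun q hq => by
      rcases hall q hq with h | h | h | h <;> tauto)
  · exact prod q₃ hq₃ q₁ hq₁ q₂ h3 h1 h13.symm (fun q hq => by
      rcases hall q hq with h | h | h | h <;> tauto)

end Cfsg.Agent.Helper69.C3
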