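import Mathlib
import Cfsg.Agent.Lib.Helper32.C3Defs
import Cfsg.Agent.Lib.Helper69.C3QWa

/-!
# C3 (QW) q_weights -- helper69 for helper32's C3 lemma server (S4415)
-/

set_option autoImplicit false
set_option maxHeartbeats 1600000

namespace Cfsg.Agent.Helper69.C3

open Cfsg.Agent.Helper32.C3

universe u v

section aux

variable {V : Type v} [AddCommGroup V] [Module (ZMod 3) V]

theorem h69_three (x : V) : x + x + x = 0 := by
  have h3 : (3 : ZMod 3) • x = 0 := by
    rw [show (3 : ZMod 3) = 0 from by decide, zero_smul]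
  linear_combination (norm := module) h3

theorem h69_cancel2 (x : V) (h : x + x = 0) : x = 0 := by
  have h3 := h69_three x
  linear_combination (norm := module) h3 - h

theorem h69_neg2 (x : V) : -x - x = x := by
  have h3 := h69_three x
  linear_combination (norm := module) (-1 : ZMod 3) • h3

theorem h69_zmod3_double (a : ZMod 3) (h : a + a = 0) : a = 0 := by
  revert a; decide

end aux

/-- The linear-algebra core of (QW): everything is derived from the operator identities. -/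
theorem h69_qw_core {V : Type v} [AddCommGroup V] [Module (ZMod 3) V] [Finite V]
    (A1 A2 A3 Bb : V →ₗ[ZMod 3] V)
    (hA11 : ∀ v, A1 (A1 v) = v) (hA22 : ∀ v, A2 (A2 v) = v) (hA33 : ∀ v, A3 (A3 v) = v)
    (hA12 : ∀ v, A1 (A2 v) = A3 v) (hA21 : ∀ v, A2 (A1 v) = A3 v)
    (hA23 : ∀ v, A2 (A3 v) = A1 v) (hA32 : ∀ v, A3 (A2 v) = A1 v)
    (hA13 : ∀ v, A1 (A3 v) = A2 v) (hA31 : ∀ v, A3 (A1 v) = A2 v)
    (hB1 : ∀ v, Bb (A1 v) = A2 (Bb v)) (hB2 : ∀ v, Bb (A2 v) = A3 (Bb v))
    (hB3 : ∀ v, Bb (A3 v) = A1 (Bb v)) (hBBB : ∀ v, Bb (Bb (Bb v)) = v)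
    (hA3ne : ∃ v, A3 v ≠ v)
    (hrank : Module.finrank (ZMod 3) (LinearMap.range (Bb - 1)) = 2) :
    ∃ v₁ v₂ v₃ : V,
      (∀ a b c : ZMod 3, a • v₁ + b • v₂ + c • v₃ = 0 → a = 0 ∧ b = 0 ∧ c = 0) ∧
      (Bb v₁ = v₂ ∧ Bb v₂ = v₃ ∧ Bb v₃ = v₁) ∧
      (A1 v₁ = v₁ ∧ A1 v₂ = -v₂ ∧ A1 v₃ = -v₃) ∧
      (A2 v₁ = -v₁ ∧ A2 v₂ = v₂ ∧ A2 v₃ = -v₃) ∧
      (A3 v₁ = -v₁ ∧ A3 v₂ = -v₂ ∧ A3 v₃ = v₃) ∧
      (∀ v, A1 v = v → A2 v = v → A3 v = v → Bb v = v) ∧
      (∀ v, ∃ x₀ : V, ∃ a b c : ZMod 3, A1 x₀ = x₀ ∧ A2 x₀ = x₀ ∧ A3 x₀ = x₀ ∧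
        v = x₀ + (a • v₁ + b • v₂ + c • v₃)) := by
  classical
  -- existence of `v₁`
  have hex : ∃ w, w + A1 w - A2 w - A3 w ≠ 0 := by
    by_contra hcon
    push Not at hcon
    obtain ⟨v, hv⟩ := hA3ne
    apply hv
    have e1 := hcon v
    have e2 : v - A1 v + A2 v - A3 v = 0 := by
      have h := hcon (Bb (Bb v))
      have h' := congrArg Bb h
      simp only [map_add, map_sub, map_zero, hB1, hB2, hB3, hBBB] at h'
      linear_combination (norm := module) h'
    have e3 : (v - A3 v) + (v - A3 v) = 0 := by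
      linear_combination (norm := module) e1 + e2
    have := h69_cancel2 _ e3
    linear_combination (norm := module) (-1 : ZMod 3) • this
  obtain ⟨w, hw⟩ := hex
  set v₁ := w + A1 w - A2 w - A3 w with hv₁
  have a11 : A1 v₁ = v₁ := by
    rw [hv₁]; simp only [map_add, map_sub, hA11, hA12, hA13]; abel
  have a21 : A2 v₁ = -v₁ := by
    rw [hv₁]; simp only [map_add, map_sub, hA22, hA21, hA23]; abel
  have a31 : A3 v₁ = -v₁ := by
    rw [hv₁]; simp only [map_add, map_sub, hA33, hA31, hA32]; abel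
  clear_value v₁
  set v₂ := Bb v₁ with hv₂
  set v₃ := Bb v₂ with hv₃
  have hb3 : Bb v₃ = v₁ := by rw [hv₃, hv₂]; exact hBBB v₁
  have a22 : A2 v₂ = v₂ := by rw [hv₂, ← hB1, a11]
  have a32 : A3 v₂ = -v₂ := by rw [hv₂, ← hB2, a21, map_neg]
  have a12 : A1 v₂ = -v₂ := by rw [hv₂, ← hB3, a31, map_neg]
  have a33 : A3 v₃ = v₃ := by rw [hv₃, ← hB2, a22]
  have a13 : A1 v₃ = -v₃ := by rw [hv₃, ← hB3, a32, map_neg]
  have a23 : A2 v₃ = -v₃ := by rw [hv₃, ← hB1, a12, map_neg]
  have hBinj : ∀ x, Bb x = 0 → x = 0 := by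
    intro x hx
    rw [← hBBB x, hx, map_zero, map_zero]
  have hv2ne : v₂ ≠ 0 := fun h => hw (hBinj _ h)
  have hv3ne : v₃ ≠ 0 := fun h => hv2ne (hBinj _ h)
  -- linear independence
  have hli : ∀ a b c : ZMod 3, a • v₁ + b • v₂ + c • v₃ = 0 → a = 0 ∧ b = 0 ∧ c = 0 := by
    intro a b c h0
    have h1 := congrArg A1 h0
    simp only [map_add, map_smul, map_zero, a11, a12, a13] at h1
    have h2 := congrArg A2 h0
    simp only [map_add, map_smul, map_zero, a21, a22, a23] at h2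
    have ha : (a + a) • v₁ = 0 := by linear_combination (norm := module) h0 + h1
    have hb : (b + b) • v₂ = 0 := by linear_combination (norm := module) h0 + h2
    have ha0 : a = 0 := by
      rcases smul_eq_zero.mp ha with h | h
      · exact h69_zmod3_double a h
      · exact absurd h hw
    have hb0 : b = 0 := by
      rcases smul_eq_zero.mp hb with h | h
      · exact h69_zmod3_double b h
      · exact absurd h hv2ne
    have hc : c • v₃ = 0 := by
      rw [ha0, hb0] at h0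
      simpa using h0
    have hc0 : c = 0 := by
      rcases smul_eq_zero.mp hc with h | h
      · exact h
      · exact absurd h hv3ne
    exact ⟨ha0, hb0, hc0⟩
  -- the range of `Bb - 1`
  have hT : ∀ x, (Bb - 1) x = Bb x - x := fun x => by simp
  have hu1 : v₂ - v₁ ∈ LinearMap.range (Bb - 1) := ⟨v₁, by rw [hT]⟩
  have hu2 : v₃ - v₂ ∈ LinearMap.range (Bb - 1) := ⟨v₂, by rw [hT]⟩
  have hpair : LinearIndependent (ZMod 3) ![v₂ - v₁, v₃ - v₂] := by
    rw [LinearIndependent.pair_iff]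
    intro s t hst
    have : (-s) • v₁ + (s - t) • v₂ + t • v₃ = 0 := by
      linear_combination (norm := module) hst
    obtain ⟨h1, h2, h3⟩ := hli _ _ _ this
    refine ⟨by simpa using h1, h3⟩
  have hspan : Submodule.span (ZMod 3) {v₂ - v₁, v₃ - v₂} = LinearMap.range (Bb - 1) := by
    apply Submodule.eq_of_le_of_finrank_eq
    · rw [Submodule.span_le]
      intro x hx
      rcases hx with rfl | rfl
      · exact hu1
      · exact hu2
    · rw [hrank]
      have hr : Set.range ![v₂ - v₁, v₃ - v₂] = {v₂ - v₁, v₃ - v₂} :=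
        Matrix.range_cons_cons_empty _ _ _
      rw [← hr, finrank_span_eq_card hpair]
      simp
  have hmemrange : ∀ x, ∃ s t : ZMod 3, s • (v₂ - v₁) + t • (v₃ - v₂) = Bb x - x := by
    intro x
    have : Bb x - x ∈ LinearMap.range (Bb - 1) := ⟨x, hT x⟩
    rw [← hspan] at this
    exact Submodule.mem_span_pair.mp this
  -- weight vectors of type 1 are multiples of `v₁`
  have hV1 : ∀ x, A1 x = x → A2 x = -x → A3 x = -x → ∃ a : ZMod 3, x = a • v₁ := by
    intro x h1 _ h3
    obtain ⟨s, t, hst⟩ := hmemrange x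
    have hA := congrArg A1 hst
    have hy : A1 (Bb x) = -Bb x := by rw [← hB3, h3, map_neg]
    simp only [map_add, map_sub, map_smul, a11, a12, a13, hy, h1] at hA
    refine ⟨s, ?_⟩
    have h2 : (x - s • v₁) + (x - s • v₁) = 0 := by
      linear_combination (norm := module) hst + hA
    have := h69_cancel2 _ h2
    linear_combination (norm := module) this
  have hV2 : ∀ x, A1 x = -x → A2 x = x → A3 x = -x → ∃ a : ZMod 3, x = a • v₂ := by
    intro x h1 h2 h3
    obtain ⟨a, ha⟩ := hV1 (Bb (Bb x))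
      (by rw [← hB3, ← hB2, h2])
      (by rw [← hB1, ← hB3, h3, map_neg, map_neg])
      (by rw [← hB2, ← hB1, h1, map_neg, map_neg])
    refine ⟨a, ?_⟩
    have := congrArg Bb ha
    rw [hBBB, map_smul] at this
    exact this
  have hV3 : ∀ x, A1 x = -x → A2 x = -x → A3 x = x → ∃ a : ZMod 3, x = a • v₃ := by
    intro x h1 h2 h3
    obtain ⟨a, ha⟩ := hV1 (Bb x)
      (by rw [← hB3, h3])
      (by rw [← hB1, h1, map_neg])
      (by rw [← hB2, h2, map_neg])
    refine ⟨a, ?_⟩
    have := congrArg (fun y => Bb (Bb y)) ha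
    simp only [hBBB, map_smul] at this
    exact this
  refine ⟨v₁, v₂, v₃, hli, ⟨rfl, rfl, hb3⟩, ⟨a11, a12, a13⟩, ⟨a21, a22, a23⟩,
    ⟨a31, a32, a33⟩, ?_, ?_⟩
  · -- `b` is trivial on the fixed space
    intro v f1 f2 f3
    obtain ⟨s, t, hst⟩ := hmemrange v
    have hBv1 : A1 (Bb v) = Bb v := by rw [← hB3, f3]
    have hA := congrArg A1 hst
    simp only [map_add, map_sub, map_smul, a11, a12, a13, hBv1, f1] at hA
    have : (0 : ZMod 3) • v₁ + ((s - t) + (s - t)) • v₂ + (t + t) • v₃ = 0 := by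
      linear_combination (norm := module) hst - hA
    obtain ⟨_, h2, h3⟩ := hli _ _ _ this
    have ht : t = 0 := h69_zmod3_double t h3
    have hs : s = 0 := by
      rw [ht] at h2
      simp only [sub_zero] at h2
      exact h69_zmod3_double s h2
    rw [hs, ht] at hst
    simp only [zero_smul, add_zero] at hst
    exact (sub_eq_zero.mp hst.symm)
  · -- decomposition
    intro v
    obtain ⟨a, ha⟩ := hV1 (v + A1 v - A2 v - A3 v)
      (by simp only [map_add, map_sub, hA11, hA12, hA13]; abel)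
      (by simp only [map_add, map_sub, hA22, hA21, hA23]; abel)
      (by simp only [map_add, map_sub, hA33, hA31, hA32]; abel)
    obtain ⟨b, hb⟩ := hV2 (v - A1 v + A2 v - A3 v)
      (by simp only [map_add, map_sub, hA11, hA12, hA13]; abel)
      (by simp only [map_add, map_sub, hA22, hA21, hA23]; abel)
      (by simp only [map_add, map_sub, hA33, hA31, hA32]; abel)
    obtain ⟨c, hc⟩ := hV3 (v - A1 v - A2 v + A3 v)
      (by simp only [map_add, map_sub, hA11, hA12, hA13]; abel)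
      (by simp only [map_add, map_sub, hA22, hA21, hA23]; abel)
      (by simp only [map_add, map_sub, hA33, hA31, hA32]; abel)
    refine ⟨v + A1 v + A2 v + A3 v, a, b, c, ?_, ?_, ?_, ?_⟩
    · simp only [map_add, hA11, hA12, hA13]; abel
    · simp only [map_add, hA22, hA21, hA23]; abel
    · simp only [map_add, hA33, hA31, hA32]; abel
    · have h3 := h69_three v
      linear_combination (norm := module) ha + hb + hc - h3

/-- **QW.** The weights of `Q`. -/
theorem q_weights {G : Type u} [Group G] [Finite G] {V : Type v} [AddCommGroup V]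
    [Module (ZMod 3) V] [Finite V] (ρ : Representation (ZMod 3) G V) (R Q : Subgroup G) (b : G)
    (h : Cfg ρ R Q b) :
    ∃ (q₁ q₂ q₃ : G) (v₁ v₂ v₃ : V), QWeights ρ Q b q₁ q₂ q₃ v₁ v₂ v₃ := by
  obtain ⟨q₁, q₂, q₃, hmem, hall, hne, hsq, hmul, hconj⟩ := h69_four_elems Q b h.b3 h.four
  have hmulρ : ∀ x y : G, ∀ v, ρ x (ρ y v) = ρ (x * y) v := fun x y v => by
    rw [map_mul]; rfl
  have hone : ∀ v, ρ 1 v = v := fun v => by rw [map_one]; rfl
  have hbq1 : b * q₁ = q₂ * b := by rw [← hconj.1]; group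
  have hbq2 : b * q₂ = q₃ * b := by rw [← hconj.2.1]; group
  have hbq3 : b * q₃ = q₁ * b := by rw [← hconj.2.2]; group
  have hbbb : b * b * b = 1 := by
    rw [← h.b3, pow_succ, pow_succ, pow_one]
  have hA3ne : ∃ v, ρ q₃ v ≠ v := by
    by_contra hcon
    push Not at hcon
    apply hne.2.2.1
    apply h.faith
    apply LinearMap.ext
    intro v
    rw [hcon v, hone v]
  have hrank : Module.finrank (ZMod 3) (LinearMap.range (ρ b - 1)) = 2 := h.cubic.1
  obtain ⟨v₁, v₂, v₃, hli, hbv, ha1, ha2, ha3, hfixb, hdec⟩ :=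
    h69_qw_core (ρ q₁) (ρ q₂) (ρ q₃) (ρ b)
      (fun v => by rw [hmulρ, hsq.1, hone])
      (fun v => by rw [hmulρ, hsq.2.1, hone])
      (fun v => by rw [hmulρ, hsq.2.2, hone])
      (fun v => by rw [hmulρ, hmul.1])
      (fun v => by rw [hmulρ, hmul.2.1])
      (fun v => by rw [hmulρ, hmul.2.2.1])
      (fun v => by rw [hmulρ, hmul.2.2.2.1])
      (fun v => by rw [hmulρ, hmul.2.2.2.2.1])
      (fun v => by rw [hmulρ, hmul.2.2.2.2.2])
      (fun v => by rw [hmulρ, hmulρ, hbq1])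
      (fun v => by rw [hmulρ, hmulρ, hbq2])
      (fun v => by rw [hmulρ, hmulρ, hbq3])
      (fun v => by rw [hmulρ, hmulρ, hbbb, hone])
      hA3ne hrank
  have hcom : comS ρ Q = Submodule.span (ZMod 3) {v₁, v₂, v₃} := by
    apply le_antisymm
    · unfold comS
      rw [Submodule.span_le]
      rintro w ⟨q, hq, v, rfl⟩
      obtain ⟨x₀, a, b', c, f1, f2, f3, hv⟩ := hdec v
      subst hv
      rw [SetLike.mem_coe, Submodule.mem_span_triple]
      rcases hall q hq with rfl | rfl | rfl | rfl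
      · exact ⟨0, 0, 0, by rw [hone]; simp⟩
      · refine ⟨0, -(b' + b'), -(c + c), ?_⟩
        simp only [map_add, map_smul, f1, ha1.1, ha1.2.1, ha1.2.2]
        module
      · refine ⟨-(a + a), 0, -(c + c), ?_⟩
        simp only [map_add, map_smul, f2, ha2.1, ha2.2.1, ha2.2.2]
        module
      · refine ⟨-(a + a), -(b' + b'), 0, ?_⟩
        simp only [map_add, map_smul, f3, ha3.1, ha3.2.1, ha3.2.2]
        module
    · rw [Submodule.span_le]
      intro w hw
      simp only [Set.mem_insert_iff, Set.mem_singleton_iff] at hw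
      rcases hw with hw | hw | hw
      · have : ρ q₂ v₁ - v₁ = v₁ := by rw [ha2.1]; exact h69_neg2 v₁
        rw [hw, SetLike.mem_coe, ← this]
        exact sub_mem_comS ρ Q hmem.2.1 v₁
      · have : ρ q₁ v₂ - v₂ = v₂ := by rw [ha1.2.1]; exact h69_neg2 v₂
        rw [hw, SetLike.mem_coe, ← this]
        exact sub_mem_comS ρ Q hmem.1 v₂
      · have : ρ q₁ v₃ - v₃ = v₃ := by rw [ha1.2.2]; exact h69_neg2 v₃
        rw [hw, SetLike.mem_coe, ← this]
        exact sub_mem_comS ρ Q hmem.1 v₃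
  refine ⟨q₁, q₂, q₃, v₁, v₂, v₃, ⟨hmem, hall, hne, hsq, hmul, hconj, ?_, hbv, ha1, ha2, ha3,
    hcom, ?_, ?_, ?_⟩⟩
  · rw [Fintype.linearIndependent_iff]
    intro g hg
    rw [Fin.sum_univ_three] at hg
    obtain ⟨h1, h2, h3⟩ := hli (g 0) (g 1) (g 2) (by simpa using hg)
    intro i
    fin_cases i
    · exact h1
    · exact h2
    · exact h3
  · intro v hv
    exact hfixb v (hv q₁ hmem.1) (hv q₂ hmem.2.1) (hv q₃ hmem.2.2)
  · rw [hcom, eq_bot_iff]
    rintro v ⟨hvf, hvc⟩
    obtain ⟨a, b', c, rfl⟩ := Submodule.mem_span_triple.mp hvc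
    have e1 := hvf q₁ hmem.1
    have e2 := hvf q₂ hmem.2.1
    simp only [map_add, map_smul, ha1.1, ha1.2.1, ha1.2.2] at e1
    simp only [map_add, map_smul, ha2.1, ha2.2.1, ha2.2.2] at e2
    have k1 : (0 : ZMod 3) • v₁ + (b' + b') • v₂ + (c + c) • v₃ = 0 := by
      linear_combination (norm := module) (-1 : ZMod 3) • e1
    have k2 : (a + a) • v₁ + (0 : ZMod 3) • v₂ + (c + c) • v₃ = 0 := by
      linear_combination (norm := module) (-1 : ZMod 3) • e2
    obtain ⟨_, hb0, hc0⟩ := hli _ _ _ k1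
    obtain ⟨ha0, _, _⟩ := hli _ _ _ k2
    rw [h69_zmod3_double a ha0, h69_zmod3_double b' hb0, h69_zmod3_double c hc0]
    simp
  · rw [eq_top_iff]
    intro v _
    obtain ⟨x₀, a, b', c, f1, f2, f3, hv⟩ := hdec v
    rw [hv]
    apply Submodule.add_mem_sup
    · intro q hq
      rcases hall q hq with rfl | rfl | rfl | rfl
      · exact hone x₀
      · exact f1
      · exact f2
      · exact f3
    · rw [hcom]
      exact Submodule.mem_span_triple.mpr ⟨a, b', c, rfl⟩

end Cfsg.Agent.Helper69.C3
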