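import Mathlib
import Cfsg.Agent.Lib.Helper7.CWDefs

/-!
# CW (EV) even_char -- helper69 for helper7's CW lemma server (S0406)
-/

set_option autoImplicit false
open Matrix

namespace Cfsg.Agent.Helper69.CW
open Cfsg Cfsg.Agent.Helper7.CW

variable {Λ : AddSubgroup V}

theorem h69_sum_dbl_mul_uvec (a : V) (k : Fin 24) :
    ∑ i, dbl a i * uvec k i = 2 * ∑ i, a i - 8 * a k := by
  have h1 : ∀ i, dbl a i * uvec k i = 2 * a i - (if i = k then 8 * a i else 0) := by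
    intro i
    unfold dbl uvec
    by_cases hik : i = k
    · rw [if_pos hik, if_pos hik]; ring
    · rw [if_neg hik, if_neg hik]; ring
  rw [Finset.sum_congr rfl (fun i _ => h1 i), Finset.sum_sub_distrib, ← Finset.mul_sum,
    Finset.sum_ite_eq' Finset.univ k (fun i => 8 * a i)]
  simp

theorem h69_even_fwd
    (hI : ∀ y ∈ Λ, ∀ z ∈ Λ, (8 : ℤ) ∣ ∑ i, y i * z i)
    (k : Fin 24) (hu : uvec k ∈ Λ) (a : V) (ha : dbl a ∈ Λ) : (4 : ℤ) ∣ ∑ i, a i := by
  have h1 := hI (dbl a) ha (uvec k) hu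
  rw [h69_sum_dbl_mul_uvec] at h1
  omega

theorem even_char (h : CL Λ)
    (hD : ∀ y : V, (∀ i, (4 : ℤ) ∣ y i) → (8 : ℤ) ∣ ∑ i, y i → y ∈ Λ)
    (hI : ∀ y ∈ Λ, ∀ z ∈ Λ, (8 : ℤ) ∣ ∑ i, y i * z i)
    (k : Fin 24) (hu : uvec k ∈ Λ) (a : V) :
    dbl a ∈ Λ ↔ (redV a ∈ code Λ ∧ (4 : ℤ) ∣ ∑ i, a i) := by
  constructor
  · intro ha
    exact ⟨⟨a, ha, rfl⟩, h69_even_fwd hI k hu a ha⟩
  · rintro ⟨⟨a', ha', hred⟩, h4⟩
    have h4' := h69_even_fwd hI k hu a' ha'
    have hpar : ∀ i, (2 : ℤ) ∣ a i - a' i := by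
      intro i
      have := congrFun hred i
      unfold redV at this
      have h2 : ((a i - a' i : ℤ) : ZMod 2) = 0 := by
        push_cast; rw [this]; ring
      exact (ZMod.intCast_zmod_eq_zero_iff_dvd _ 2).mp h2
    have hy : (fun i => 2 * (a i - a' i)) ∈ Λ := by
      apply hD
      · intro i
        obtain ⟨c, hc⟩ := hpar i
        exact ⟨c, by rw [hc]; ring⟩
      · have : ∑ i, 2 * (a i - a' i) = 2 * (∑ i, a i - ∑ i, a' i) := by
          rw [← Finset.mul_sum, Finset.sum_sub_distrib]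
        rw [this]
        omega
    have : dbl a = (fun i => 2 * (a i - a' i)) + dbl a' := by
      funext i
      simp only [dbl, Pi.add_apply]
      ring
    rw [this]
    exact Λ.add_mem hy ha'

end Cfsg.Agent.Helper69.CW
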