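import Mathlib
import Cfsg.Agent.Lib.Helper7.CWDefs
import Cfsg.Agent.Lib.Helper7.LeechBasic

/-!
# CW (ID) ident -- helper69 for helper7's CW lemma server (S0406)
-/

set_option autoImplicit false
open Matrix

namespace Cfsg.Agent.Helper69.CW
open Cfsg Cfsg.Agent.Helper7.CW Cfsg.Agent.Helper91

variable {Λ : AddSubgroup V}

theorem h69_red_comp (e : Fin 24 ≃ GolayPt) (a : V) :
    (fun i => red (fun p => a (e.symm p)) (e i)) = redV a := by
  funext i
  simp [red, redV]

theorem h69_sum_comp (e : Fin 24 ≃ GolayPt) (y : V) : ∑ p, y (e.symm p) = ∑ i, y i :=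
  Equiv.sum_comp e.symm y

theorem h69_sum_uvec (k : Fin 24) : ∑ i, uvec k i = 20 := by
  have h1 : ∀ i, uvec k i = 1 - (if i = k then 4 else 0) := by
    intro i
    unfold uvec
    split_ifs <;> norm_num
  rw [Finset.sum_congr rfl (fun i _ => h1 i), Finset.sum_sub_distrib,
    Finset.sum_ite_eq' Finset.univ k (fun _ => (4 : ℤ))]
  simp

theorem h69_sum_dbl (a : V) : ∑ i, dbl a i = 2 * ∑ i, a i := by
  simp only [dbl]
  rw [Finset.mul_sum]

theorem h69_LP_even (e : Fin 24 ≃ GolayPt)
    (he : ∀ w : GolayPt → ZMod 2, w ∈ golayCode ↔ (fun i => w (e i)) ∈ code Λ)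
    (a : V) (hc : redV a ∈ code Λ) (h4 : (4 : ℤ) ∣ ∑ i, a i) :
    LP (fun p => dbl a (e.symm p)) := by
  refine ⟨0, fun p => a (e.symm p), fun p => by simp [dbl], ?_, ?_⟩
  · rw [he, h69_red_comp]
    exact hc
  · rw [h69_sum_comp e (dbl a), h69_sum_dbl, Int.modEq_iff_dvd]
    omega

theorem h69_LP_odd (e : Fin 24 ≃ GolayPt)
    (he : ∀ w : GolayPt → ZMod 2, w ∈ golayCode ↔ (fun i => w (e i)) ∈ code Λ)
    (k : Fin 24) (a : V) (hc : redV a ∈ code Λ) (h4 : (4 : ℤ) ∣ ∑ i, a i) :
    LP (fun p => (uvec k + dbl a) (e.symm p)) := by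
  refine ⟨1, fun p => a (e.symm p) - (if e.symm p = k then 2 else 0), fun p => ?_, ?_, ?_⟩
  · simp only [Pi.add_apply, uvec, dbl]
    split_ifs <;> ring
  · rw [he]
    have hfun : (fun i => red (fun p => a (e.symm p) - (if e.symm p = k then 2 else 0)) (e i))
        = redV a := by
      funext i
      simp only [red, redV, Equiv.symm_apply_apply]
      split_ifs
      · push_cast
        have h20 : (2 : ZMod 2) = 0 := by decide
        rw [h20, sub_zero]
      · simp
    rw [hfun]
    exact hc
  · rw [h69_sum_comp e (uvec k + dbl a)]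
    have hs : ∑ i, (uvec k + dbl a) i = 20 + 2 * ∑ i, a i := by
      simp only [Pi.add_apply]
      rw [Finset.sum_add_distrib, h69_sum_uvec, h69_sum_dbl]
    rw [hs, Int.modEq_iff_dvd]
    omega

theorem ident (h : CL Λ) (k : Fin 24) (hu : uvec k ∈ Λ)
    (hEV : ∀ a : V, dbl a ∈ Λ ↔ (redV a ∈ code Λ ∧ (4 : ℤ) ∣ ∑ i, a i))
    (e : Fin 24 ≃ Cfsg.GolayPt)
    (he : ∀ w : Cfsg.GolayPt → ZMod 2,
      w ∈ Cfsg.golayCode ↔ (fun i => w (e i)) ∈ code Λ) (y : V) :
    y ∈ Λ ↔ (fun p => y (e.symm p)) ∈ Cfsg.leechLattice := by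
  rw [Cfsg.Agent.Helper7.mem_leechLattice_iff]
  constructor
  · intro hy
    by_cases hev : (2 : ℤ) ∣ y k
    · have hall : ∀ i, (2 : ℤ) ∣ y i := by
        intro i
        have := h.par y hy i k
        omega
      obtain ⟨a, hya⟩ : ∃ a : V, y = dbl a := by
        refine ⟨fun i => y i / 2, ?_⟩
        funext i
        simp only [dbl]
        have := hall i
        omega
      subst hya
      obtain ⟨hc, h4⟩ := (hEV a).mp hy
      exact h69_LP_even e he a hc h4
    · have hall : ∀ i, ¬ (2 : ℤ) ∣ y i := by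
        intro i
        have := h.par y hy i k
        omega
      obtain ⟨a, hya⟩ : ∃ a : V, y = uvec k + dbl a := by
        refine ⟨fun i => (y i - uvec k i) / 2, ?_⟩
        funext i
        simp only [Pi.add_apply, dbl]
        have h2 : (2 : ℤ) ∣ y i - uvec k i := by
          have := hall i
          unfold uvec
          split_ifs <;> omega
        omega
      have ha : dbl a ∈ Λ := by
        have := Λ.sub_mem hy hu
        rw [hya, add_sub_cancel_left] at this
        exact this
      subst hya
      obtain ⟨hc, h4⟩ := (hEV a).mp ha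
      exact h69_LP_odd e he k a hc h4
  · intro hLP
    obtain ⟨m, a', hm, h1, h2, h3⟩ := LP_normalize hLP
    have hyi : ∀ i, y i = m + 2 * a' (e i) := by
      intro i
      have := h1 (e i)
      simpa using this
    have hsum : ∑ p, (fun p => y (e.symm p)) p = ∑ i, y i := h69_sum_comp e y
    rw [hsum] at h3
    rw [he] at h2
    rcases hm with rfl | rfl
    · have hya : y = dbl (fun i => a' (e i)) := by
        funext i
        rw [hyi i]
        simp [dbl]
      have hs : ∑ i, y i = 2 * ∑ i, a' (e i) := by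
        rw [hya, h69_sum_dbl]
      rw [hya, hEV]
      refine ⟨h2, ?_⟩
      rw [hs, Int.modEq_iff_dvd] at h3
      omega
    · have hya : y = uvec k + dbl (fun i => a' (e i) + (if i = k then 2 else 0)) := by
        funext i
        rw [hyi i]
        simp only [Pi.add_apply, uvec, dbl]
        split_ifs <;> ring
      have hs : ∑ i, y i = 24 + 2 * ∑ i, a' (e i) := by
        rw [Finset.sum_congr rfl (fun i _ => hyi i), Finset.sum_add_distrib, ← Finset.mul_sum]
        simp
      rw [hya]
      refine Λ.add_mem hu ((hEV _).mpr ⟨?_, ?_⟩)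
      · have hfun : redV (fun i => a' (e i) + (if i = k then 2 else 0))
            = (fun i => red a' (e i)) := by
          funext i
          simp only [red, redV]
          split_ifs
          · push_cast
            have h20 : (2 : ZMod 2) = 0 := by decide
            rw [h20, add_zero]
          · simp
        rw [hfun]
        exact h2
      · have hsb : ∑ i, (a' (e i) + (if i = k then (2 : ℤ) else 0)) = ∑ i, a' (e i) + 2 := by
          rw [Finset.sum_add_distrib, Finset.sum_ite_eq' Finset.univ k (fun _ => (2 : ℤ))]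
          simp
        rw [hsb]
        rw [hs, Int.modEq_iff_dvd] at h3
        omega

end Cfsg.Agent.Helper69.CW
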