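import Mathlib
import Cfsg.Agent.Lib.Helper7.CWDefs

/-!
# CW (ON) odd_normalize -- helper69 for helper7's CW lemma server (S0406)
-/

set_option autoImplicit false
open Matrix

namespace Cfsg.Agent.Helper69.CW
open Cfsg Cfsg.Agent.Helper7.CW

variable {Λ : AddSubgroup V}

/-- An odd integer has square `1` or at least `9`; more precisely `y^2 - 1 = 0` or `≥ 8`. -/
theorem h69_odd_sq (y : ℤ) (hy : Odd y) : y ^ 2 = 1 ∨ 9 ≤ y ^ 2 := by
  obtain ⟨c, rfl⟩ := hy
  by_cases h0 : c = 0
  · left; subst h0; norm_num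
  by_cases h1 : c = -1
  · left; subst h1; norm_num
  right
  have : 1 ≤ c ∨ c ≤ -2 := by omega
  rcases this with h | h <;> nlinarith

/-- Shape of a vector with all coordinates odd and sum of squares `32`: one coordinate of square `9`,
all the others of square `1`. -/
theorem h69_shape (y : V) (hodd : ∀ i, Odd (y i)) (h32 : ∑ i, y i ^ 2 = 32) :
    ∃ k : Fin 24, y k ^ 2 = 9 ∧ ∀ i, i ≠ k → y i ^ 2 = 1 := by
  have hf0 : ∀ i, 0 ≤ y i ^ 2 - 1 := by
    intro i
    rcases h69_odd_sq (y i) (hodd i) with h | h <;> omega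
  have hsum : ∑ i, (y i ^ 2 - 1) = 8 := by
    rw [Finset.sum_sub_distrib, h32]
    simp
  have hex : ∃ k, 9 ≤ y k ^ 2 := by
    by_contra hcon
    push_neg at hcon
    have hall : ∀ i, y i ^ 2 - 1 = 0 := by
      intro i
      rcases h69_odd_sq (y i) (hodd i) with h | h
      · omega
      · have := hcon i; omega
    rw [Finset.sum_congr rfl (fun i _ => hall i)] at hsum
    simp at hsum
  obtain ⟨k, hk⟩ := hex
  have hk8 : y k ^ 2 - 1 ≤ 8 := by
    have := Finset.single_le_sum (f := fun i => y i ^ 2 - 1) (s := Finset.univ)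
      (fun i _ => hf0 i) (Finset.mem_univ k)
    omega
  refine ⟨k, by omega, ?_⟩
  intro i hik
  have hpair : (y i ^ 2 - 1) + (y k ^ 2 - 1) ≤ 8 := by
    have hsub : ({i, k} : Finset (Fin 24)) ⊆ Finset.univ := Finset.subset_univ _
    have := Finset.sum_le_sum_of_subset_of_nonneg (f := fun i => y i ^ 2 - 1) hsub
      (fun j _ _ => hf0 j)
    rw [Finset.sum_pair hik, hsum] at this
    exact this
  rcases h69_odd_sq (y i) (hodd i) with h | h
  · exact h
  · omega

theorem odd_normalize (h : CL Λ) (y : V) (hy : y ∈ Λ) (hodd : ∃ i, Odd (y i))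
    (h32 : ∑ i, y i ^ 2 = 32) :
    ∃ (ε : V) (k : Fin 24), (∀ i, ε i = 1 ∨ ε i = -1) ∧
      uvec k ∈ Λ.map (AddMonoidHom.mulLeft ε) := by
  obtain ⟨i0, hi0⟩ := hodd
  have hall : ∀ i, Odd (y i) := by
    intro i
    have h2 := h.par y hy i i0
    rw [Int.odd_iff] at hi0 ⊢
    omega
  obtain ⟨k, hk9, hk1⟩ := h69_shape y hall h32
  have hk3 : y k = 3 ∨ y k = -3 := by
    have : (y k - 3) * (y k + 3) = 0 := by nlinarith
    rcases mul_eq_zero.mp this with h' | h'
    · left; omega
    · right; omega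
  have hi1 : ∀ i, i ≠ k → y i = 1 ∨ y i = -1 := by
    intro i hik
    have h1 := hk1 i hik
    have : (y i - 1) * (y i + 1) = 0 := by nlinarith
    rcases mul_eq_zero.mp this with h' | h'
    · left; omega
    · right; omega
  refine ⟨fun i => if i = k then (if y k = 3 then -1 else 1) else y i, k, ?_, ?_⟩
  · intro i
    by_cases hik : i = k
    · simp only [if_pos hik]
      by_cases h3 : y k = 3
      · rw [if_pos h3]; right; rfl
      · rw [if_neg h3]; left; rfl
    · simp only [if_neg hik]
      exact hi1 i hik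
  · rw [AddSubgroup.mem_map]
    refine ⟨y, hy, ?_⟩
    funext i
    simp only [AddMonoidHom.coe_mulLeft, Pi.mul_apply]
    unfold uvec
    by_cases hik : i = k
    · simp only [if_pos hik]
      subst hik
      rcases hk3 with h3 | h3
      · rw [if_pos h3, h3]; norm_num
      · rw [if_neg (by omega), h3]; norm_num
    · simp only [if_neg hik]
      have := hk1 i hik
      nlinarith

end Cfsg.Agent.Helper69.CW
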