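import Mathlib
import Cfsg.Agent.Lib.Helper7.CWDefs

/-!
# CW (SC) CL_sign -- helper69 for helper7's CW lemma server (S0406)
-/

set_option autoImplicit false
open Matrix

namespace Cfsg.Agent.Helper69.CW
open Cfsg Cfsg.Agent.Helper7.CW

variable {Λ : AddSubgroup V}

theorem h69_eps_sq (ε : V) (hε : ∀ i, ε i = 1 ∨ ε i = -1) : ε * ε = 1 := by
  funext i
  simp only [Pi.mul_apply, Pi.one_apply]
  rcases hε i with h | h <;> rw [h] <;> norm_num

theorem h69_eps_cancel (ε : V) (hε : ∀ i, ε i = 1 ∨ ε i = -1) (z : V) : ε * (ε * z) = z := by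
  rw [← mul_assoc, h69_eps_sq ε hε, one_mul]

theorem h69_mem_map_iff (ε : V) (hε : ∀ i, ε i = 1 ∨ ε i = -1) (z : V) :
    z ∈ Λ.map (AddMonoidHom.mulLeft ε) ↔ ε * z ∈ Λ := by
  rw [AddSubgroup.mem_map]
  constructor
  · rintro ⟨y, hy, rfl⟩
    simp only [AddMonoidHom.coe_mulLeft]
    rw [h69_eps_cancel ε hε]
    exact hy
  · intro hz
    exact ⟨ε * z, hz, by simp only [AddMonoidHom.coe_mulLeft]; exact h69_eps_cancel ε hε z⟩

theorem h69_sum_sq_mul (ε : V) (hε : ∀ i, ε i = 1 ∨ ε i = -1) (z : V) :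
    ∑ i, (ε * z) i ^ 2 = ∑ i, z i ^ 2 := by
  refine Finset.sum_congr rfl (fun i _ => ?_)
  simp only [Pi.mul_apply]
  rcases hε i with h | h <;> rw [h] <;> ring

theorem h69_mul_single (ε : V) (i : Fin 24) (c : ℤ) :
    ε * (Pi.single i c : V) = Pi.single i (ε i * c) := by
  funext j
  simp only [Pi.mul_apply]
  by_cases hji : j = i
  · subst hji; simp
  · simp [Pi.single_eq_of_ne hji]

theorem h69_dbl_mul (ε a : V) : ε * dbl a = dbl (ε * a) := by
  funext i
  simp only [Pi.mul_apply, dbl]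
  ring

theorem h69_redV_mul (ε : V) (hε : ∀ i, ε i = 1 ∨ ε i = -1) (a : V) : redV (ε * a) = redV a := by
  funext i
  simp only [redV, Pi.mul_apply]
  rcases hε i with h | h
  · rw [h, one_mul]
  · rw [h]
    push_cast
    have : ∀ z : ZMod 2, -1 * z = z := by decide
    exact this _

theorem CL_sign (h : CL Λ) (ε : V) (hε : ∀ i, ε i = 1 ∨ ε i = -1) :
    CL (Λ.map (AddMonoidHom.mulLeft ε)) ∧ code (Λ.map (AddMonoidHom.mulLeft ε)) = code Λ := by
  refine ⟨⟨?_, ?_, ?_, ?_, ?_⟩, ?_⟩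
  · -- pair
    intro i j hij
    obtain ⟨hp, hm⟩ := h.pair i j hij
    rw [h69_mem_map_iff ε hε, h69_mem_map_iff ε hε, mul_add, mul_sub, h69_mul_single,
      h69_mul_single]
    rcases hε i with hi | hi <;> rcases hε j with hj | hj <;> rw [hi, hj]
    · simp only [one_mul]
      exact ⟨hp, hm⟩
    · simp only [one_mul, neg_one_mul, Pi.single_neg]
      refine ⟨?_, ?_⟩
      · rw [← sub_eq_add_neg]; exact hm
      · rw [sub_neg_eq_add]; exact hp
    · simp only [one_mul, neg_one_mul, Pi.single_neg]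
      refine ⟨?_, ?_⟩
      · have : -(Pi.single i 4 : V) + Pi.single j 4 = -(Pi.single i 4 - Pi.single j 4) := by
          abel
        rw [this]; exact Λ.neg_mem hm
      · have : -(Pi.single i 4 : V) - Pi.single j 4 = -(Pi.single i 4 + Pi.single j 4) := by
          abel
        rw [this]; exact Λ.neg_mem hp
    · simp only [neg_one_mul, Pi.single_neg]
      refine ⟨?_, ?_⟩
      · have : -(Pi.single i 4 : V) + -(Pi.single j 4 : V) = -(Pi.single i 4 + Pi.single j 4) := by
          abel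
        rw [this]; exact Λ.neg_mem hp
      · have : -(Pi.single i 4 : V) - -(Pi.single j 4 : V) = -(Pi.single i 4 - Pi.single j 4) := by
          abel
        rw [this]; exact Λ.neg_mem hm
  · -- par
    intro y hy i j
    rw [h69_mem_map_iff ε hε] at hy
    have h2 := h.par _ hy i j
    simp only [Pi.mul_apply] at h2
    rcases hε i with hi | hi <;> rcases hε j with hj | hj <;> rw [hi, hj] at h2 <;> omega
  · -- min
    intro y hy hy0
    rw [h69_mem_map_iff ε hε] at hy
    have hne : ε * y ≠ 0 := by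
      intro h0
      apply hy0
      rw [← h69_eps_cancel ε hε y, h0, mul_zero]
    have := h.min _ hy hne
    rwa [h69_sum_sq_mul ε hε] at this
  · -- div
    intro y hy
    rw [h69_mem_map_iff ε hε] at hy
    have := h.div _ hy
    rwa [h69_sum_sq_mul ε hε] at this
  · -- cnt
    have hset : {y : V | y ∈ Λ.map (AddMonoidHom.mulLeft ε) ∧ ∑ i, y i ^ 2 = 32} =
        (fun y : V => ε * y) '' {y : V | y ∈ Λ ∧ ∑ i, y i ^ 2 = 32} := by
      ext z
      simp only [Set.mem_setOf_eq, Set.mem_image]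
      constructor
      · rintro ⟨hz, hz32⟩
        rw [h69_mem_map_iff ε hε] at hz
        exact ⟨ε * z, ⟨hz, by rw [h69_sum_sq_mul ε hε]; exact hz32⟩, h69_eps_cancel ε hε z⟩
      · rintro ⟨y, ⟨hy, hy32⟩, rfl⟩
        refine ⟨?_, ?_⟩
        · rw [h69_mem_map_iff ε hε, h69_eps_cancel ε hε]; exact hy
        · rw [h69_sum_sq_mul ε hε]; exact hy32
    rw [hset, Set.ncard_image_of_injective, h.cnt]
    intro y1 y2 h12
    simp only at h12
    rw [← h69_eps_cancel ε hε y1, h12, h69_eps_cancel ε hε]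
  · -- code
    ext w
    rw [mem_code, mem_code]
    constructor
    · rintro ⟨a, ha, rfl⟩
      rw [h69_mem_map_iff ε hε, h69_dbl_mul] at ha
      exact ⟨ε * a, ha, h69_redV_mul ε hε a⟩
    · rintro ⟨a, ha, rfl⟩
      refine ⟨ε * a, ?_, h69_redV_mul ε hε a⟩
      rw [h69_mem_map_iff ε hε, h69_dbl_mul, h69_eps_cancel ε hε]
      exact ha

end Cfsg.Agent.Helper69.CW
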