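import Mathlib
import Cfsg.Prelude.Def_Transfer
import Cfsg.Agent.Lib.Helper24.CYCDefs

/-!
# CYC piece (GR0) for helper24's S4016 server: `j = 2` in Case II.
-/

set_option autoImplicit false

namespace Cfsg.Agent.Helper69.CYC

open Subgroup Cfsg.Agent.Helper24.CYC

universe u

variable {G : Type u} [Group G] [Finite G] {p : ℕ} [Fact p.Prime]

/-- upper bound: `|Ivs P| ≤ |N_G(P)| - |C_G(P)|` -/
theorem gr0_card_le (P : Sylow p G) :
    Nat.card (Ivs P) + Nat.card (CP P) ≤ Nat.card (NP P) := by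
  have hsub : Ivs P ⊆ ((NP P : Subgroup G) : Set G) \ ((CP P : Subgroup G) : Set G) :=
    fun s hs => ⟨hs.2.1, hs.2.2⟩
  have hCN : ((CP P : Subgroup G) : Set G) ⊆ ((NP P : Subgroup G) : Set G) :=
    Subgroup.centralizer_le_normalizer _
  have h1 : (Ivs P).ncard ≤ (((NP P : Subgroup G) : Set G) \ ((CP P : Subgroup G) : Set G)).ncard :=
    Set.ncard_le_ncard hsub
  have h2 := Set.ncard_sdiff_add_ncard_of_subset hCN
  have e1 : Nat.card (Ivs P) = (Ivs P).ncard := Nat.card_coe_set_eq _
  have e2 : Nat.card (CP P) = ((CP P : Subgroup G) : Set G).ncard := Nat.card_coe_set_eq _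
  have e3 : Nat.card (NP P) = ((NP P : Subgroup G) : Set G).ncard := Nat.card_coe_set_eq _
  rw [e1, e2, e3]
  omega

theorem caseII_j (hC : Core p G)
    (hII1 : ∀ P : Sylow p G, Nat.card (CP P) = 2 * Nat.card P ∧ Nat.card (NP P) = 4 * Nat.card P ∧ (Ivs P).Nonempty)
    (j : ℕ) (h6 : ∀ P : Sylow p G, Nat.card (Ivs P) = Nat.card P * j ∧
      ∀ s ∈ Ivs P, Nat.card {t : G // t ∈ Ivs P ∧ s * t = t * s} = j) : j = 2 := by
  have hp : p.Prime := Fact.out
  obtain ⟨P⟩ : Nonempty (Sylow p G) := inferInstance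
  obtain ⟨hcC, hcN, s, hs⟩ := hII1 P
  obtain ⟨h6a, h6b⟩ := h6 P
  have hn : 0 < Nat.card (P : Subgroup G) := Nat.card_pos
  -- upper bound
  have hle : j ≤ 2 := by
    have h := gr0_card_le P
    rw [h6a, hcC, hcN] at h
    have h' : Nat.card (P : Subgroup G) * j ≤ Nat.card (P : Subgroup G) * 2 := by omega
    exact Nat.le_of_mul_le_mul_left h' hn
  -- lower bound
  have hge : 2 ≤ j := by
    -- an involution `z` of `C_G(P)`
    haveI : Fact (Nat.Prime 2) := ⟨Nat.prime_two⟩
    obtain ⟨z, hz⟩ := exists_prime_orderOf_dvd_card' (G := ↥(CP P)) 2 (by rw [hcC]; exact Dvd.intro _ rfl)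
    have hzo : orderOf (z : G) = 2 := by rw [Subgroup.orderOf_coe]; exact hz
    have hz1 : (z : G) ≠ 1 := by
      intro h
      rw [h, orderOf_one] at hzo
      omega
    have hz2 : (z : G) * z = 1 := by
      have := pow_orderOf_eq_one (z : G)
      rwa [hzo, pow_two] at this
    have hzcop : (orderOf (z : G)).Coprime p := by
      rw [hzo]
      exact (Nat.coprime_primes Nat.prime_two hp).mpr (Ne.symm hC.c1.podd)
    -- a nontrivial element of `P`
    have hPne : (P : Subgroup G) ≠ ⊥ := P.ne_bot_of_dvd_card hC.c1.min.pdvd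
    obtain ⟨a', ha'⟩ := Subgroup.ne_bot_iff_exists_ne_one.mp hPne
    obtain ⟨a, haP, ha1⟩ : ∃ a : G, a ∈ (P : Subgroup G) ∧ a ≠ 1 :=
      ⟨a', a'.2, fun h => ha' (Subtype.ext h)⟩
    have haz : a * (z : G) = z * a := (Subgroup.mem_centralizer_iff.mp z.2 a haP)
    have hkey := hC.key P a z haP ha1 hz1 hzcop haz
    obtain ⟨hs2, hsN, hsC⟩ := hs
    have hsz : (z : G) * s = s * z := by
      have : s ∈ Subgroup.centralizer {(z : G)} := by rw [hkey]; exact hsN
      exact Subgroup.mem_centralizer_iff.mp this z (Set.mem_singleton _)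
    have hszI : s * (z : G) ∈ Ivs P := by
      refine ⟨?_, ?_, ?_⟩
      · calc s * z * (s * z) = s * (z * s) * z := by group
          _ = s * (s * z) * z := by rw [hsz]
          _ = (s * s) * (z * z) := by group
          _ = 1 := by rw [hs2, hz2, one_mul]
      · exact Subgroup.mul_mem _ hsN (Subgroup.centralizer_le_normalizer _ z.2)
      · intro h
        apply hsC
        have := Subgroup.mul_mem _ h (Subgroup.inv_mem _ z.2)
        rwa [mul_inv_cancel_right] at this
    have hcomm : s * (s * (z : G)) = s * z * s := by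
      calc s * (s * z) = s * (z * s) := by rw [hsz]
        _ = s * z * s := by group
    rw [← h6b s ⟨hs2, hsN, hsC⟩]
    have hnt : Nontrivial {t : G // t ∈ Ivs P ∧ s * t = t * s} :=
      ⟨⟨⟨s, ⟨hs2, hsN, hsC⟩, rfl⟩, ⟨s * z, hszI, hcomm⟩, by
        intro h
        have h' : s = s * (z : G) := congrArg Subtype.val h
        exact hz1 (by
          have : s * 1 = s * (z : G) := by rw [mul_one]; exact h'
          exact (mul_left_cancel this).symm)⟩⟩
    exact Finite.one_lt_card_iff_nontrivial.mpr hnt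
  omega

end Cfsg.Agent.Helper69.CYC
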