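import Mathlib
import Cfsg.Prelude.Def_Transfer
import Cfsg.Agent.Lib.Helper24.CYCDefs

/-!
# CYC piece (OB4) for helper24's S4016 server: the arithmetic finishing the odd case.
-/

set_option autoImplicit false

namespace Cfsg.Agent.Helper69.CYC

open Subgroup Cfsg.Agent.Helper24.CYC

universe u

variable {G : Type u} [Group G] [Finite G] {p : ℕ} [Fact p.Prime]

/-- pure arithmetic core of (OB4) -/
theorem ob4_arith {p n c N e m g : ℕ} (hp : p.Prime) (hp2 : p ≠ 2) (hn : 0 < n)
    (hc : c = n * m) (hm : 2 ≤ m) (hN : N = e * c) (he : e ∣ p - 1)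
    (hineq : p * c + n ≤ N + p * n) (hNg : N ∣ g) (hodd : Odd g) : False := by
  have hpodd : Odd p := hp.eq_two_or_odd'.resolve_left hp2
  have hp3 : 3 ≤ p := by
    have := hp.two_le
    omega
  obtain ⟨k, hk⟩ := he
  have hk0 : k ≠ 0 := by
    rintro rfl
    omega
  rcases Nat.lt_or_ge k 2 with hk2 | hk2
  · -- k = 1, e = p - 1 is even
    have hk1 : k = 1 := by omega
    rw [hk1, mul_one] at hk
    have h2e : 2 ∣ e := by
      obtain ⟨r, hr⟩ := hpodd
      exact ⟨r, by omega⟩
    have h2g : 2 ∣ g := (h2e.trans (Dvd.intro _ hN.symm)).trans hNg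
    exact (Nat.not_even_iff_odd.mpr hodd) (even_iff_two_dvd.mpr h2g)
  · -- k ≥ 2, p ≥ 2 e + 1
    have hpe : 2 * e + 1 ≤ p := by
      have : e * 2 ≤ e * k := Nat.mul_le_mul_left e hk2
      omega
    subst hc hN
    have h1 : n * (p * m + 1) ≤ n * (e * m + p) := by
      calc n * (p * m + 1) = p * (n * m) + n := by ring
        _ ≤ e * (n * m) + p * n := hineq
        _ = n * (e * m + p) := by ring
    have h2 : p * m + 1 ≤ e * m + p := Nat.le_of_mul_le_mul_left h1 hn
    obtain ⟨m', rfl⟩ : ∃ m', m = m' + 2 := ⟨m - 2, by omega⟩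
    obtain ⟨p', rfl⟩ : ∃ p', p = 2 * e + 1 + p' := ⟨p - (2 * e + 1), by omega⟩
    nlinarith [Nat.zero_le (e * m'), Nat.zero_le (p' * m')]

theorem odd_arith (hC : Core p G) (hodd : Odd (Nat.card G)) (P : Sylow p G) (t : G) (ht : t ∈ CP P) (ht1 : t ≠ 1)
    (htp : (orderOf t).Coprime p)
    (hineq : p * Nat.card (CP P) + Nat.card P ≤ Nat.card (NP P) + p * Nat.card P) : False := by
  have hp : p.Prime := Fact.out
  obtain ⟨e, he, hN⟩ := hC.ediv P
  -- `P ≤ C_G(P)`
  have hcyc := hC.c1.min.cyc P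
  have hle : (P : Subgroup G) ≤ CP P := by
    intro a ha
    rw [Subgroup.mem_centralizer_iff]
    intro h hh
    have h1 := (IsCyclic.isMulCommutative (α := ↥(P : Subgroup G))).is_comm.comm ⟨h, hh⟩ ⟨a, ha⟩
    exact congrArg Subtype.val h1
  obtain ⟨m, hm⟩ := Subgroup.card_dvd_of_le hle
  have hn : 0 < Nat.card (P : Subgroup G) := Nat.card_pos
  have hcpos : 0 < Nat.card (CP P) := Nat.card_pos
  have htP : t ∉ (P : Subgroup G) := by
    intro htP
    obtain ⟨k, hk⟩ := P.2 ⟨t, htP⟩
    have hk' : t ^ (p ^ k) = 1 := by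
      have := congrArg Subtype.val hk
      simpa using this
    have hdvd : orderOf t ∣ p ^ k := orderOf_dvd_of_pow_eq_one hk'
    have hcop : (orderOf t).Coprime (p ^ k) := Nat.Coprime.pow_right k htp
    have h1 : orderOf t = 1 := Nat.Coprime.eq_one_of_dvd hcop hdvd
    exact ht1 (orderOf_eq_one_iff.mp h1)
  have hm2 : 2 ≤ m := by
    rcases Nat.lt_or_ge m 2 with h | h
    · exfalso
      have hm1 : m = 1 := by
        rcases Nat.eq_zero_or_pos m with h0 | h0
        · rw [h0, mul_zero] at hm; omega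
        · omega
      rw [hm1, mul_one] at hm
      have heq : (P : Subgroup G) = CP P := Subgroup.eq_of_le_of_card_ge hle (le_of_eq hm)
      exact htP (heq ▸ ht)
    · exact h
  exact ob4_arith hp hC.c1.podd hn hm hm2 hN he hineq (Subgroup.card_subgroup_dvd_card _) hodd

end Cfsg.Agent.Helper69.CYC
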