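import Mathlib
import Cfsg.Agent.Lib.Helper2.Tate
import Cfsg.Agent.Lib.Helper2.PGroup
import Cfsg.Agent.Lib.Helper45.CNSolv

/-!
# Camina pairs (helper69)

Tools for Camina's trichotomy: if every coset `gN` (`g ∉ N`) lies in one conjugacy class, then
`G` is Frobenius with kernel `N`, or `N` is a `p`-group, or `G/N` is a `p`-group.
-/

set_option autoImplicit false
set_option linter.unusedSectionVars false
set_option linter.unusedVariables false

namespace Cfsg.Agent.Helper69.Camina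

open Subgroup
open scoped commutatorElement

universe u

variable {G : Type u} [Group G]

/-- The Camina condition on a subgroup. -/
def IsCam (N : Subgroup G) : Prop :=
  ∀ g : G, g ∉ N → ∀ n ∈ N, ∃ x : G, x * g * x⁻¹ = g * n

theorem IsCam.orderOf_mul {N : Subgroup G} (hc : IsCam N) {g n : G} (hg : g ∉ N) (hn : n ∈ N) :
    orderOf (g * n) = orderOf g := by
  obtain ⟨x, hx⟩ := hc g hg n hn
  rw [← hx]
  have := (MulAut.conj x).orderOf_eq g
  rwa [MulAut.conj_apply] at this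

theorem IsCam.orderOf_of_commute [Finite G] {N : Subgroup G} (hc : IsCam N) {p : ℕ} (hp : p.Prime)
    {g n : G} (hg : g ∉ N) {a : ℕ} (hga : orderOf g = p ^ a) (hn : n ∈ N) (hcomm : Commute g n) :
    ∃ j, orderOf n = p ^ j := by
  have hn0 : orderOf n ≠ 0 := (orderOf_pos n).ne'
  refine ⟨_, Nat.eq_prime_pow_of_unique_prime_dvd hn0 ?_⟩
  intro r hr hrd
  by_contra hrp
  have hn'o : orderOf (n ^ (orderOf n / r)) = r := orderOf_pow_orderOf_div hn0 hrd
  have hn'N : n ^ (orderOf n / r) ∈ N := N.pow_mem hn _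
  have hc' : Commute g (n ^ (orderOf n / r)) := hcomm.pow_right _
  have hcop : (orderOf g).Coprime (orderOf (n ^ (orderOf n / r))) := by
    rw [hga, hn'o]
    exact Nat.Coprime.pow_left _ ((Nat.coprime_primes hp hr).mpr (Ne.symm hrp))
  have h1 := hc'.orderOf_mul_eq_mul_orderOf_of_coprime hcop
  rw [hc.orderOf_mul hg hn'N, hn'o] at h1
  have hpos : 0 < orderOf g := orderOf_pos g
  have : r = 1 := by nlinarith
  exact hr.one_lt.ne' this

theorem mk_mem_map_iff {N K : Subgroup G} [K.Normal] (hKN : K ≤ N) (y : G) :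
    QuotientGroup.mk' K y ∈ N.map (QuotientGroup.mk' K) ↔ y ∈ N := by
  constructor
  · rintro ⟨n, hn, hny⟩
    have h1 : n⁻¹ * y ∈ K := by
      rw [← QuotientGroup.eq]
      exact hny
    have h2 := N.mul_mem hn (hKN h1)
    simpa using h2
  · exact fun h => Subgroup.mem_map_of_mem _ h

theorem IsCam.quot {N : Subgroup G} (hc : IsCam N) (K : Subgroup G) [K.Normal] (hKN : K ≤ N) :
    IsCam (N.map (QuotientGroup.mk' K)) := by
  intro gq hgq nq hnq
  obtain ⟨g, rfl⟩ := QuotientGroup.mk'_surjective K gq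
  obtain ⟨n, hn, rfl⟩ := hnq
  have hg : g ∉ N := fun h => hgq (Subgroup.mem_map_of_mem _ h)
  obtain ⟨x, hx⟩ := hc g hg n hn
  refine ⟨QuotientGroup.mk' K x, ?_⟩
  rw [← map_inv, ← map_mul, ← map_mul, ← map_mul, hx]

/-- Orbit-stabilizer for conjugation by a subgroup. -/
theorem card_conj_mul_card_centralizer [Finite G] (Q : Subgroup G) (g : G) :
    Nat.card {y : G // ∃ x ∈ Q, x * g * x⁻¹ = y} *
      Nat.card ↥(Q ⊓ Subgroup.centralizer ({g} : Set G)) = Nat.card Q := by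
  classical
  set C : Subgroup Q := (Subgroup.centralizer ({g} : Set G)).subgroupOf Q with hC
  have hmemC : ∀ c : Q, c ∈ C ↔ (c : G) * g = g * c := by
    intro c
    rw [hC, Subgroup.mem_subgroupOf, Subgroup.mem_centralizer_singleton_iff]
  have key : ∀ a b : Q, (a : G) * g * (a : G)⁻¹ = (b : G) * g * (b : G)⁻¹ ↔ a⁻¹ * b ∈ C := by
    intro a b
    rw [hmemC]
    push_cast
    constructor
    · intro h
      have : g * ((a : G)⁻¹ * b) = (a : G)⁻¹ * ((a : G) * g * (a : G)⁻¹) * b := by group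
      rw [this, h]; group
    · intro h
      have : (b : G) * g * (b : G)⁻¹ = a * ((a : G)⁻¹ * b * g) * (b : G)⁻¹ := by group
      rw [this, h]; group
  let f : Q ⧸ C → {y : G // ∃ x ∈ Q, x * g * x⁻¹ = y} :=
    Quotient.lift (fun x : Q =>
      (⟨(x : G) * g * (x : G)⁻¹, x, x.2, rfl⟩ : {y : G // ∃ x ∈ Q, x * g * x⁻¹ = y})) (by
      intro a b hab
      have hab' : a⁻¹ * b ∈ C := QuotientGroup.leftRel_apply.mp hab
      apply Subtype.ext
      exact (key a b).mpr hab')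
  have hinj : Function.Injective f := by
    intro u v
    refine Quotient.inductionOn₂ u v ?_
    intro a b hab
    have h1 : (a : G) * g * (a : G)⁻¹ = (b : G) * g * (b : G)⁻¹ := congrArg Subtype.val hab
    exact Quotient.sound (QuotientGroup.leftRel_apply.mpr ((key a b).mp h1))
  have hsurj : Function.Surjective f := by
    rintro ⟨y, x, hx, rfl⟩
    exact ⟨Quotient.mk _ ⟨x, hx⟩, rfl⟩
  have h1 : Nat.card Q = Nat.card (Q ⧸ C) * Nat.card C :=
    Subgroup.card_eq_card_quotient_mul_card_subgroup C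
  have h2 : Nat.card (Q ⧸ C) = Nat.card {y : G // ∃ x ∈ Q, x * g * x⁻¹ = y} :=
    Nat.card_congr (Equiv.ofBijective f ⟨hinj, hsurj⟩)
  have h3 : Nat.card C = Nat.card ↥(Q ⊓ Subgroup.centralizer ({g} : Set G)) := by
    rw [hC, ← Subgroup.inf_subgroupOf_left]
    exact Nat.card_congr (Subgroup.subgroupOfEquivOfLe inf_le_left).toEquiv
  rw [h1, h2, h3]

/-- A nontrivial normal subgroup of a finite nilpotent group contains a nontrivial central
element. -/
theorem exists_central_of_normal {P : Type*} [Group P] [Finite P] [Group.IsNilpotent P] :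
    ∀ (n : ℕ) (A : Subgroup P), A.Normal → Nat.card A = n → A ≠ ⊥ →
      ∃ z ∈ A, z ≠ 1 ∧ z ∈ Subgroup.center P := by
  intro n
  induction n using Nat.strong_induction_on with
  | _ n ih =>
  intro A hA hcard hne
  haveI := hA
  have hlt : ⁅A, (⊤ : Subgroup P)⁆ < A := Cfsg.Agent.Helper2.commutator_top_lt_of_nilpotent A hne
  by_cases hb : ⁅A, (⊤ : Subgroup P)⁆ = ⊥
  · obtain ⟨z, hz, hz1⟩ := (Subgroup.bot_or_exists_ne_one A).resolve_left hne
    refine ⟨z, hz, hz1, ?_⟩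
    rw [Subgroup.mem_center_iff]
    intro w
    have h1 : ⁅z, w⁆ ∈ ⁅A, (⊤ : Subgroup P)⁆ := Subgroup.commutator_mem_commutator hz (Subgroup.mem_top w)
    rw [hb, Subgroup.mem_bot, commutatorElement_eq_one_iff_mul_comm] at h1
    exact h1.symm
  · have hn : (⁅A, (⊤ : Subgroup P)⁆).Normal := Subgroup.commutator_normal A ⊤
    have hc : Nat.card ↥⁅A, (⊤ : Subgroup P)⁆ < n := by
      rw [← hcard]
      refine lt_of_le_of_ne (Subgroup.card_le_of_le hlt.le) ?_
      intro he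
      exact hlt.ne (Subgroup.eq_of_le_of_card_ge hlt.le he.ge)
    obtain ⟨z, hz, hz1, hzc⟩ := ih _ hc _ hn rfl hb
    exact ⟨z, hlt.le hz, hz1, hzc⟩

/-- In a finite `p`-group `P` with a nontrivial normal subgroup `A` such that `P/A` embeds in a
cyclic group, no coset `gA` can be a single conjugacy class. -/
theorem not_cyclic_quot {P : Type*} [Group P] [Finite P] {p : ℕ} [Fact p.Prime] (hP : IsPGroup p P)
    (A : Subgroup P) [A.Normal] (hA : A ≠ ⊥) (g : P)
    (hconj : ∀ a ∈ A, ∃ x : P, x * g * x⁻¹ = g * a) {B : Type*} [Group B] [IsCyclic B]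
    (φ : P →* B) (hker : φ.ker = A) : False := by
  haveI : Group.IsNilpotent P := hP.isNilpotent
  have hlt : ⁅A, (⊤ : Subgroup P)⁆ < A := Cfsg.Agent.Helper2.commutator_top_lt_of_nilpotent A hA
  haveI hn : (⁅A, (⊤ : Subgroup P)⁆).Normal := Subgroup.commutator_normal A ⊤
  set A₁ : Subgroup P := ⁅A, (⊤ : Subgroup P)⁆ with hA₁
  let ψ : P ⧸ A₁ →* B := QuotientGroup.lift A₁ φ (by
    intro a ha
    have : a ∈ φ.ker := by rw [hker]; exact hlt.le ha
    exact this)
  have hψker : ψ.ker ≤ Subgroup.center (P ⧸ A₁) := by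
    intro q hq
    obtain ⟨y, rfl⟩ := QuotientGroup.mk_surjective q
    have hyA : y ∈ A := by
      rw [← hker]
      exact hq
    rw [Subgroup.mem_center_iff]
    intro w
    obtain ⟨z, rfl⟩ := QuotientGroup.mk_surjective w
    have h1 : ⁅y, z⁆ ∈ A₁ := Subgroup.commutator_mem_commutator hyA (Subgroup.mem_top z)
    rw [← QuotientGroup.mk_mul, ← QuotientGroup.mk_mul, QuotientGroup.eq]
    have : (z * y)⁻¹ * (y * z) = z⁻¹ * (y⁻¹ * ⁅y, z⁆ * y) * z := by
      rw [commutatorElement_def]; group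
    rw [this]
    have h2 : y⁻¹ * ⁅y, z⁆ * y ∈ A₁ := by
      have := hn.conj_mem _ h1 y⁻¹
      simpa using this
    have h3 := hn.conj_mem _ h2 z⁻¹
    simpa using h3
  have hcomm := commutative_of_cyclic_center_quotient ψ hψker
  apply hlt.ne
  apply le_antisymm hlt.le
  intro a ha
  obtain ⟨x, hx⟩ := hconj a ha
  have h1 : (QuotientGroup.mk (x * g * x⁻¹) : P ⧸ A₁) = QuotientGroup.mk g := by
    rw [QuotientGroup.mk_mul, QuotientGroup.mk_mul, hcomm, QuotientGroup.mk_inv]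
    simp
  rw [hx, QuotientGroup.mk_mul] at h1
  have h2 : (QuotientGroup.mk a : P ⧸ A₁) = 1 := by
    have := mul_left_cancel (a := (QuotientGroup.mk g : P ⧸ A₁)) (b := QuotientGroup.mk a) (c := 1)
      (by rw [h1, mul_one])
    exact this
  exact (QuotientGroup.eq_one_iff a).mp h2

/-- A central element of a generalized quaternion group `Q_{4k}`, `k ≥ 2`, squares to one. -/
theorem quat_central_sq {k : ℕ} (hk : 2 ≤ k) (z : QuaternionGroup k)
    (hz : ∀ w : QuaternionGroup k, z * w = w * z) : z * z = 1 := by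
  rcases z with i | i
  · have h := hz (QuaternionGroup.xa 0)
    rw [QuaternionGroup.a_mul_xa, QuaternionGroup.xa_mul_a] at h
    have h2 : (0 : ZMod (2 * k)) - i = 0 + i := QuaternionGroup.xa.inj h
    rw [QuaternionGroup.a_mul_a, QuaternionGroup.one_def]
    congr 1
    have : i + i = (0 + i) - ((0 : ZMod (2 * k)) - i) := by ring
    rw [this, h2]; ring
  · exfalso
    have h := hz (QuaternionGroup.a 1)
    rw [QuaternionGroup.xa_mul_a, QuaternionGroup.a_mul_xa] at h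
    have h2 : i + 1 = i - 1 := QuaternionGroup.xa.inj h
    have h3 : ((2 : ℕ) : ZMod (2 * k)) = 0 := by
      have : (2 : ZMod (2 * k)) = (i + 1) - (i - 1) := by ring
      push_cast
      rw [this, h2]; ring
    rw [ZMod.natCast_eq_zero_iff] at h3
    have := Nat.le_of_dvd (by norm_num) h3
    omega

theorem commutator_mem_map_frattini' [Finite G] {p : ℕ} [Fact p.Prime] (P : Sylow p G) {a b : G}
    (ha : a ∈ (P : Subgroup G)) (hb : b ∈ (P : Subgroup G)) :
    a * b * a⁻¹ * b⁻¹ ∈ (frattini P).map (P : Subgroup G).subtype := by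
  refine ⟨⁅(⟨a, ha⟩ : P), ⟨b, hb⟩⁆,
    Cfsg.Agent.Helper2.commutatorElement_mem_frattini P.isPGroup' _ _, ?_⟩
  rw [commutatorElement_def]
  rfl

/-- Extraction of a `p`-element outside `N` with a nontrivial fixed point in `N`. -/
theorem IsCam.exists_pelem [Finite G] {N : Subgroup G} [N.Normal] (hc : IsCam N) {g x : G}
    (hg : g ∉ N) (hxN : x ∈ N) (hx1 : x ≠ 1) (hcomm : Commute g x) :
    ∃ p : ℕ, p.Prime ∧ ∃ g' : G, g' ∉ N ∧ (∃ a, orderOf g' = p ^ a) ∧
      ∃ x' ∈ N, x' ≠ 1 ∧ Commute g' x' := by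
  have hx0 : orderOf x ≠ 0 := (orderOf_pos x).ne'
  have hx1' : orderOf x ≠ 1 := by rwa [Ne, orderOf_eq_one_iff]
  obtain ⟨p, hp, hpd⟩ := Nat.exists_prime_and_dvd hx1'
  have hx'o : orderOf (x ^ (orderOf x / p)) = p := orderOf_pow_orderOf_div hx0 hpd
  have hx'N : x ^ (orderOf x / p) ∈ N := N.pow_mem hxN _
  have hx'1 : x ^ (orderOf x / p) ≠ 1 := by
    intro h
    rw [h, orderOf_one] at hx'o
    exact hp.one_lt.ne hx'o
  have hc' : Commute g (x ^ (orderOf x / p)) := hcomm.pow_right _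
  have hg0 : orderOf g ≠ 0 := (orderOf_pos g).ne'
  obtain ⟨a, ha⟩ : ∃ a, a = (orderOf g).factorization p := ⟨_, rfl⟩
  obtain ⟨m, hm⟩ : ∃ m, m = orderOf g / p ^ a := ⟨_, rfl⟩
  have hmul : p ^ a * m = orderOf g := by
    rw [hm, ha]; exact Nat.ordProj_mul_ordCompl_eq_self _ _
  have hmcop : m.Coprime p := by
    rw [hm, ha]; exact (Nat.coprime_ordCompl hp hg0).symm
  have hm0 : m ≠ 0 := by
    rintro rfl
    rw [mul_zero] at hmul; exact hg0 hmul.symm
  have hpa0 : p ^ a ≠ 0 := pow_ne_zero _ hp.ne_zero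
  have hho : orderOf (g ^ (p ^ a)) = m := by
    rw [orderOf_pow_of_dvd hpa0 (Dvd.intro _ hmul), ← hmul]
    exact Nat.mul_div_cancel_left m (Nat.pos_of_ne_zero hpa0)
  have hhN : g ^ (p ^ a) ∈ N := by
    by_contra hh
    have hch : Commute (g ^ (p ^ a)) (x ^ (orderOf x / p)) := hc'.pow_left _
    have hcop : (orderOf (g ^ (p ^ a))).Coprime (orderOf (x ^ (orderOf x / p))) := by
      rw [hho, hx'o]; exact hmcop
    have h1 := hch.orderOf_mul_eq_mul_orderOf_of_coprime hcop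
    rw [hc.orderOf_mul hh hx'N, hx'o, hho] at h1
    have hmpos : 0 < m := Nat.pos_of_ne_zero hm0
    nlinarith [hp.two_le]
  refine ⟨p, hp, g ^ m, ?_, ⟨a, ?_⟩, x ^ (orderOf x / p), hx'N, hx'1, hc'.pow_left _⟩
  · intro hgm
    apply hg
    have h1 : (QuotientGroup.mk g : G ⧸ N) ^ m = 1 := by
      rw [← QuotientGroup.mk_pow]; exact (QuotientGroup.eq_one_iff _).mpr hgm
    have h2 : (QuotientGroup.mk g : G ⧸ N) ^ (p ^ a) = 1 := by
      rw [← QuotientGroup.mk_pow]; exact (QuotientGroup.eq_one_iff _).mpr hhN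
    have h3 : orderOf (QuotientGroup.mk g : G ⧸ N) ∣ Nat.gcd m (p ^ a) :=
      Nat.dvd_gcd (orderOf_dvd_of_pow_eq_one h1) (orderOf_dvd_of_pow_eq_one h2)
    have h4 : Nat.gcd m (p ^ a) = 1 := Nat.Coprime.pow_right a hmcop
    rw [h4, Nat.dvd_one, orderOf_eq_one_iff] at h3
    exact (QuotientGroup.eq_one_iff g).mp h3
  · rw [orderOf_pow_of_dvd hm0 (Dvd.intro_left _ hmul), ← hmul]
    exact Nat.mul_div_cancel _ (Nat.pos_of_ne_zero hm0)

/-- The normal `q`-complement of `N`, as a normal subgroup of `G`. -/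
theorem exists_normal_compl [Finite G] {N : Subgroup G} [hNn : N.Normal] {q : ℕ} [hq : Fact q.Prime]
    (h : Cfsg.HasNormalPComplement q ↥N) :
    ∃ K : Subgroup G, K.Normal ∧ K ≤ N ∧ (∀ n ∈ N, (orderOf n).Coprime q → n ∈ K) ∧
      (∃ k : ℕ, ∀ n ∈ N, n ^ (q ^ k) ∈ K) ∧ (Nat.card K).Coprime q := by
  obtain ⟨Q, K₀, hK₀n, hK₀c⟩ := h
  haveI := hK₀n
  have hK₀card : (Nat.card K₀).Coprime q := by
    rw [← hK₀c.index_eq_card]
    exact ((Nat.Prime.coprime_iff_not_dvd hq.out).mpr Q.not_dvd_index).symm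
  obtain ⟨k, hk⟩ := IsPGroup.iff_card.mp Q.isPGroup'
  have hK₀idx : K₀.index = q ^ k := by rw [hK₀c.symm.index_eq_card, hk]
  have hquot : ∀ n : N, n ^ (q ^ k) ∈ K₀ := by
    intro n
    have hc : Nat.card (N ⧸ K₀) = q ^ k := by rw [← Subgroup.index_eq_card]; exact hK₀idx
    have h1 : (QuotientGroup.mk n : N ⧸ K₀) ^ (q ^ k) = 1 := by
      rw [← hc]; exact pow_card_eq_one'
    rw [← QuotientGroup.mk_pow] at h1
    exact (QuotientGroup.eq_one_iff _).mp h1
  have hmem : ∀ n : N, n ∈ K₀ ↔ (orderOf n).Coprime q := by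
    intro n
    constructor
    · intro hn
      have h1 : orderOf n ∣ Nat.card K₀ := by
        have := orderOf_dvd_natCard (⟨n, hn⟩ : K₀)
        rwa [Subgroup.orderOf_mk] at this
      exact Nat.Coprime.coprime_dvd_left h1 hK₀card
    · intro hn
      have h1 : (QuotientGroup.mk n : N ⧸ K₀) ^ (q ^ k) = 1 := by
        rw [← QuotientGroup.mk_pow]; exact (QuotientGroup.eq_one_iff _).mpr (hquot n)
      have h2 : (QuotientGroup.mk n : N ⧸ K₀) ^ (orderOf n) = 1 := by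
        rw [← QuotientGroup.mk_pow, pow_orderOf_eq_one]; rfl
      have h3 : orderOf (QuotientGroup.mk n : N ⧸ K₀) ∣ Nat.gcd (orderOf n) (q ^ k) :=
        Nat.dvd_gcd (orderOf_dvd_of_pow_eq_one h2) (orderOf_dvd_of_pow_eq_one h1)
      have h4 : Nat.gcd (orderOf n) (q ^ k) = 1 := Nat.Coprime.pow_right k hn
      rw [h4, Nat.dvd_one, orderOf_eq_one_iff] at h3
      exact (QuotientGroup.eq_one_iff n).mp h3
  have hKnorm : (K₀.map N.subtype).Normal := by
    constructor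
    intro y hy g
    obtain ⟨n, hn, rfl⟩ := hy
    have hN' : g * (n : G) * g⁻¹ ∈ N := hNn.conj_mem _ n.2 g
    refine ⟨⟨_, hN'⟩, ?_, rfl⟩
    rw [SetLike.mem_coe, hmem]
    rw [SetLike.mem_coe, hmem] at hn
    have e : orderOf (⟨g * (n : G) * g⁻¹, hN'⟩ : N) = orderOf n := by
      rw [Subgroup.orderOf_mk, ← Subgroup.orderOf_coe n]
      have := (MulAut.conj g).orderOf_eq (n : G)
      rwa [MulAut.conj_apply] at this
    rw [e]; exact hn
  refine ⟨K₀.map N.subtype, hKnorm, Subgroup.map_subtype_le K₀, ?_, ?_, ?_⟩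
  · intro n hnN hcop
    refine ⟨⟨n, hnN⟩, ?_, rfl⟩
    rw [SetLike.mem_coe, hmem, Subgroup.orderOf_mk]; exact hcop
  · refine ⟨k, fun n hn => ?_⟩
    exact ⟨⟨n, hn⟩ ^ (q ^ k), hquot ⟨n, hn⟩, rfl⟩
  · rw [Subgroup.card_map_of_injective N.subtype_injective]; exact hK₀card

theorem coprime_card_map_of_pow_mem [Finite G] {N K : Subgroup G} [K.Normal] {p : ℕ}
    (hp : p.Prime) {e : ℕ} (he : e.Coprime p) (h : ∀ n ∈ N, n ^ e ∈ K) :
    (Nat.card ↥(N.map (QuotientGroup.mk' K))).Coprime p := by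
  rw [Nat.coprime_comm, Nat.Prime.coprime_iff_not_dvd hp]
  intro hdvd
  haveI := Fact.mk hp
  obtain ⟨v, hv⟩ := exists_prime_orderOf_dvd_card' p hdvd
  obtain ⟨v, n, hn, rfl⟩ := v
  have h1 : (⟨QuotientGroup.mk' K n, ⟨n, hn, rfl⟩⟩ : ↥(N.map (QuotientGroup.mk' K))) ^ e = 1 := by
    apply Subtype.ext
    show (QuotientGroup.mk' K n) ^ e = 1
    rw [← map_pow, QuotientGroup.mk'_apply, QuotientGroup.eq_one_iff]
    exact h n hn
  have h2 := orderOf_dvd_of_pow_eq_one h1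
  rw [hv] at h2
  exact (Nat.Prime.coprime_iff_not_dvd hp).mp he.symm h2

theorem orderOf_of_mem_pgroup {p : ℕ} (hp : p.Prime) {P : Subgroup G} (hP : IsPGroup p P) {y : G}
    (hy : y ∈ P) : ∃ j, orderOf y = p ^ j := by
  obtain ⟨k, hk⟩ := hP ⟨y, hy⟩
  have h1 : y ^ (p ^ k) = 1 := by
    have := congrArg Subtype.val hk
    simpa using this
  obtain ⟨j, _, hj⟩ := (Nat.dvd_prime_pow hp).mp (orderOf_dvd_of_pow_eq_one h1)
  exact ⟨j, hj⟩

/-- A noncyclic generalized quaternion group has no central element of order `4`. -/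
theorem no_central_order_four {B : Type*} [Group B] (hnc : ¬ IsCyclic B) {n : ℕ}
    (e : B ≃* QuaternionGroup (2 ^ n)) (z : B) (hz : ∀ w : B, z * w = w * z)
    (ho : orderOf z = 4) : False := by
  have hn : n ≠ 0 := by
    rintro rfl
    apply hnc
    rw [pow_zero] at e
    haveI := QuaternionGroup.quaternionGroup_one_isCyclic
    exact isCyclic_of_surjective e.symm e.symm.surjective
  have h2 : 2 ≤ 2 ^ n := by
    calc 2 = 2 ^ 1 := (pow_one 2).symm
      _ ≤ 2 ^ n := Nat.pow_le_pow_right (by norm_num) (Nat.one_le_iff_ne_zero.mpr hn)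
  have h3 := quat_central_sq h2 (e z) (fun w => by
    obtain ⟨w', rfl⟩ := e.surjective w
    rw [← map_mul, ← map_mul, hz])
  rw [← map_mul] at h3
  have h4 : z * z = 1 := e.injective (by rw [h3, map_one])
  have h5 : orderOf z ∣ 2 := orderOf_dvd_of_pow_eq_one (by rw [pow_two, h4])
  rw [ho] at h5
  omega

/-- For nilpotent `N ⊴ G`, the Sylow `p`-subgroup of `N` as a normal subgroup of `G`. -/
theorem exists_normal_sylow_image [Finite G] {N : Subgroup G} [hNn : N.Normal]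
    (hnil : Group.IsNilpotent N) (p : ℕ) [hp : Fact p.Prime] :
    ∃ K : Subgroup G, K.Normal ∧ K ≤ N ∧ IsPGroup p K ∧
      (∀ n ∈ N, (∃ j, orderOf n = p ^ j) → n ∈ K) ∧ ∃ e : ℕ, e.Coprime p ∧ ∀ n ∈ N, n ^ e ∈ K := by
  obtain ⟨P₀⟩ : Nonempty (Sylow p N) := inferInstance
  haveI hP₀n : (P₀ : Subgroup N).Normal := inferInstance
  haveI hP₀c : (P₀ : Subgroup N).Characteristic := Sylow.characteristic_of_normal P₀ hP₀n
  refine ⟨(P₀ : Subgroup N).map N.subtype, inferInstance, Subgroup.map_subtype_le _,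
    P₀.isPGroup'.map N.subtype, ?_, (P₀ : Subgroup N).index, ?_, ?_⟩
  · rintro n hn ⟨j, hj⟩
    have hzp : IsPGroup p (Subgroup.zpowers (⟨n, hn⟩ : N)) := by
      apply IsPGroup.of_card (n := j)
      rw [Nat.card_zpowers, Subgroup.orderOf_mk, hj]
    obtain ⟨Q, hQ⟩ := hzp.exists_le_sylow
    haveI := Sylow.unique_of_normal P₀ hP₀n
    have hQP : Q = P₀ := Subsingleton.elim Q P₀
    exact ⟨⟨n, hn⟩, hQP ▸ hQ (Subgroup.mem_zpowers _), rfl⟩
  · exact ((Nat.Prime.coprime_iff_not_dvd hp.out).mpr P₀.not_dvd_index).symm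
  · intro n hn
    exact ⟨⟨n, hn⟩ ^ (P₀ : Subgroup N).index, Subgroup.pow_index_mem _ _, rfl⟩

/-- The Tate step: a `p`-element `g ∉ N` with a nontrivial fixed point in `N` forces `N` to have a
normal `p`-complement, and produces a `p`-subgroup `P₁` in which `g (N ∩ P₁)` is a single class. -/
theorem IsCam.tate_step [Finite G] {N : Subgroup G} [hNn : N.Normal] (hc : IsCam N) {p : ℕ}
    [hp : Fact p.Prime] {g : G} (hg : g ∉ N) {a : ℕ} (hga : orderOf g = p ^ a) {x : G}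
    (hxN : x ∈ N) (hx1 : x ≠ 1) (hcomm : Commute g x) :
    Cfsg.HasNormalPComplement p ↥N ∧
    ∃ P₁ : Subgroup G, IsPGroup p P₁ ∧ g ∈ P₁ ∧ (∀ y ∈ P₁, y * g * y⁻¹ * g⁻¹ ∈ N) ∧
      N ⊓ P₁ ≠ ⊥ ∧ ∀ a ∈ N ⊓ P₁, ∃ y ∈ P₁, y * g * y⁻¹ = g * a := by
  classical
  obtain ⟨T, hT⟩ : ∃ T : Subgroup G, T = (Subgroup.centralizer
    ({(QuotientGroup.mk' N g)} : Set (G ⧸ N))).comap (QuotientGroup.mk' N) := ⟨_, rfl⟩
  have hmemT : ∀ y : G, y ∈ T ↔ y * g * y⁻¹ * g⁻¹ ∈ N := by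
    intro y
    rw [hT, Subgroup.mem_comap, Subgroup.mem_centralizer_singleton_iff, ← map_mul, ← map_mul,
      QuotientGroup.mk'_apply, QuotientGroup.mk'_apply, eq_comm, QuotientGroup.eq]
    constructor
    · intro h
      have := hNn.conj_mem _ h (g * y)
      have e : g * y * ((g * y)⁻¹ * (y * g)) * (g * y)⁻¹ = y * g * y⁻¹ * g⁻¹ := by group
      rwa [e] at this
    · intro h
      have := hNn.conj_mem _ h (g * y)⁻¹
      have e : (g * y)⁻¹ * (y * g * y⁻¹ * g⁻¹) * (g * y)⁻¹⁻¹ = (g * y)⁻¹ * (y * g) := by group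
      rwa [e] at this
  have hNT : N ≤ T := by
    intro n hn
    rw [hmemT]
    have h1 := hNn.conj_mem _ (N.inv_mem hn) g
    have := N.mul_mem hn h1
    have e : n * (g * n⁻¹ * g⁻¹) = n * g * n⁻¹ * g⁻¹ := by group
    rwa [e] at this
  have hgT : g ∈ T := by
    rw [hmemT]
    have e : g * g * g⁻¹ * g⁻¹ = 1 := by group
    rw [e]; exact N.one_mem
  have hCT : Subgroup.centralizer ({g} : Set G) ≤ T := by
    intro y hy
    rw [Subgroup.mem_centralizer_singleton_iff] at hy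
    rw [hmemT, hy]
    have e : g * y * y⁻¹ * g⁻¹ = 1 := by group
    rw [e]; exact N.one_mem
  obtain ⟨j, hj⟩ := hc.orderOf_of_commute hp.out hg hga hxN hcomm
  have hpN : p ∣ Nat.card N := by
    have hj0 : j ≠ 0 := by
      rintro rfl
      rw [pow_zero, orderOf_eq_one_iff] at hj; exact hx1 hj
    have h1 : orderOf x ∣ Nat.card N := by
      have := orderOf_dvd_natCard (⟨x, hxN⟩ : N)
      rwa [Subgroup.orderOf_mk] at this
    rw [hj] at h1
    exact (dvd_pow_self p hj0).trans h1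
  have hcardT : Nat.card N * Nat.card (Subgroup.centralizer ({g} : Set G)) = Nat.card T := by
    have h1 := card_conj_mul_card_centralizer T g
    rw [inf_eq_right.mpr hCT] at h1
    rw [← h1]
    congr 1
    refine Nat.card_congr ⟨fun n => ⟨g * n, ?_⟩, fun y => ⟨g⁻¹ * y, ?_⟩, ?_, ?_⟩
    · obtain ⟨x, hx⟩ := hc g hg n n.2
      refine ⟨x, (hmemT x).mpr ?_, hx⟩
      rw [hx]
      have := hNn.conj_mem _ n.2 g
      have e : g * (n : G) * g⁻¹ = g * n * g⁻¹ := rfl
      exact this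
    · obtain ⟨x, hxT, hxy⟩ := y.2
      rw [← hxy]
      have h2 := (hmemT x).mp hxT
      have := hNn.conj_mem _ h2 g⁻¹
      have e : g⁻¹ * (x * g * x⁻¹ * g⁻¹) * g⁻¹⁻¹ = g⁻¹ * (x * g * x⁻¹) := by group
      rwa [e] at this
    · intro n
      apply Subtype.ext
      show g⁻¹ * (g * (n : G)) = n
      group
    · intro y
      apply Subtype.ext
      show g * (g⁻¹ * (y : G)) = y
      group
  have hzp : IsPGroup p (Subgroup.zpowers (⟨g, hgT⟩ : T)) := by
    apply IsPGroup.of_card (n := a)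
    rw [Nat.card_zpowers, Subgroup.orderOf_mk, hga]
  obtain ⟨P, hP⟩ := hzp.exists_le_sylow
  have hgP : (⟨g, hgT⟩ : T) ∈ (P : Subgroup T) := hP (Subgroup.mem_zpowers _)
  obtain ⟨P₁, hP₁⟩ : ∃ P₁ : Subgroup G, P₁ = (P : Subgroup T).map T.subtype := ⟨_, rfl⟩
  have hP₁p : IsPGroup p P₁ := hP₁ ▸ P.isPGroup'.map T.subtype
  have hP₁T : P₁ ≤ T := hP₁ ▸ Subgroup.map_subtype_le _
  have hgP₁ : g ∈ P₁ := by rw [hP₁]; exact ⟨⟨g, hgT⟩, hgP, rfl⟩
  have hP₁card : Nat.card P₁ = p ^ (Nat.card T).factorization p := by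
    rw [hP₁, Subgroup.card_map_of_injective T.subtype_injective]
    exact P.card_eq_multiplicity
  obtain ⟨vN, hvN⟩ : ∃ v, v = (Nat.card N).factorization p := ⟨_, rfl⟩
  obtain ⟨vC, hvC⟩ : ∃ v, v = (Nat.card (Subgroup.centralizer ({g} : Set G))).factorization p :=
    ⟨_, rfl⟩
  have hv : (Nat.card T).factorization p = vN + vC := by
    rw [← hcardT, Nat.factorization_mul Nat.card_pos.ne' Nat.card_pos.ne', hvN, hvC]; rfl
  have bound : ∀ (H L : Subgroup G), IsPGroup p H → H ≤ L →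
      Nat.card H ≤ p ^ (Nat.card L).factorization p := by
    intro H L hH hHL
    obtain ⟨k, hk⟩ := IsPGroup.iff_card.mp hH
    have h1 : Nat.card H ∣ Nat.card L := Subgroup.card_dvd_of_le hHL
    rw [hk] at h1 ⊢
    exact Nat.pow_le_pow_right hp.out.pos
      ((hp.out.pow_dvd_iff_le_factorization Nat.card_pos.ne').mp h1)
  have hA : Nat.card ↥(N ⊓ P₁) ≤ p ^ vN := hvN ▸ bound _ N (hP₁p.to_le inf_le_right) inf_le_left
  have hD : Nat.card ↥(P₁ ⊓ Subgroup.centralizer ({g} : Set G)) ≤ p ^ vC :=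
    hvC ▸ bound _ _ (hP₁p.to_le inf_le_left) inf_le_right
  have hS := card_conj_mul_card_centralizer P₁ g
  rw [hP₁card, hv, pow_add] at hS
  have hιmem : ∀ y : {y : G // ∃ x ∈ P₁, x * g * x⁻¹ = y}, g⁻¹ * (y : G) ∈ N ⊓ P₁ := by
    rintro ⟨y, x, hxP, rfl⟩
    refine ⟨?_, ?_⟩
    · have h2 := (hmemT x).mp (hP₁T hxP)
      have := hNn.conj_mem _ h2 g⁻¹
      have e : g⁻¹ * (x * g * x⁻¹ * g⁻¹) * g⁻¹⁻¹ = g⁻¹ * (x * g * x⁻¹) := by group
      rwa [e] at this
    · exact P₁.mul_mem (P₁.inv_mem hgP₁) (P₁.mul_mem (P₁.mul_mem hxP hgP₁) (P₁.inv_mem hxP))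
  let ι : {y : G // ∃ x ∈ P₁, x * g * x⁻¹ = y} → ↥(N ⊓ P₁) := fun y => ⟨g⁻¹ * y, hιmem y⟩
  have hι : Function.Injective ι := fun y y' h =>
    Subtype.ext (mul_left_cancel (congrArg Subtype.val h))
  have hSle : Nat.card {y : G // ∃ x ∈ P₁, x * g * x⁻¹ = y} ≤ Nat.card ↥(N ⊓ P₁) :=
    Nat.card_le_card_of_injective ι hι
  have hDpos : 0 < Nat.card ↥(P₁ ⊓ Subgroup.centralizer ({g} : Set G)) := Nat.card_pos
  have hpC : 0 < p ^ vC := pow_pos hp.out.pos _
  have hSge : p ^ vN ≤ Nat.card {y : G // ∃ x ∈ P₁, x * g * x⁻¹ = y} := by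
    by_contra hlt
    push_neg at hlt
    have : Nat.card {y : G // ∃ x ∈ P₁, x * g * x⁻¹ = y} *
        Nat.card ↥(P₁ ⊓ Subgroup.centralizer ({g} : Set G)) < p ^ vN * p ^ vC :=
      Nat.mul_lt_mul_of_lt_of_le hlt hD hpC
    omega
  have hbij : Function.Bijective ι := hι.bijective_of_nat_card_le (hA.trans hSge)
  have hconj : ∀ a ∈ N ⊓ P₁, ∃ y ∈ P₁, y * g * y⁻¹ = g * a := by
    intro a ha
    obtain ⟨⟨y, x, hxP, hxy⟩, hy⟩ := hbij.2 ⟨a, ha⟩
    refine ⟨x, hxP, ?_⟩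
    have h3 : g⁻¹ * y = a := congrArg Subtype.val hy
    rw [hxy, ← h3]; group
  have hAne : N ⊓ P₁ ≠ ⊥ := by
    intro h
    have h4 : p ^ vN ≤ Nat.card ↥(N ⊓ P₁) := hSge.trans hSle
    rw [h, Subgroup.card_bot] at h4
    have hvN0 : 0 < vN := hvN ▸ hp.out.factorization_pos_of_dvd Nat.card_pos.ne' hpN
    have := Nat.one_lt_pow hvN0.ne' hp.out.one_lt
    omega
  have htate : Cfsg.HasNormalPComplement p ↥(N.subgroupOf T) := by
    haveI : (N.subgroupOf T).Normal := Subgroup.normal_subgroupOf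
    apply Cfsg.Agent.Helper2.tate_aux P _ (N.subgroupOf T) inferInstance rfl
    intro a' ha'
    obtain ⟨ha'N, ha'P⟩ := ha'
    have haG : (a' : G) ∈ N ⊓ P₁ := by
      refine ⟨ha'N, ?_⟩
      rw [hP₁]; exact ⟨a', ha'P, rfl⟩
    obtain ⟨y, hyP, hy⟩ := hconj _ haG
    rw [hP₁] at hyP
    obtain ⟨y', hy'P, rfl⟩ := hyP
    have e : a' = (⟨g, hgT⟩ : T)⁻¹ * y' * (⟨g, hgT⟩ : T)⁻¹⁻¹ * y'⁻¹ := by
      apply Subtype.ext
      have h5 : (a' : G) = g⁻¹ * ((y' : G) * g * (y' : G)⁻¹) := by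
        have : T.subtype y' = (y' : G) := rfl
        rw [this] at hy
        rw [hy]; group
      rw [h5]
      show g⁻¹ * ((y' : G) * g * (y' : G)⁻¹) = g⁻¹ * (y' : G) * g⁻¹⁻¹ * (y' : G)⁻¹
      group
    rw [e]
    exact commutator_mem_map_frattini' P (inv_mem hgP) hy'P
  exact ⟨Cfsg.Agent.Helper2.hasNormalPComplement_of_mulEquiv (Subgroup.subgroupOfEquivOfLe hNT) htate,
    P₁, hP₁p, hgP₁, fun y hy => (hmemT y).mp (hP₁T hy), hAne, hconj⟩

/-- If the `p`-group `P₁` of the Tate step acts on a nontrivial `p'`-quotient `N/K` of `N`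
(where `K` contains all `p`-elements of `N`), then `p = 2` and `P₁ K / K` is generalized
quaternion (and not cyclic). -/
theorem IsCam.quat_of_good [Finite G] {N : Subgroup G} [hNn : N.Normal] (hc : IsCam N) {p : ℕ}
    [hp : Fact p.Prime] {g : G} (P₁ : Subgroup G) (hP₁ : IsPGroup p P₁) (hgP : g ∈ P₁)
    (hA : N ⊓ P₁ ≠ ⊥) (hconj : ∀ a ∈ N ⊓ P₁, ∃ y ∈ P₁, y * g * y⁻¹ = g * a)
    (K : Subgroup G) [hKn : K.Normal] (hKN : K ≤ N)
    (hKp : ∀ n ∈ N, (∃ j, orderOf n = p ^ j) → n ∈ K)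
    (hVcop : (Nat.card ↥(N.map (QuotientGroup.mk' K))).Coprime p)
    (hV : N.map (QuotientGroup.mk' K) ≠ ⊥) :
    p = 2 ∧ ¬ IsCyclic ↥(P₁.map (QuotientGroup.mk' K)) ∧
      ∃ n : ℕ, Nonempty (↥(P₁.map (QuotientGroup.mk' K)) ≃* QuaternionGroup (2 ^ n)) := by
  classical
  haveI hVn : (N.map (QuotientGroup.mk' K)).Normal :=
    hNn.map (QuotientGroup.mk' K) (QuotientGroup.mk'_surjective K)
  have hcq : IsCam (N.map (QuotientGroup.mk' K)) := hc.quot K hKN
  have hB : IsPGroup p ↥(P₁.map (QuotientGroup.mk' K)) := hP₁.map (QuotientGroup.mk' K)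
  have hordP : ∀ y ∈ P₁, ∃ j, orderOf y = p ^ j := by
    intro y hy
    obtain ⟨k, hk⟩ := hP₁ ⟨y, hy⟩
    have h1 : y ^ (p ^ k) = 1 := by
      have := congrArg Subtype.val hk
      simpa using this
    obtain ⟨j, _, hj⟩ := (Nat.dvd_prime_pow hp.out).mp (orderOf_dvd_of_pow_eq_one h1)
    exact ⟨j, hj⟩
  have hPN : ∀ y ∈ P₁, y ∈ N → y ∈ K := fun y hy hyN => hKp y hyN (hordP y hy)
  have hfpf : ∀ b ∈ P₁.map (QuotientGroup.mk' K), b ≠ 1 →
      N.map (QuotientGroup.mk' K) ⊓ Subgroup.centralizer ({b} : Set (G ⧸ K)) = ⊥ := by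
    intro b hb hb1
    obtain ⟨y, hy, rfl⟩ := hb
    have hyN : y ∉ N := by
      intro hyN
      apply hb1
      exact (QuotientGroup.eq_one_iff y).mpr (hPN y hy hyN)
    have hbV : QuotientGroup.mk' K y ∉ N.map (QuotientGroup.mk' K) :=
      fun h => hyN ((mk_mem_map_iff hKN y).mp h)
    obtain ⟨j, hj⟩ := hordP y hy
    obtain ⟨i, hi⟩ : ∃ i, orderOf (QuotientGroup.mk' K y) = p ^ i := by
      have h1 : orderOf (QuotientGroup.mk' K y) ∣ p ^ j := hj ▸ orderOf_map_dvd (QuotientGroup.mk' K) y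
      obtain ⟨i, _, hi⟩ := (Nat.dvd_prime_pow hp.out).mp h1
      exact ⟨i, hi⟩
    rw [eq_bot_iff]
    intro v hv
    obtain ⟨hvV, hvC⟩ := hv
    rw [Subgroup.mem_bot]
    have hvC : v ∈ Subgroup.centralizer ({QuotientGroup.mk' K y} : Set (G ⧸ K)) := hvC
    rw [Subgroup.mem_centralizer_singleton_iff] at hvC
    obtain ⟨l, hl⟩ := hcq.orderOf_of_commute hp.out hbV hi hvV hvC.symm
    have h1 : orderOf v ∣ Nat.card ↥(N.map (QuotientGroup.mk' K)) := by
      have := orderOf_dvd_natCard (⟨v, hvV⟩ : ↥(N.map (QuotientGroup.mk' K)))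
      rwa [Subgroup.orderOf_mk] at this
    rw [hl] at h1
    have hl0 : l = 0 := by
      by_contra hl0
      have : p ∣ Nat.card ↥(N.map (QuotientGroup.mk' K)) := (dvd_pow_self p hl0).trans h1
      exact (Nat.Prime.coprime_iff_not_dvd hp.out).mp hVcop.symm this
    rw [hl0, pow_zero, orderOf_eq_one_iff] at hl
    exact hl
  have hnc : ¬ IsCyclic ↥(P₁.map (QuotientGroup.mk' K)) := by
    intro hcyc
    haveI := hcyc
    let φ : P₁ →* ↥(P₁.map (QuotientGroup.mk' K)) := (QuotientGroup.mk' K).subgroupMap P₁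
    have hker : φ.ker = N.subgroupOf P₁ := by
      ext y
      rw [MonoidHom.mem_ker, Subgroup.mem_subgroupOf]
      constructor
      · intro h
        have h1 : QuotientGroup.mk' K (y : G) = 1 := congrArg Subtype.val h
        exact hKN ((QuotientGroup.eq_one_iff _).mp h1)
      · intro h
        apply Subtype.ext
        exact (QuotientGroup.eq_one_iff _).mpr (hPN y y.2 h)
    haveI : (N.subgroupOf P₁).Normal := Subgroup.normal_subgroupOf
    refine not_cyclic_quot (p := p) hP₁ (N.subgroupOf P₁) ?_ ⟨g, hgP⟩ ?_ φ hker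
    · intro h
      apply hA
      rw [eq_bot_iff]
      intro a ha
      have h1 : (⟨a, ha.2⟩ : P₁) ∈ N.subgroupOf P₁ := ha.1
      rw [h, Subgroup.mem_bot] at h1
      exact congrArg Subtype.val h1
    · intro a ha
      obtain ⟨y, hy, hya⟩ := hconj (a : G) ⟨ha, a.2⟩
      exact ⟨⟨y, hy⟩, Subtype.ext hya⟩
  rcases Cfsg.Agent.Helper45.CNS.fpf_cyclic_or_quat (N.map (QuotientGroup.mk' K)) hV
    (P₁.map (QuotientGroup.mk' K)) p hB hVcop hfpf with h | ⟨h2, h3⟩
  · exact absurd h hnc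
  · exact ⟨h2, hnc, h3⟩

end Cfsg.Agent.Helper69.Camina
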