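import Mathlib

set_option autoImplicit false

/-!
# Counting commuting pairs relative to a subgroup

For a subgroup `Y` of a finite group `X` we construct injections
`CP X ↪ (X ⧸ Y) × Mixed`, `Mixed ↪ (X ⧸ Y) × CP Y`, where `CP` denotes commuting pairs.
This gives `k(X) ≤ [X:Y] k(Y)` and `k(X) ≤ k(N) k(X/N)`.
-/

namespace Cfsg.Agent.Helper69

variable {X : Type*} [Group X] (Y : Subgroup X)

/-- an element commuting with `a` in the left coset `q` (if there is one) -/
noncomputable def pick (a : X) (q : X ⧸ Y) : X :=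
  Classical.epsilon (fun w => Commute a w ∧ (QuotientGroup.mk w : X ⧸ Y) = q)

theorem pick_spec {a v : X} (hv : Commute a v) :
    Commute a (pick Y a (QuotientGroup.mk v)) ∧
      (QuotientGroup.mk (pick Y a (QuotientGroup.mk v)) : X ⧸ Y) = QuotientGroup.mk v :=
  Classical.epsilon_spec
    (p := fun w => Commute a w ∧ (QuotientGroup.mk w : X ⧸ Y) = QuotientGroup.mk v) ⟨v, hv, rfl⟩

/-- move `v` into `Y` keeping it in the centralizer of `a` -/
noncomputable def red (a v : X) : X := (pick Y a (QuotientGroup.mk v))⁻¹ * v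

theorem red_mem {a v : X} (hv : Commute a v) : red Y a v ∈ Y :=
  QuotientGroup.eq.mp (pick_spec Y hv).2

theorem red_comm {a v : X} (hv : Commute a v) : Commute a (red Y a v) :=
  (pick_spec Y hv).1.inv_right.mul_right hv

theorem red_inj {a v v' : X} (hq : (QuotientGroup.mk v : X ⧸ Y) = QuotientGroup.mk v')
    (hr : red Y a v = red Y a v') : v = v' := by
  unfold red at hr
  rw [hq] at hr
  exact mul_left_cancel hr

/-- commuting pairs -/
abbrev CP (Z : Type*) [Mul Z] := {p : Z × Z // Commute p.1 p.2}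

/-- mixed commuting pairs -/
abbrev Mixed := {p : X × Y // Commute p.1 (p.2 : X)}

/-- first injection -/
noncomputable def iota1 (p : CP X) : (X ⧸ Y) × Mixed Y :=
  (QuotientGroup.mk p.1.2, ⟨(p.1.1, ⟨red Y p.1.1 p.1.2, red_mem Y p.2⟩), red_comm Y p.2⟩)

theorem iota1_injective : Function.Injective (iota1 Y) := by
  rintro ⟨⟨u, v⟩, h⟩ ⟨⟨u', v'⟩, h'⟩ e
  have e1 : (QuotientGroup.mk v : X ⧸ Y) = QuotientGroup.mk v' := congrArg Prod.fst e
  have e2 : u = u' := congrArg (fun z => z.2.1.1) e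
  have e3 : red Y u v = red Y u' v' := congrArg (fun z => (z.2.1.2 : X)) e
  subst e2
  have := red_inj Y e1 e3
  subst this
  rfl

/-- second injection -/
noncomputable def iota2 (p : Mixed Y) : (X ⧸ Y) × CP Y :=
  (QuotientGroup.mk p.1.1,
    ⟨(p.1.2, ⟨red Y (p.1.2 : X) p.1.1, red_mem Y p.2.symm⟩),
      Subtype.ext (red_comm Y p.2.symm)⟩)

theorem iota2_injective : Function.Injective (iota2 Y) := by
  rintro ⟨⟨u, n⟩, h⟩ ⟨⟨u', n'⟩, h'⟩ e
  have e1 : (QuotientGroup.mk u : X ⧸ Y) = QuotientGroup.mk u' := congrArg Prod.fst e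
  have e2 : n = n' := congrArg (fun z => z.2.1.1) e
  have e3 : red Y (n : X) u = red Y (n' : X) u' := congrArg (fun z => (z.2.1.2 : X)) e
  subst e2
  have := red_inj Y e1 e3
  subst this
  rfl

theorem iota2_fst (p : Mixed Y) : (iota2 Y p).1 = QuotientGroup.mk p.1.1 := rfl

theorem iota2_snd_fst (p : Mixed Y) : (iota2 Y p).2.1.1 = p.1.2 := rfl

theorem iota1_fst (p : CP X) : (iota1 Y p).1 = QuotientGroup.mk p.1.2 := rfl

theorem iota1_snd_fst (p : CP X) : (iota1 Y p).2.1.1 = p.1.1 := rfl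

variable [Finite X]

theorem card_cp_le_mixed : Nat.card (CP X) ≤ Y.index * Nat.card (Mixed Y) := by
  have := Nat.card_le_card_of_injective _ (iota1_injective Y)
  rwa [Nat.card_prod] at this

theorem card_mixed_le : Nat.card (Mixed Y) ≤ Y.index * Nat.card (CP Y) := by
  have := Nat.card_le_card_of_injective _ (iota2_injective Y)
  rwa [Nat.card_prod] at this

theorem card_mixed_lt (hY : ¬ Y.Normal) : Nat.card (Mixed Y) < Y.index * Nat.card (CP Y) := by
  classical
  have hns : ¬ Function.Surjective (iota2 Y) := by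
    intro hs
    apply hY
    refine ⟨fun y hy g => ?_⟩
    obtain ⟨⟨⟨u, n⟩, h⟩, hp⟩ := hs (QuotientGroup.mk g⁻¹, ⟨(⟨y, hy⟩, 1), Commute.one_right _⟩)
    have e1 : (QuotientGroup.mk u : X ⧸ Y) = QuotientGroup.mk g⁻¹ := congrArg Prod.fst hp
    have e2 : n = ⟨y, hy⟩ := congrArg (fun z => z.2.1.1) hp
    have e1' : u⁻¹ * g⁻¹ ∈ Y := QuotientGroup.eq.mp e1
    have hn : (n : X) = y := congrArg Subtype.val e2
    have hc : u * y = y * u := by rw [← hn]; exact h
    have : g * y * g⁻¹ = (u⁻¹ * g⁻¹)⁻¹ * y * (u⁻¹ * g⁻¹) := by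
      have h2 : u * y * u⁻¹ = y := by rw [hc]; group
      calc g * y * g⁻¹ = g * (u * y * u⁻¹) * g⁻¹ := by rw [h2]
        _ = (u⁻¹ * g⁻¹)⁻¹ * y * (u⁻¹ * g⁻¹) := by group
    rw [this]
    exact Y.mul_mem (Y.mul_mem (Y.inv_mem e1') hy) e1'
  haveI := Fintype.ofFinite (Mixed Y)
  haveI := Fintype.ofFinite ((X ⧸ Y) × CP Y)
  have := Fintype.card_lt_of_injective_not_surjective _ (iota2_injective Y) hns
  rw [← Nat.card_eq_fintype_card, ← Nat.card_eq_fintype_card, Nat.card_prod] at this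
  exact this

end Cfsg.Agent.Helper69
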