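import Mathlib
import Cfsg.Agent.Lib.Helper52.FCDefs
import Cfsg.Agent.Lib.Helper52.Coprime
import Cfsg.Agent.Lib.Helper52.CoprimeSylow

/-!
# FC (D2) (helper69, for helper52's server, S3816): `L = [L,P]`, `L₂ ≠ L` forces `L` to be an `s`-group.
-/

set_option autoImplicit false

namespace Cfsg.Agent.Helper69.FC

open Subgroup Cfsg.Agent.Helper52.FC
open scoped commutatorElement Pointwise

universe u

variable {G : Type u} [Group G]

theorem d2_inv_pow {a : G} {X : Subgroup G} (hX : Inv a X) (i : ℕ) :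
    ∀ x ∈ X, a ^ i * x * (a ^ i)⁻¹ ∈ X := by
  induction i with
  | zero => intro x hx; simpa using hx
  | succ i ih =>
    intro x hx
    have h1 := hX _ (ih x hx)
    have e : a ^ (i + 1) * x * (a ^ (i + 1))⁻¹ = a * (a ^ i * x * (a ^ i)⁻¹) * a⁻¹ := by
      rw [pow_succ']; group
    rw [e]; exact h1

theorem d2_gen_mem (a h : G) (i : ℕ) : h⁻¹ * (a ^ i * h * (a ^ i)⁻¹) ∈ Lh a h :=
  subset_closure ⟨i, rfl⟩

theorem d2_Lh_le (a : G) (X : Subgroup G) (hX : Inv a X) (h : G) (hh : h ∈ X) : Lh a h ≤ X := by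
  unfold Lh
  rw [closure_le]
  rintro c ⟨i, rfl⟩
  exact mul_mem (inv_mem hh) (d2_inv_pow hX i h hh)

theorem d2_comm_le (a : G) (X Y : Subgroup G) (h : ∀ x ∈ X, Lh a x ≤ Y) :
    Cfsg.Agent.Helper52.FC.comm a X ≤ Y := by
  unfold Cfsg.Agent.Helper52.FC.comm
  rw [closure_le]
  rintro c ⟨x, hx, i, rfl⟩
  exact h x hx (d2_gen_mem a x i)

theorem d2_conj_closure (g : G) (S : Set G) (X : Subgroup G) (hS : ∀ s ∈ S, g * s * g⁻¹ ∈ X) :
    ∀ x ∈ closure S, g * x * g⁻¹ ∈ X := by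
  intro x hx
  have h1 : closure S ≤ X.comap (MulAut.conj g).toMonoidHom := by
    rw [closure_le]
    intro s hs
    exact hS s hs
  exact h1 hx

theorem d2_Lh_inv (a h : G) : Inv a (Lh a h) := by
  intro x hx
  refine d2_conj_closure a _ (Lh a h) ?_ x hx
  rintro c ⟨i, rfl⟩
  have e : a * (h⁻¹ * (a ^ i * h * (a ^ i)⁻¹)) * a⁻¹ =
      (h⁻¹ * (a ^ 1 * h * (a ^ 1)⁻¹))⁻¹ * (h⁻¹ * (a ^ (i + 1) * h * (a ^ (i + 1))⁻¹)) := by
    rw [pow_one, pow_succ']; group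
  rw [e]
  exact mul_mem (inv_mem (d2_gen_mem a h 1)) (d2_gen_mem a h (i + 1))

theorem d2_comm_inv (a : G) (X : Subgroup G) : Inv a (Cfsg.Agent.Helper52.FC.comm a X) := by
  intro x hx
  refine d2_conj_closure a _ (Cfsg.Agent.Helper52.FC.comm a X) ?_ x hx
  rintro c ⟨h, hh, i, rfl⟩
  have e : a * (h⁻¹ * (a ^ i * h * (a ^ i)⁻¹)) * a⁻¹ =
      (h⁻¹ * (a ^ 1 * h * (a ^ 1)⁻¹))⁻¹ * (h⁻¹ * (a ^ (i + 1) * h * (a ^ (i + 1))⁻¹)) := by
    rw [pow_one, pow_succ']; group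
  rw [e]
  exact mul_mem (inv_mem (subset_closure ⟨h, hh, 1, rfl⟩)) (subset_closure ⟨h, hh, i + 1, rfl⟩)

theorem d2_conj_Lh (a c l : G) (hc : a * c = c * a) :
    ∀ x ∈ Lh a l, c * x * c⁻¹ ∈ Lh a (c * l * c⁻¹) := by
  intro x hx
  refine d2_conj_closure c _ _ ?_ x hx
  rintro y ⟨i, rfl⟩
  have hci : a ^ i * c = c * a ^ i := (Commute.pow_left (show Commute a c from hc) i)
  have h2 : c⁻¹ * (a ^ i)⁻¹ = (a ^ i)⁻¹ * c⁻¹ := by rw [← mul_inv_rev, ← mul_inv_rev, hci]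
  have e : c * (l⁻¹ * (a ^ i * l * (a ^ i)⁻¹)) * c⁻¹ =
      (c * l * c⁻¹)⁻¹ * (a ^ i * (c * l * c⁻¹) * (a ^ i)⁻¹) := by
    calc c * (l⁻¹ * (a ^ i * l * (a ^ i)⁻¹)) * c⁻¹
        = c * l⁻¹ * a ^ i * l * ((a ^ i)⁻¹ * c⁻¹) := by group
      _ = c * l⁻¹ * a ^ i * l * (c⁻¹ * (a ^ i)⁻¹) := by rw [h2]
      _ = c * l⁻¹ * c⁻¹ * (c * a ^ i) * l * c⁻¹ * (a ^ i)⁻¹ := by group
      _ = c * l⁻¹ * c⁻¹ * (a ^ i * c) * l * c⁻¹ * (a ^ i)⁻¹ := by rw [hci]
      _ = (c * l * c⁻¹)⁻¹ * (a ^ i * (c * l * c⁻¹) * (a ^ i)⁻¹) := by group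
  rw [e]
  exact d2_gen_mem a _ i

theorem d2_commutator_le (a : G) (ha : IsOfFinOrder a) (X Y : Subgroup G)
    (h : ∀ x ∈ X, Lh a x ≤ Y) : ⁅X, zpowers a⁆ ≤ Y := by
  rw [commutator_le]
  intro x hx z hz
  rw [← ha.mem_powers_iff_mem_zpowers] at hz
  obtain ⟨i, rfl⟩ := (Submonoid.mem_powers_iff _ _).1 hz
  have e : ⁅x, a ^ i⁆ = (x⁻¹)⁻¹ * (a ^ i * x⁻¹ * (a ^ i)⁻¹) := by
    rw [commutatorElement_def]; group
  rw [e]
  exact h x⁻¹ (inv_mem hx) (d2_gen_mem a x⁻¹ i)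

/-- (D2) -/
theorem L2_sgroup [Finite G] {p : ℕ} (hp : p.Prime) (a : G) (L : Subgroup G) (hyp : Hyp p a L) (hL : comm a L = L)
    (h2 : (⨆ l : {l : G // l ∈ L ∧ Lh a l ≠ L}, Lh a (l : G)) ≠ L) : ∃ s : ℕ, s.Prime ∧ IsPGroup s L := by
  classical
  by_cases hbot : L = ⊥
  · exact ⟨2, Nat.prime_two, by rw [hbot]; exact IsPGroup.of_bot⟩
  set L2 : Subgroup G := ⨆ l : {l : G // l ∈ L ∧ Lh a l ≠ L}, Lh a (l : G) with hL2
  have hLinv := hyp.inv
  have hp0 : 0 < p := hp.pos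
  have hafin : IsOfFinOrder a := isOfFinOrder_of_finite a
  have hL2L : L2 ≤ L := iSup_le fun l => d2_Lh_le a L hLinv l l.2.1
  have hL2inv : Inv a L2 := by
    intro x hx
    refine Subgroup.iSup_induction (C := fun x => a * x * a⁻¹ ∈ L2) _ hx ?_ ?_ ?_
    · intro l y hy
      exact (le_iSup (fun l : {l : G // l ∈ L ∧ Lh a l ≠ L} => Lh a (l : G)) l)
        (d2_Lh_inv a l y hy)
    · simp
    · intro y z hy hz
      have e : a * (y * z) * a⁻¹ = (a * y * a⁻¹) * (a * z * a⁻¹) := by group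
      rw [e]; exact mul_mem hy hz
  -- proper invariant subgroups feed `L2`
  have hprop : ∀ X : Subgroup G, X ≤ L → X ≠ L → Inv a X → ∀ x ∈ X, Lh a x ≤ L2 := by
    intro X hXL hne hX x hx
    have h1 : Lh a x ≤ X := d2_Lh_le a X hX x hx
    have h3 : Lh a x ≠ L := fun h => hne (le_antisymm hXL (h ▸ h1))
    exact le_iSup (fun l : {l : G // l ∈ L ∧ Lh a l ≠ L} => Lh a (l : G)) ⟨x, hXL hx, h3⟩
  -- normalizer facts
  have hainv : ∀ X : Subgroup G, Inv a X → a ∈ normalizer (X : Set G) := by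
    intro X hX
    rw [mem_normalizer_iff]
    intro x
    refine ⟨fun hx => hX x hx, fun hx => ?_⟩
    have h3 := d2_inv_pow hX (p - 1) _ hx
    have h1 : a ^ (p - 1) * a = 1 := by rw [← pow_succ, Nat.sub_add_cancel hp0, hyp.pow]
    have h4 : a⁻¹ * (a ^ (p - 1))⁻¹ = 1 := by rw [← mul_inv_rev, h1, inv_one]
    have e : a ^ (p - 1) * (a * x * a⁻¹) * (a ^ (p - 1))⁻¹ = x := by
      calc a ^ (p - 1) * (a * x * a⁻¹) * (a ^ (p - 1))⁻¹
          = (a ^ (p - 1) * a) * x * (a⁻¹ * (a ^ (p - 1))⁻¹) := by group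
        _ = x := by rw [h1, h4]; simp
    rwa [e] at h3
  have hPnorm : ∀ X : Subgroup G, Inv a X → zpowers a ≤ normalizer (X : Set G) :=
    fun X hX => (zpowers_le).2 (hainv X hX)
  have hPcard : Nat.card (zpowers a) ∣ p := by
    rw [Nat.card_zpowers]; exact orderOf_dvd_of_pow_eq_one hyp.pow
  have hcopX : ∀ X : Subgroup G, X ≤ L → (Nat.card (zpowers a)).Coprime (Nat.card X) := by
    intro X hX
    exact Nat.Coprime.coprime_dvd_left hPcard
      (Nat.Coprime.coprime_dvd_right (Subgroup.card_dvd_of_le hX) hyp.cop.symm)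
  have hsolX : ∀ X : Subgroup G, X ≤ L → Group.IsSolvable X :=
    fun X hX => Cfsg.Agent.Helper24.isSolvable_of_le X L hX hyp.sol
  -- conjugation by fixed points of `a` in `L` preserves `L2`
  have hL2conj : ∀ c ∈ L, a * c = c * a → ∀ x ∈ L2, c * x * c⁻¹ ∈ L2 := by
    intro c hcL hca x hx
    refine Subgroup.iSup_induction (C := fun x => c * x * c⁻¹ ∈ L2) _ hx ?_ ?_ ?_
    · intro l y hy
      have h1 := d2_conj_Lh a c l hca y hy
      have hclL : c * (l : G) * c⁻¹ ∈ L := mul_mem (mul_mem hcL l.2.1) (inv_mem hcL)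
      have hne : Lh a (c * (l : G) * c⁻¹) ≠ L := by
        intro heq
        apply l.2.2
        apply le_antisymm (d2_Lh_le a L hLinv l l.2.1)
        intro z hz
        have hca' : a * c⁻¹ = c⁻¹ * a := by
          have : c⁻¹ * (a * c) * c⁻¹ = c⁻¹ * (c * a) * c⁻¹ := by rw [hca]
          have e1 : c⁻¹ * (a * c) * c⁻¹ = c⁻¹ * a := by group
          have e2 : c⁻¹ * (c * a) * c⁻¹ = a * c⁻¹ := by group
          rw [e1, e2] at this; exact this.symm
        have hz' : c * z * c⁻¹ ∈ Lh a (c * (l : G) * c⁻¹) := by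
          rw [heq]; exact mul_mem (mul_mem hcL hz) (inv_mem hcL)
        have h5 := d2_conj_Lh a c⁻¹ (c * (l : G) * c⁻¹) hca' _ hz'
        have e3 : c⁻¹ * (c * z * c⁻¹) * c⁻¹⁻¹ = z := by group
        have e4 : c⁻¹ * (c * (l : G) * c⁻¹) * c⁻¹⁻¹ = l := by group
        rwa [e3, e4] at h5
      exact (le_iSup (fun l : {l : G // l ∈ L ∧ Lh a l ≠ L} => Lh a (l : G))
        ⟨c * (l : G) * c⁻¹, hclL, hne⟩) h1
    · simp
    · intro y z hy hz
      have e : c * (y * z) * c⁻¹ = (c * y * c⁻¹) * (c * z * c⁻¹) := by group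
      rw [e]; exact mul_mem hy hz
  -- the prime `s` and the subgroup `M`
  haveI : Nontrivial L := (Subgroup.nontrivial_iff_ne_bot L).2 hbot
  haveI := hyp.sol
  have hcomm_lt : _root_.commutator L < ⊤ := IsSolvable.commutator_lt_top_of_nontrivial L
  have hAcard : Nat.card (Abelianization L) ≠ 1 := by
    intro h1
    have h3 : (_root_.commutator L).index = 1 := h1
    rw [Subgroup.index_eq_one] at h3
    exact hcomm_lt.ne h3
  obtain ⟨s, hs, hsdvd⟩ := Nat.exists_prime_and_dvd hAcard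
  haveI : Fact s.Prime := ⟨hs⟩
  obtain ⟨n, hn⟩ : ∃ n : ℕ, n = Nat.card L := ⟨_, rfl⟩
  obtain ⟨t, ht⟩ : ∃ t : ℕ, t = n / s ^ n.factorization s := ⟨_, rfl⟩
  have hn0 : n ≠ 0 := by rw [hn]; exact Nat.card_pos.ne'
  have hst : ¬ s ∣ t := by rw [ht]; exact Nat.not_dvd_ordCompl hs hn0
  have hnt : s ^ n.factorization s * t = n := by
    rw [ht]; exact Nat.ordProj_mul_ordCompl_eq_self n s
  let φ : L →* Abelianization L := Abelianization.of
  let ψ : L →* Abelianization L := (powMonoidHom t).comp φ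
  have hψ : ∀ x : L, ψ x = (φ x) ^ t := fun x => rfl
  set M0 : Subgroup L := ψ.ker with hM0
  set M : Subgroup G := M0.map L.subtype with hM
  have hML : M ≤ L := map_subtype_le _
  have hMne : M ≠ L := by
    intro h
    obtain ⟨y, hy⟩ := exists_prime_orderOf_dvd_card' s hsdvd
    obtain ⟨x, rfl⟩ := QuotientGroup.mk_surjective y
    have hx : (x : G) ∈ M := by rw [h]; exact x.2
    obtain ⟨x', hx', hxx⟩ := hx
    have hxe : x' = x := Subtype.ext hxx
    rw [hxe] at hx'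
    have h3 : (φ x) ^ t = 1 := hx'
    have h4 := orderOf_dvd_of_pow_eq_one h3
    have h5 : orderOf (φ x) = s := hy
    rw [h5] at h4
    exact hst h4
  have hMchar : ∀ x : G, x ∈ M ↔ x ∈ L ∧ x ^ t ∈ ⁅L, L⁆ := by
    intro x
    constructor
    · rintro ⟨x', hx', rfl⟩
      refine ⟨x'.2, ?_⟩
      have h3 : φ (x' ^ t) = 1 := by rw [map_pow]; exact hx'
      have h4 : x' ^ t ∈ _root_.commutator L := by
        rw [← Abelianization.ker_of]; exact h3
      rw [← Subgroup.map_subtype_commutator]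
      exact ⟨x' ^ t, h4, by simp⟩
    · rintro ⟨hxL, hxt⟩
      rw [← Subgroup.map_subtype_commutator] at hxt
      obtain ⟨y, hy, hyx⟩ := hxt
      refine ⟨⟨x, hxL⟩, ?_, rfl⟩
      have h3 : (⟨x, hxL⟩ : L) ^ t = y := Subtype.ext (by simpa using hyx.symm)
      show ψ ⟨x, hxL⟩ = 1
      rw [hψ, ← map_pow, h3]
      have : y ∈ (Abelianization.of : L →* Abelianization L).ker := by
        rw [Abelianization.ker_of]; exact hy
      exact this
  have hL'inv : Inv a ⁅L, L⁆ := by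
    intro x hx
    have h1 : ⁅L, L⁆ ≤ (⁅L, L⁆).comap (MulAut.conj a).toMonoidHom := by
      rw [commutator_le]
      intro g₁ h₁ g₂ h₂
      rw [mem_comap, map_commutatorElement]
      exact commutator_mem_commutator (hLinv _ h₁) (hLinv _ h₂)
    exact h1 hx
  have hMinv : Inv a M := by
    intro x hx
    rw [hMchar] at hx ⊢
    refine ⟨hLinv x hx.1, ?_⟩
    rw [conj_pow]
    exact hL'inv _ hx.2
  have hMnorm : ∀ l ∈ L, ∀ x ∈ M, l * x * l⁻¹ ∈ M := by
    rintro l hl x ⟨x', hx', rfl⟩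
    refine ⟨⟨l, hl⟩ * x' * ⟨l, hl⟩⁻¹, ?_, by simp⟩
    exact (inferInstance : M0.Normal).conj_mem x' hx' ⟨l, hl⟩
  have hLnormM : L ≤ normalizer (M : Set G) := by
    intro l hl
    rw [mem_normalizer_iff]
    intro x
    refine ⟨fun hx => hMnorm l hl x hx, fun hx => ?_⟩
    have h1 := hMnorm l⁻¹ (inv_mem hl) _ hx
    have e : l⁻¹ * (l * x * l⁻¹) * l⁻¹⁻¹ = x := by group
    rwa [e] at h1
  have hMidx : ∃ k, M.relIndex L = s ^ k := by
    have h1 : M.relIndex L = M0.index := by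
      unfold relIndex
      congr 1
      exact Subgroup.comap_map_eq_self_of_injective L.subtype_injective M0
    rw [h1, hM0, Subgroup.index_ker]
    have hrange : IsPGroup s ψ.range := by
      rintro ⟨y, x, rfl⟩
      refine ⟨n.factorization s, Subtype.ext ?_⟩
      show (ψ x) ^ (s ^ n.factorization s) = 1
      rw [hψ, ← pow_mul, mul_comm, hnt, ← map_pow, hn, pow_card_eq_one', map_one]
    exact IsPGroup.iff_card.1 hrange
  -- an invariant Sylow `s`-subgroup supplements `M`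
  obtain ⟨S, hSL, hScard, hSnorm⟩ := Cfsg.Agent.Helper52.exists_invariant_sylow (zpowers a) L
    (hPnorm L hLinv) (hcopX L le_rfl) (Or.inr hyp.sol) s
  have hSinv : Inv a S := by
    intro x hx
    exact (mem_normalizer_iff.1 (hSnorm (mem_zpowers a)) x).1 hx
  have hSM : S ⊔ M = L := by
    have hTL : S ⊔ M ≤ L := sup_le hSL hML
    obtain ⟨k, hk⟩ := hMidx
    have h1 : (S ⊔ M).relIndex L ∣ s ^ k := by
      rw [← hk]; exact Subgroup.relIndex_dvd_of_le_left L (le_sup_right : M ≤ S ⊔ M)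
    obtain ⟨j, -, hTj⟩ := (Nat.dvd_prime_pow hs).1 h1
    have h3 : Nat.card (S ⊔ M : Subgroup G) * (S ⊔ M).relIndex L = Nat.card L :=
      Cfsg.Agent.Helper52.card_mul_relIndex_eq hTL
    have h4 : s ^ n.factorization s ∣ Nat.card (S ⊔ M : Subgroup G) := by
      have : Nat.card S = s ^ n.factorization s := by rw [hn]; exact hScard
      rw [← this]; exact Subgroup.card_dvd_of_le le_sup_left
    have h3' : Nat.card (S ⊔ M : Subgroup G) * s ^ j = n := by rw [hn, ← hTj]; exact h3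
    have h5 : s ^ n.factorization s * s ^ j ∣ Nat.card (S ⊔ M : Subgroup G) * s ^ j :=
      Nat.mul_dvd_mul h4 dvd_rfl
    rw [h3', ← pow_add] at h5
    have h6 : n.factorization s + j ≤ n.factorization s :=
      (hs.pow_dvd_iff_le_factorization hn0).1 h5
    have hj0 : j = 0 := by omega
    rw [hj0, pow_zero] at hTj
    exact le_antisymm hTL (Subgroup.relIndex_eq_one.1 hTj)
  -- a minimal invariant supplement of `M`
  let KK : Set (Subgroup G) := {K : Subgroup G | K ≤ L ∧ Inv a K ∧ K ⊔ M = L}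
  have hKKne : KK.Nonempty := ⟨L, le_rfl, hLinv, sup_eq_left.2 hML⟩
  obtain ⟨K, hKKK, hKmin⟩ := WellFounded.has_min (wellFounded_lt (α := Subgroup G)) KK hKKne
  obtain ⟨hKL, hKinv, hKM⟩ := hKKK
  -- decomposition of elements of `L`
  have hdecomp : ∀ K' : Subgroup G, K' ≤ L → K' ⊔ M = L → ∀ g ∈ L, ∃ m ∈ M, ∃ k ∈ K', g = m * k := by
    intro K' hK'L hK'M g hg
    have hK'n : K' ≤ normalizer (M : Set G) := hK'L.trans hLnormM
    have h1 : (↑(M ⊔ K') : Set G) = (M : Set G) * (K' : Set G) :=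
      coe_mul_of_right_le_normalizer_left M K' hK'n
    have h3 : g ∈ (↑(M ⊔ K') : Set G) := by rw [sup_comm, hK'M]; exact hg
    rw [h1] at h3
    obtain ⟨m, hm, k, hk, rfl⟩ := h3
    exact ⟨m, hm, k, hk, rfl⟩
  -- `K = [K,P]`
  have hKcomm : comm a K = K := by
    have h1 : comm a K ≤ K := d2_comm_le a K K (fun x hx => d2_Lh_le a K hKinv x hx)
    have h3 : comm a K ∈ KK := by
      refine ⟨h1.trans hKL, d2_comm_inv a K, le_antisymm (sup_le (h1.trans hKL) hML) ?_⟩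
      rw [← hL]
      apply d2_comm_le
      intro l hl
      unfold Lh
      rw [closure_le]
      rintro c ⟨i, rfl⟩
      obtain ⟨m, hm, k, hk, rfl⟩ := hdecomp K hKL hKM l hl
      have e : (m * k)⁻¹ * (a ^ i * (m * k) * (a ^ i)⁻¹) =
          k⁻¹ * (m⁻¹ * (a ^ i * m * (a ^ i)⁻¹)) * k * (k⁻¹ * (a ^ i * k * (a ^ i)⁻¹)) := by group
      rw [e]
      have hm1 : m⁻¹ * (a ^ i * m * (a ^ i)⁻¹) ∈ M := mul_mem (inv_mem hm) (d2_inv_pow hMinv i m hm)
      have hm2 : k⁻¹ * (m⁻¹ * (a ^ i * m * (a ^ i)⁻¹)) * k ∈ M := by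
        have := hMnorm k⁻¹ (inv_mem (hKL hk)) _ hm1
        rwa [inv_inv] at this
      exact mul_mem ((le_sup_right : M ≤ comm a K ⊔ M) hm2)
        ((le_sup_left : comm a K ≤ comm a K ⊔ M) (subset_closure ⟨k, hk, i, rfl⟩))
    by_contra hne
    exact hKmin _ h3 (lt_of_le_of_ne h1 hne)
  -- `K = L`
  have hKeq : K = L := by
    by_contra hKne
    have hK2 : K ≤ L2 := by
      rw [← hKcomm]
      exact d2_comm_le a K L2 (hprop K hKL hKne hKinv)
    have hM2 : ⁅M, zpowers a⁆ ≤ L2 := d2_commutator_le a hafin M L2 (hprop M hML hMne hMinv)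
    apply h2
    apply le_antisymm hL2L
    rw [← hL]
    apply d2_comm_le
    intro g hg
    unfold Lh
    rw [closure_le]
    rintro c ⟨i, rfl⟩
    obtain ⟨m, hm, k, hk, rfl⟩ := hdecomp K hKL hKM g hg
    obtain ⟨nn, hnn, c', hc', rfl⟩ := Cfsg.Agent.Helper52.exists_commutator_mul_centralizer M (zpowers a)
      (hPnorm M hMinv) (hcopX M hML) (Or.inr (hsolX M hML)) m hm
    have hc'M : c' ∈ M := hc'.1
    have hc'a : a * c' = c' * a := (mem_centralizer_iff.1 hc'.2) a (mem_zpowers a)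
    have hc'inv : a * c'⁻¹ = c'⁻¹ * a := by
      have : c'⁻¹ * (a * c') * c'⁻¹ = c'⁻¹ * (c' * a) * c'⁻¹ := by rw [hc'a]
      have e1 : c'⁻¹ * (a * c') * c'⁻¹ = c'⁻¹ * a := by group
      have e2 : c'⁻¹ * (c' * a) * c'⁻¹ = a * c'⁻¹ := by group
      rw [e1, e2] at this; exact this.symm
    have hci : a ^ i * c' = c' * a ^ i := (Commute.pow_left (show Commute a c' from hc'a) i)
    -- y := c'⁻¹ nn c' * k ∈ L2
    have hy1 : c'⁻¹ * nn * c'⁻¹⁻¹ ∈ L2 :=
      hL2conj c'⁻¹ (inv_mem (hML hc'M)) hc'inv nn (hM2 hnn)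
    rw [inv_inv] at hy1
    set y := c'⁻¹ * nn * c' * k with hy
    have hyL2 : y ∈ L2 := mul_mem hy1 (hK2 hk)
    have e : (nn * c' * k)⁻¹ * (a ^ i * (nn * c' * k) * (a ^ i)⁻¹) = y⁻¹ * (a ^ i * y * (a ^ i)⁻¹) := by
      have h5 : nn * c' * k = c' * y := by rw [hy]; group
      rw [h5]
      calc (c' * y)⁻¹ * (a ^ i * (c' * y) * (a ^ i)⁻¹)
          = y⁻¹ * c'⁻¹ * (a ^ i * c') * y * (a ^ i)⁻¹ := by group
        _ = y⁻¹ * c'⁻¹ * (c' * a ^ i) * y * (a ^ i)⁻¹ := by rw [hci]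
        _ = y⁻¹ * (a ^ i * y * (a ^ i)⁻¹) := by group
    rw [e]
    exact d2_Lh_le a L2 hL2inv y hyL2 (d2_gen_mem a y i)
  -- `S = L`
  have hSKK : S ∈ KK := ⟨hSL, hSinv, hSM⟩
  have hSeq : S = L := by
    by_contra hne
    exact hKmin S hSKK (hKeq ▸ lt_of_le_of_ne hSL hne)
  refine ⟨s, hs, ?_⟩
  have hSp : IsPGroup s S := IsPGroup.of_card hScard
  rw [hSeq] at hSp
  exact hSp

end Cfsg.Agent.Helper69.FC
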