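import Mathlib
import Cfsg.Agent.Lib.Helper2.TateGeneral

set_option autoImplicit false
open scoped commutatorElement

/-!
# Tate's theorem with an elementary-abelian (Frattini) hypothesis (helper69)

Adapted from `Cfsg.Agent.Helper2.pResidual_subgroupOf_le` (helper2): the focal hypothesis
`P ∩ G' ≤ V'` is weakened to `P ∩ G' ≤ K` for every `K ⊴ V` with `V / K` elementary abelian.
-/

namespace Cfsg.Agent.Helper69

open Subgroup Cfsg.Agent.Helper2

/-- **Tate's theorem, strong form**: if `P ≤ V ≤ G` for a Sylow `p`-subgroup `P` and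
`P ∩ G'` lies in every normal subgroup `K` of `V` with `V / K` elementary abelian,
then `O^p(G) ∩ V ≤ O^p(V)`. -/
theorem pResidual_subgroupOf_le_of_elementary {G : Type*} [Group G] [Finite G] {p : ℕ}
    [hp : Fact p.Prime]
    (P : Sylow p G) (V : Subgroup G) (hPV : (P : Subgroup G) ≤ V)
    (hfoc : ∀ K : Subgroup V, K.Normal → (∀ a b : V, ⁅a, b⁆ ∈ K) → (∀ a : V, a ^ p ∈ K) →
      ∀ s : V, (s : G) ∈ commutator G → (s : G) ∈ (P : Subgroup G) → s ∈ K) :
    (Cfsg.pResidual p G).subgroupOf V ≤ Cfsg.pResidual p V := by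
  classical
  have hRn : (Cfsg.pResidual p G).Normal := pResidual_normal p
  have hRVn : (Cfsg.pResidual p V).Normal := pResidual_normal p
  set R := Cfsg.pResidual p G with hR
  set RV := Cfsg.pResidual p V with hRV
  set N : Subgroup V := R.subgroupOf V with hN
  have hNn : N.Normal := hRn.subgroupOf V
  have hRVN : RV ≤ N := by
    rw [hRV]
    unfold Cfsg.pResidual
    rw [Subgroup.closure_le]
    intro v hv
    have hv' : Nat.Coprime (orderOf v) p := hv
    show v ∈ R.subgroupOf V
    rw [Subgroup.mem_subgroupOf, hR]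
    apply Subgroup.subset_closure
    show Nat.Coprime (orderOf (v : G)) p
    rw [Subgroup.orderOf_coe]; exact hv'
  by_contra hcon
  let q : V →* V ⧸ RV := QuotientGroup.mk' RV
  have hqsurj : Function.Surjective q := QuotientGroup.mk'_surjective RV
  have hqker : ∀ v : V, q v = 1 ↔ v ∈ RV := fun v => QuotientGroup.eq_one_iff v
  set Nb : Subgroup (V ⧸ RV) := N.map q with hNb
  have hNbn : Nb.Normal := hNn.map q hqsurj
  have hNbne : Nb ≠ ⊥ := by
    intro hbot
    apply hcon
    intro n hn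
    have : q n ∈ Nb := ⟨n, hn, rfl⟩
    rw [hbot, Subgroup.mem_bot, hqker] at this
    exact this
  have hpgV : IsPGroup p (V ⧸ RV) := quotient_pResidual_isPGroup p
  have hnil : Group.IsNilpotent (V ⧸ RV) := hpgV.isNilpotent
  have hlt : ⁅Nb, (⊤ : Subgroup (V ⧸ RV))⁆ < Nb := commutator_top_lt_of_nilpotent Nb hNbne
  set M : Subgroup V := (⁅Nb, (⊤ : Subgroup (V ⧸ RV))⁆).comap q with hM
  have hMn : M.Normal := (Subgroup.commutator_normal Nb ⊤).comap q
  have hRVM : RV ≤ M := by
    intro v hv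
    show q v ∈ ⁅Nb, (⊤ : Subgroup (V ⧸ RV))⁆
    rw [(hqker v).mpr hv]; exact Subgroup.one_mem _
  have hMle : M ≤ N := by
    intro x hx
    have h1 : q x ∈ Nb := hlt.le hx
    obtain ⟨n, hn, hnx⟩ := h1
    have h2 : n⁻¹ * x ∈ RV := by
      rw [← hqker, map_mul, map_inv, hnx, inv_mul_cancel]
    have : x = n * (n⁻¹ * x) := by group
    rw [this]
    exact N.mul_mem hn (hRVN h2)
  have hcent : ⁅N, (⊤ : Subgroup V)⁆ ≤ M := by
    rw [Subgroup.commutator_le]
    intro n hn v _
    show q ⁅n, v⁆ ∈ ⁅Nb, (⊤ : Subgroup (V ⧸ RV))⁆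
    rw [map_commutatorElement]
    exact Subgroup.commutator_mem_commutator ⟨n, hn, rfl⟩ (Subgroup.mem_top _)
  have hpq : IsPGroup p (V ⧸ M) := by
    intro y
    induction y using QuotientGroup.induction_on with
    | H v =>
      obtain ⟨k, hk⟩ := hpgV (q v)
      refine ⟨k, ?_⟩
      rw [← QuotientGroup.mk_pow, QuotientGroup.eq_one_iff]
      apply hRVM
      rw [← hqker, map_pow]; exact hk
  -- `N ≤ V' RV`
  have hPidx : ¬ p ∣ ((P : Subgroup G).subgroupOf V).index := by
    intro hdvd
    exact P.not_dvd_index (dvd_trans hdvd (Subgroup.relIndex_dvd_index_of_le hPV))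
  have hNcomm : ∀ n ∈ N, ∃ s : V, (s : G) ∈ commutator G ∧ (s : G) ∈ (P : Subgroup G) ∧
      ∃ r ∈ RV, n = s * r := by
    intro n hn
    obtain ⟨s, hs, r, hr, hnsr⟩ := exists_mul_pResidual p ((P : Subgroup G).subgroupOf V) hPidx n
    have hsN : s ∈ N := by
      have : s = n * r⁻¹ := by rw [hnsr]; group
      rw [this]
      exact N.mul_mem hn (N.inv_mem (hRVN hr))
    have hsP : (s : G) ∈ (P : Subgroup G) := Subgroup.mem_subgroupOf.mp hs
    have hsR : (s : G) ∈ R := Subgroup.mem_subgroupOf.mp hsN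
    have h1 : (s : G) ∈ commutator G :=
      inf_pResidual_le_commutator (P : Subgroup G) P.2 (Subgroup.mem_inf.mpr ⟨hsP, hsR⟩)
    exact ⟨s, h1, hsP, r, hr, hnsr⟩
  have hfrat : ∀ L : Subgroup (V ⧸ M), L ⊔ N.map (QuotientGroup.mk' M) = ⊤ → L = ⊤ := by
    intro L hL
    apply frattini_nongenerating
    rw [eq_top_iff, ← hL]
    refine sup_le le_sup_left (le_trans ?_ le_sup_right)
    rintro _ ⟨n, hn, rfl⟩
    obtain ⟨s, hsc, hsP, r, hr, rfl⟩ := hNcomm n hn
    have hr1 : (QuotientGroup.mk' M) r = 1 := (QuotientGroup.eq_one_iff r).mpr (hRVM hr)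
    rw [map_mul, hr1, mul_one]
    have hKn : ((frattini (V ⧸ M)).comap (QuotientGroup.mk' M)).Normal :=
      (inferInstance : (frattini (V ⧸ M)).Normal).comap _
    have := hfoc ((frattini (V ⧸ M)).comap (QuotientGroup.mk' M)) hKn
      (fun a b => by
        rw [Subgroup.mem_comap, map_commutatorElement]
        exact commutator_le_frattini hpq (Subgroup.commutator_mem_commutator
          (Subgroup.mem_top _) (Subgroup.mem_top _)))
      (fun a => by
        rw [Subgroup.mem_comap, map_pow]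
        exact pow_mem_frattini hpq _) s hsc hsP
    exact this
  have hVR : ∀ g : G, ∃ v ∈ V, ∃ r ∈ R, g = v * r := by
    intro g
    obtain ⟨s, hs, r, hr, hg⟩ := exists_mul_pResidual p (P : Subgroup G) P.not_dvd_index g
    exact ⟨s, hPV hs, r, hr, hg⟩
  have hVidx : Nat.Coprime V.index p := by
    rw [Nat.coprime_comm, Nat.Prime.coprime_iff_not_dvd hp.out]
    intro hdvd
    exact P.not_dvd_index (dvd_trans hdvd (Subgroup.index_dvd_of_le hPV))
  obtain ⟨ψ, hψ⟩ := stem_lift V hVidx R hVR M hMle hcent hpq hfrat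
  have hker : R ≤ ψ.ker := pResidual_le_ker_of_isPGroup p ψ hpq
  -- index computation
  have h1 : M.index = ψ.ker.index := by
    rw [Subgroup.index_ker, MonoidHom.range_eq_top.mpr hψ, Subgroup.card_top,
      Subgroup.index_eq_card]
  have h2 : ψ.ker.index ∣ R.index := Subgroup.index_dvd_of_le hker
  have hsup : R ⊔ V = ⊤ := by
    rw [eq_top_iff]
    intro g _
    obtain ⟨v, hv, r, hr, rfl⟩ := hVR g
    exact Subgroup.mul_mem _ (Subgroup.mem_sup_right hv) (Subgroup.mem_sup_left hr)
  have h3 : R.index = N.index := by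
    show R.index = R.relIndex V
    rw [← Subgroup.relIndex_top_right R, ← hsup]
    exact Subgroup.relIndex_sup_left V R
  have h4 : M.relIndex N * N.index = M.index := Subgroup.relIndex_mul_index hMle
  have h5 : M.index ∣ N.index := by rw [h1, ← h3]; exact h2
  have hNpos : 0 < N.index := Nat.pos_of_ne_zero Subgroup.index_ne_zero_of_finite
  have h6 : M.relIndex N = 1 := by
    have h7 : M.relIndex N * N.index ≤ 1 * N.index := by
      rw [h4, one_mul]; exact Nat.le_of_dvd hNpos h5
    have h8 : M.relIndex N ≤ 1 := Nat.le_of_mul_le_mul_right h7 hNpos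
    have h9 : M.relIndex N ≠ 0 := by
      intro h0
      rw [h0, zero_mul] at h4
      exact Subgroup.index_ne_zero_of_finite h4.symm
    omega
  have hNM : N ≤ M := Subgroup.relIndex_eq_one.mp h6
  apply hlt.ne
  apply le_antisymm hlt.le
  rintro _ ⟨n, hn, rfl⟩
  exact hNM hn



end Cfsg.Agent.Helper69
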