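import Mathlib
import Cfsg.Prelude.Def_Transfer
import Cfsg.Prelude.Def_BaumannBlocks
import Cfsg.Agent.Lib.Helper69.HWMain
import Cfsg.Agent.Lib.Helper69.TateFrattini

set_option autoImplicit false
open scoped commutatorElement

/-!
# The Hall–Wielandt theorem (helper69)

`hall_wielandt`: `P` Sylow, `Q` weakly closed in `P`, `[u, z; p-1] = 1` for `u ∈ P`, `z ∈ Q`.
Then `O^p(N_G(Q)) = O^p(G) ∩ N_G(Q)`.
-/

namespace Cfsg.Agent.Helper69

open Subgroup

theorem pResidualOf_le_inf {G : Type*} [Group G] (p : ℕ) (V : Subgroup G) :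
    Cfsg.pResidualOf p V ≤ Cfsg.pResidual p G ⊓ V := by
  refine le_inf ?_ (by unfold Cfsg.pResidualOf; exact Subgroup.map_subtype_le _)
  unfold Cfsg.pResidualOf Cfsg.pResidual
  rw [MonoidHom.map_closure, Subgroup.closure_le]
  rintro _ ⟨v, hv, rfl⟩
  apply Subgroup.subset_closure
  show Nat.Coprime (orderOf ((V.subtype v : G))) p
  have hv' : Nat.Coprime (orderOf v) p := hv
  rw [Subgroup.coe_subtype, Subgroup.orderOf_coe]
  exact hv'

theorem mem_normalizer_of_map_conj_eq {G : Type*} [Group G] (Q : Subgroup G) (g : G)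
    (h : Q.map (MulAut.conj g).toMonoidHom = Q) : g ∈ normalizer (Q : Set G) := by
  rw [Subgroup.mem_normalizer_iff]
  intro t
  constructor
  · intro ht
    rw [← h]
    exact ⟨t, ht, by simp [MulAut.conj_apply]⟩
  · intro ht
    rw [← h] at ht
    obtain ⟨q, hq, hqt⟩ := ht
    have : q = t := by
      have h1 : g * q * g⁻¹ = g * t * g⁻¹ := by simpa [MulAut.conj_apply] using hqt
      have h2 := mul_right_cancel h1
      exact mul_left_cancel h2
    rw [← this]; exact hq

theorem hall_wielandt {G : Type*} [Group G] [Finite G] {p : ℕ} [hp : Fact p.Prime] (P : Sylow p G)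
    (Q : Subgroup G) (hQ : Cfsg.IsWeaklyClosed Q (P : Subgroup G))
    (h : ∀ u ∈ (P : Subgroup G), ∀ z ∈ Q, (fun y : G => y⁻¹ * z⁻¹ * y * z)^[p - 1] u = 1) :
    Cfsg.pResidualOf p (normalizer (Q : Set G)) = Cfsg.pResidual p G ⊓ normalizer (Q : Set G) := by
  classical
  obtain ⟨hQP, hQwc⟩ := hQ
  set N : Subgroup G := normalizer (Q : Set G) with hN
  -- P ≤ N
  have hPN : (P : Subgroup G) ≤ N := by
    intro g hg
    apply mem_normalizer_of_map_conj_eq
    apply hQwc
    rintro _ ⟨q, hq, rfl⟩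
    show g * q * g⁻¹ ∈ (P : Subgroup G)
    exact (P : Subgroup G).mul_mem ((P : Subgroup G).mul_mem hg (hQP hq)) ((P : Subgroup G).inv_mem hg)
  have hwc : ∀ g : G, (∀ q ∈ Q, g⁻¹ * q * g ∈ (P : Subgroup G)) → g ∈ N := by
    intro g hg
    have h1 : g⁻¹ ∈ N := by
      apply mem_normalizer_of_map_conj_eq
      apply hQwc
      rintro _ ⟨q, hq, rfl⟩
      show g⁻¹ * q * g⁻¹⁻¹ ∈ (P : Subgroup G)
      rw [inv_inv]
      exact hg q hq
    have := N.inv_mem h1
    rwa [inv_inv] at this
  apply le_antisymm (pResidualOf_le_inf p N)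
  -- Tate
  have htate : (Cfsg.pResidual p G).subgroupOf N ≤ Cfsg.pResidual p N := by
    apply pResidual_subgroupOf_le_of_elementary P N hPN
    intro K hKn hKc hKp s hsc hsP
    letI : CommGroup (↥N ⧸ K) :=
      { (inferInstance : Group (↥N ⧸ K)) with
        mul_comm := by
          intro a b
          induction a using QuotientGroup.induction_on with
          | H a =>
          induction b using QuotientGroup.induction_on with
          | H b =>
          rw [← QuotientGroup.mk_mul, ← QuotientGroup.mk_mul, QuotientGroup.eq]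
          have : (a * b)⁻¹ * (b * a) = ⁅b⁻¹, a⁻¹⁆ := by rw [commutatorElement_def]; group
          rw [this]
          exact hKc _ _ }
    have hA : ∀ a : ↥N ⧸ K, a ^ p = 1 := by
      intro a
      induction a using QuotientGroup.induction_on with
      | H a =>
      rw [← QuotientGroup.mk_pow, QuotientGroup.eq_one_iff]
      exact hKp a
    set lam : (P : Subgroup G) →* ↥N ⧸ K := (QuotientGroup.mk' K).comp (Subgroup.inclusion hPN) with hlam
    have hstab : ∀ (x : G) (hx : x ∈ (P : Subgroup G)) (n : G), n ∈ normalizer (Q : Set G) →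
        ∀ hx' : n⁻¹ * x * n ∈ (P : Subgroup G), lam ⟨n⁻¹ * x * n, hx'⟩ = lam ⟨x, hx⟩ := by
      intro x hx n hn hx'
      have h1 : (Subgroup.inclusion hPN ⟨n⁻¹ * x * n, hx'⟩ : ↥N) =
          (⟨n, hn⟩ : ↥N)⁻¹ * (Subgroup.inclusion hPN ⟨x, hx⟩) * ⟨n, hn⟩ := by
        apply Subtype.ext
        rfl
      rw [hlam, MonoidHom.comp_apply, MonoidHom.comp_apply, h1, map_mul, map_mul, map_inv]
      rw [mul_comm, ← mul_assoc, mul_inv_cancel, one_mul]
    have key := HW.transfer_kills P Q hQP hPN hwc h hA lam hstab (orderOf (s : G)) (s : G) hsP rfl hsc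
    rw [hlam, MonoidHom.comp_apply] at key
    have h2 : (Subgroup.inclusion hPN ⟨(s : G), hsP⟩ : ↥N) = s := Subtype.ext rfl
    rw [h2] at key
    exact (QuotientGroup.eq_one_iff s).mp key
  rintro x ⟨hxR, hxN⟩
  have h1 : (⟨x, hxN⟩ : ↥N) ∈ (Cfsg.pResidual p G).subgroupOf N := Subgroup.mem_subgroupOf.mpr hxR
  have h2 := htate h1
  unfold Cfsg.pResidualOf
  exact ⟨⟨x, hxN⟩, h2, rfl⟩

end Cfsg.Agent.Helper69
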