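import Mathlib

/-!
# HIG piece (N1) for helper1's S1138/S5214 server: binary-weight lemma mod `2^n - 1`.
-/

set_option autoImplicit false

namespace Cfsg.Agent.Helper69.Hig

/-- ordered version: `2^a + 2^b = 2^c + 2^d`, `a ≤ b`, `c ≤ d` forces `a = c`, `b = d`. -/
theorem two_pow_pair_ordered {a b c d : ℕ} (hab : a ≤ b) (hcd : c ≤ d)
    (h : 2 ^ a + 2 ^ b = 2 ^ c + 2 ^ d) : a = c ∧ b = d := by
  have key : ∀ {a b c d : ℕ}, a ≤ b → c ≤ d → 2 ^ a + 2 ^ b = 2 ^ c + 2 ^ d → ¬ b < d := by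
    intro a b c d hab hcd h hbd
    have h1 : 2 ^ a ≤ 2 ^ b := Nat.pow_le_pow_right (by norm_num) hab
    have h2 : 2 ^ (b + 1) ≤ 2 ^ d := Nat.pow_le_pow_right (by norm_num) hbd
    have h3 : 0 < 2 ^ c := Nat.pow_pos (by norm_num)
    rw [pow_succ] at h2
    omega
  have hbd : b = d := by
    rcases Nat.lt_trichotomy b d with h1 | h1 | h1
    · exact absurd h1 (key hab hcd h)
    · exact h1
    · exact absurd h1 (key hcd hab h.symm)
  subst hbd
  refine ⟨?_, rfl⟩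
  have : 2 ^ a = 2 ^ c := by omega
  exact Nat.pow_right_injective (le_refl 2) this

/-- (N1) binary-weight lemma mod `2^n - 1`. -/
theorem two_pow_pair {n a b c d : ℕ} (hn : 2 ≤ n) (ha : a < n) (hb : b < n) (hc : c < n)
    (hd : d < n) (h : (2 ^ a + 2 ^ b) % (2 ^ n - 1) = (2 ^ c + 2 ^ d) % (2 ^ n - 1)) :
    (a = c ∧ b = d) ∨ (a = d ∧ b = c) := by
  -- bounds
  have hpow : ∀ {x : ℕ}, x < n → 1 ≤ 2 ^ x ∧ 2 * 2 ^ x ≤ 2 ^ n := by
    intro x hx
    refine ⟨Nat.pow_pos (by norm_num), ?_⟩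
    have : 2 ^ (x + 1) ≤ 2 ^ n := Nat.pow_le_pow_right (by norm_num) hx
    rw [pow_succ] at this
    omega
  have hN4 : 4 ≤ 2 ^ n := by
    have : 2 ^ 2 ≤ 2 ^ n := Nat.pow_le_pow_right (by norm_num) hn
    simpa using this
  obtain ⟨ha1, ha2⟩ := hpow ha
  obtain ⟨hb1, hb2⟩ := hpow hb
  obtain ⟨hc1, hc2⟩ := hpow hc
  obtain ⟨hd1, hd2⟩ := hpow hd
  set N := 2 ^ n - 1 with hN
  set s1 := 2 ^ a + 2 ^ b with hs1
  set s2 := 2 ^ c + 2 ^ d with hs2
  have hs1b : 2 ≤ s1 ∧ s1 ≤ N + 1 := by omega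
  have hs2b : 2 ≤ s2 ∧ s2 ≤ N + 1 := by omega
  have heq : s1 = s2 := by
    have aux : ∀ {u v : ℕ}, 2 ≤ v → u ≤ N + 1 → u % N = v % N → ¬ v < u := by
      intro u v hv hu huv hlt
      have h0 : (u - v) % N = 0 := Nat.sub_mod_eq_zero_of_mod_eq huv
      have hdvd : N ∣ u - v := Nat.dvd_of_mod_eq_zero h0
      have hle := Nat.le_of_dvd (by omega) hdvd
      omega
    rcases Nat.lt_trichotomy s1 s2 with h1 | h1 | h1
    · exact absurd h1 (aux hs1b.1 hs2b.2 h.symm)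
    · exact h1
    · exact absurd h1 (aux hs2b.1 hs1b.2 h)
  rw [hs1, hs2] at heq
  rcases le_total a b with hab | hab
  · rcases le_total c d with hcd | hcd
    · left; exact two_pow_pair_ordered hab hcd heq
    · right
      have := two_pow_pair_ordered hab hcd (by rw [heq, add_comm])
      exact this
  · rcases le_total c d with hcd | hcd
    · right
      have := two_pow_pair_ordered hab hcd (by rw [add_comm, heq])
      exact ⟨this.2, this.1⟩
    · left
      have := two_pow_pair_ordered hab hcd (by rw [add_comm, heq, add_comm])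
      exact ⟨this.2, this.1⟩

end Cfsg.Agent.Helper69.Hig
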