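import Mathlib
import Cfsg.Agent.Lib.Helper74.M11Defs
import Cfsg.Agent.Lib.Helper69.M11LAK11

/-!
# M11 pieces (P11), (P11b) for helper74's S0434/S0435 server: `N(⟨y⟩) = 5:4` when `|C(y)| = 5`.
Both are read off from `Cfsg.Agent.Helper69.M11LA.caseI_core`.
-/

set_option autoImplicit false

namespace Cfsg.Agent.Helper69.M11

open Cfsg.Agent.Helper74.M11

variable {G : Type*} [Group G] [Finite G]

/-- the Case I structure of `N(⟨y⟩)` from `|C(y)| = 5`. -/
theorem npi_of_card_cen (y : G) (hy : orderOf y = 5) (hN : Nat.card (Nor y) = 20)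
    (hC : Nat.card (Cen y) = 5) : Cfsg.Agent.Helper7.M11LA.NPI (Subgroup.zpowers y) := by
  refine Cfsg.Agent.Helper69.M11LA.caseI_core (Subgroup.zpowers y)
    (by rw [Nat.card_zpowers, hy]) y (Subgroup.mem_zpowers y) hy hN ?_
  intro z hz hzy
  have hzC : z ∈ Cen y := by
    rw [Subgroup.mem_centralizer_iff]
    intro h hh
    rw [Set.mem_singleton_iff.mp hh]
    exact hzy.eq.symm
  have h2 : orderOf z ∣ Nat.card (Cen y) := (Cen y).orderOf_dvd_natCard hzC
  rw [hz, hC] at h2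
  revert h2; decide

/-- (P11) the element of order 4 in `N(⟨y⟩)`. -/
theorem exists_sq_inverting (y : G) (hy : orderOf y = 5) (hN : Nat.card (Nor y) = 20)
    (hC : Nat.card (Cen y) = 5) :
    ∃ v : G, orderOf v = 4 ∧ v ^ 2 * y * (v ^ 2)⁻¹ = y⁻¹ := by
  obtain ⟨f, hfN, hf, -, hall⟩ := npi_of_card_cen y hy hN hC
  refine ⟨f, hf, ?_⟩
  have h2 : orderOf (f ^ 2) = 2 := by
    rw [orderOf_pow_of_dvd (by norm_num) (by rw [hf]; decide), hf]
  exact (hall (f ^ 2) (pow_mem hfN 2) h2).2 y (Subgroup.mem_zpowers y)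

/-- (P11b) `N(⟨y⟩)` has at most 5 involutions. -/
theorem card_involutions_normalizer_le (y : G) (hy : orderOf y = 5) (hN : Nat.card (Nor y) = 20)
    (hC : Nat.card (Cen y) = 5) :
    Nat.card {t : G // orderOf t = 2 ∧ t ∈ Nor y} ≤ 5 := by
  obtain ⟨f, hfN, hf, hinv, -⟩ := npi_of_card_cen y hy hN hC
  exact le_of_eq hinv

end Cfsg.Agent.Helper69.M11
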