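import Mathlib
import Cfsg.Prelude.Def_OddOrderLocal
import Cfsg.Agent.Lib.Helper53.MC3Defs

/-!
# MC3 piece (B1) for helper53's S4079 server: an automorphism of order `p` acting nontrivially on an
elementary abelian group of order `p^2` is unipotent.
-/

set_option autoImplicit false

namespace Cfsg.Agent.Helper69.MC3

open Cfsg.Agent.Helper53.MC3
open Subgroup

/-- an automorphism `b` with `b ^ p = 1` of a finite group of order divisible by `p` has a nontrivial
fixed point. -/
theorem b1_exists_fixed_ne_one {H : Type*} [Group H] [Finite H] {p : ℕ} [Fact p.Prime]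
    (b : MulAut H) (hb : b ^ p = 1) (hp : p ∣ Nat.card H) : ∃ h : H, h ≠ 1 ∧ b h = h := by
  have hP : IsPGroup p (Subgroup.zpowers b) := by
    intro g
    obtain ⟨k, hk⟩ := Subgroup.mem_zpowers_iff.mp g.2
    refine ⟨1, ?_⟩
    apply Subtype.ext
    rw [pow_one, Subgroup.coe_pow, ← hk, Subgroup.coe_one, ← zpow_natCast, ← zpow_mul, mul_comm,
      zpow_mul, zpow_natCast, hb, one_zpow]
  have h1 : (1 : H) ∈ MulAction.fixedPoints (Subgroup.zpowers b) H := by
    intro g
    exact smul_one g
  obtain ⟨h, hfix, hne⟩ := hP.exists_fixed_point_of_prime_dvd_card_of_fixed_point H hp h1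
  refine ⟨h, hne.symm, ?_⟩
  exact hfix ⟨b, Subgroup.mem_zpowers b⟩

/-- the abstract statement inside a commutative group `W` of order `p^2`. -/
theorem b1_core {W : Type*} [CommGroup W] {p : ℕ} [Fact p.Prime] (hcard : Nat.card W = p ^ 2)
    (b : MulAut W) (hb : b ^ p = 1) (x : W) (hx : b x ≠ x) :
    ∃ w2 : W, w2 ≠ 1 ∧ b w2 = w2 ∧ (∀ w : W, w⁻¹ * b w ∈ zpowers w2) ∧
      (∀ w : W, b w = w → w ∈ zpowers w2) := by
  have hp : p.Prime := Fact.out
  haveI : Finite W := Nat.finite_of_card_ne_zero (by rw [hcard]; exact pow_ne_zero _ hp.ne_zero)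
  obtain ⟨w2, hw2, hbw2⟩ := b1_exists_fixed_ne_one b hb (by rw [hcard]; exact dvd_pow_self p (by norm_num))
  -- the fixed subgroup
  let F : Subgroup W :=
    { carrier := {w | b w = w}
      mul_mem' := fun {u v} hu hv => by
        show b (u * v) = u * v
        rw [map_mul, hu, hv]
      one_mem' := map_one b
      inv_mem' := fun {u} hu => by
        show b u⁻¹ = u⁻¹
        rw [map_inv, hu] }
  have hWF : zpowers w2 ≤ F := by
    rw [zpowers_le]; exact hbw2
  have hxF : x ∉ F := hx
  have hFcard : Nat.card F ≤ p := by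
    have hd : Nat.card F ∣ p ^ 2 := hcard ▸ card_subgroup_dvd_card F
    obtain ⟨j, hj, hFj⟩ := (Nat.dvd_prime_pow hp).mp hd
    interval_cases j
    · rw [hFj]; simpa using hp.one_lt.le
    · rw [hFj, pow_one]
    · exfalso
      apply hxF
      have : F = ⊤ := Subgroup.eq_top_of_card_eq F (by rw [hFj, hcard])
      rw [this]; exact mem_top x
  have hw2ord : orderOf w2 = p := by
    have hd : orderOf w2 ∣ p ^ 2 := hcard ▸ orderOf_dvd_natCard w2
    obtain ⟨j, hj, hoj⟩ := (Nat.dvd_prime_pow hp).mp hd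
    have hle : orderOf w2 ≤ p := by
      have : Nat.card (zpowers w2) ≤ Nat.card F := Subgroup.card_le_of_le hWF
      rw [Nat.card_zpowers] at this
      exact le_trans this hFcard
    interval_cases j
    · exfalso; apply hw2; rw [← orderOf_eq_one_iff]; simpa using hoj
    · simpa using hoj
    · exfalso
      rw [hoj] at hle
      have h2 := hp.two_le
      nlinarith
  have hW2card : Nat.card (zpowers w2) = p := by rw [Nat.card_zpowers, hw2ord]
  have hFW : zpowers w2 = F :=
    Subgroup.eq_of_le_of_card_ge hWF (by rw [hW2card]; exact hFcard)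
  -- the quotient
  have hQcard : Nat.card (W ⧸ zpowers w2) = p := by
    have h := Subgroup.card_eq_card_quotient_mul_card_subgroup (zpowers w2)
    rw [hcard, hW2card, pow_two] at h
    exact (Nat.eq_of_mul_eq_mul_right hp.pos h).symm
  haveI : Finite (W ⧸ zpowers w2) := Nat.finite_of_card_ne_zero (by rw [hQcard]; exact hp.ne_zero)
  have he : (zpowers w2).map (b : W →* W) = zpowers w2 := by
    rw [MonoidHom.map_zpowers]
    show zpowers (b w2) = zpowers w2
    rw [hbw2]
  let bq : MulAut (W ⧸ zpowers w2) := QuotientGroup.congr (zpowers w2) (zpowers w2) b he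
  have hbq_mk : ∀ (n : ℕ) (w : W), (bq ^ n) (QuotientGroup.mk w) = QuotientGroup.mk ((b ^ n) w) := by
    intro n
    induction n with
    | zero => intro w; simp
    | succ n ih =>
      intro w
      rw [pow_succ, MulAut.mul_apply, pow_succ, MulAut.mul_apply]
      have : bq (QuotientGroup.mk w) = QuotientGroup.mk (b w) := rfl
      rw [this, ih]
  have hbq : bq ^ p = 1 := by
    ext q
    induction q using QuotientGroup.induction_on with
    | H w => rw [hbq_mk, hb]; rfl
  obtain ⟨q, hq1, hbqq⟩ := b1_exists_fixed_ne_one bq hbq (by rw [hQcard])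
  have hqtop : zpowers q = ⊤ := zpowers_eq_top_of_prime_card hQcard hq1
  have hall : ∀ w : W, w⁻¹ * b w ∈ zpowers w2 := by
    intro w
    have hmem : (QuotientGroup.mk w : W ⧸ zpowers w2) ∈ zpowers q := by rw [hqtop]; exact mem_top _
    obtain ⟨k, hk⟩ := mem_zpowers_iff.mp hmem
    have h1 : bq (QuotientGroup.mk w) = QuotientGroup.mk w := by
      rw [← hk, map_zpow, hbqq]
    have h2 : (QuotientGroup.mk (b w) : W ⧸ zpowers w2) = QuotientGroup.mk w := h1
    exact QuotientGroup.eq.mp h2.symm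
  refine ⟨w2, hw2, hbw2, hall, ?_⟩
  intro w hw
  rw [hFW]
  exact hw

section B
variable {L : Type*} [Group L] {p : ℕ} [Fact p.Prime]

/-- (B1) an automorphism `a` with `a ^ p = 1` acting nontrivially on the elementary abelian group
`Ω₁ = {x | x^p = 1}` of order `p^2` is "unipotent". -/
theorem unipotent
    (hmul : ∀ x y : L, x ^ p = 1 → y ^ p = 1 → (x * y) ^ p = 1 ∧ x * y = y * x)
    (hcard : Nat.card {x : L // x ^ p = 1} = p ^ 2)
    (a : MulAut L) (ha : a ^ p = 1) (x : L) (hx : x ^ p = 1) (hax : a x ≠ x) :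
    ∃ w2 : L, w2 ≠ 1 ∧ w2 ^ p = 1 ∧ a w2 = w2 ∧
      (∀ w : L, w ^ p = 1 → ∃ k : ℕ, w⁻¹ * a w = w2 ^ k) ∧
      (∀ w : L, w ^ p = 1 → a w = w → ∃ k : ℕ, w = w2 ^ k) := by
  have hp : p.Prime := Fact.out
  let Ω : Subgroup L :=
    { carrier := {w | w ^ p = 1}
      mul_mem' := fun {u v} hu hv => (hmul u v hu hv).1
      one_mem' := one_pow p
      inv_mem' := fun {u} hu => by
        show u⁻¹ ^ p = 1
        rw [inv_pow, hu, inv_one] }
  have hΩcard : Nat.card Ω = p ^ 2 := hcard
  letI : CommGroup Ω :=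
    { (inferInstance : Group Ω) with
      mul_comm := fun u v => Subtype.ext (hmul u.1 v.1 u.2 v.2).2 }
  have hmemΩ : ∀ (f : MulAut L) (w : L), w ∈ Ω → f w ∈ Ω := by
    intro f w hw
    show (f w) ^ p = 1
    rw [← map_pow, show w ^ p = 1 from hw, map_one]
  let b : MulAut Ω :=
    { toFun := fun w => ⟨a w.1, hmemΩ a w.1 w.2⟩
      invFun := fun w => ⟨a⁻¹ w.1, hmemΩ a⁻¹ w.1 w.2⟩
      left_inv := fun w => Subtype.ext (by
        show a⁻¹ (a w.1) = w.1
        rw [← MulAut.mul_apply, inv_mul_cancel, MulAut.one_apply])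
      right_inv := fun w => Subtype.ext (by
        show a (a⁻¹ w.1) = w.1
        rw [← MulAut.mul_apply, mul_inv_cancel, MulAut.one_apply])
      map_mul' := fun u v => Subtype.ext (by
        show a (u.1 * v.1) = a u.1 * a v.1
        rw [map_mul]) }
  have hb_apply : ∀ (n : ℕ) (w : Ω), ((b ^ n) w).1 = (a ^ n) w.1 := by
    intro n
    induction n with
    | zero => intro w; simp
    | succ n ih =>
      intro w
      rw [pow_succ, MulAut.mul_apply, pow_succ, MulAut.mul_apply, ih]
      rfl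
  have hb : b ^ p = 1 := by
    ext w
    rw [hb_apply, ha]
    rfl
  obtain ⟨w2, hw2, hbw2, hall, hfix⟩ := b1_core hΩcard b hb ⟨x, hx⟩
    (fun h => hax (congrArg Subtype.val h))
  have hw2fin : IsOfFinOrder w2 := by
    haveI : Finite Ω := Nat.finite_of_card_ne_zero (by rw [hΩcard]; exact pow_ne_zero _ hp.ne_zero)
    exact isOfFinOrder_of_finite w2
  have topow : ∀ u : Ω, u ∈ zpowers w2 → ∃ k : ℕ, u.1 = w2.1 ^ k := by
    intro u hu
    rw [← hw2fin.mem_powers_iff_mem_zpowers, Submonoid.mem_powers_iff] at hu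
    obtain ⟨k, hk⟩ := hu
    exact ⟨k, by rw [← hk]; rfl⟩
  refine ⟨w2.1, fun h => hw2 (Subtype.ext h), w2.2, congrArg Subtype.val hbw2, ?_, ?_⟩
  · intro w hw
    exact topow _ (hall ⟨w, hw⟩)
  · intro w hw haw
    exact topow ⟨w, hw⟩ (hfix ⟨w, hw⟩ (Subtype.ext haw))

end B

end Cfsg.Agent.Helper69.MC3
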