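import Mathlib
import Cfsg.Prelude.Def_OddOrderLocal
import Cfsg.Agent.Lib.Helper53.MC3Defs
import Cfsg.Agent.S0112

/-!
# MC3 piece (S) for helper53's S4079 server: Suzuki's lemma in element form,
read off from the landed row S0112 (self-centralizing subgroup of order `p^2`).
-/

set_option autoImplicit false

namespace Cfsg.Agent.Helper69.MC3

open Cfsg.Agent.Helper53.MC3
open Subgroup

universe u

/-- (S) Suzuki: a `p`-group of order `p^n` with an element whose centralizer has order `p^2` has
maximal class. -/
theorem maxClass_of_card_centralizer {p : ℕ} [Fact p.Prime] :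
    ∀ (n : ℕ) (X : Type u) [Group X] [Finite X], 2 ≤ n → Nat.card X = p ^ n →
      ∀ x : X, Nat.card (Subgroup.centralizer ({x} : Set X)) = p ^ 2 →
        Group.nilpotencyClass X = n - 1 := by
  intro n X _ _ _ hX x hx
  refine Cfsg.Agent.S0112.main n X hX (Subgroup.centralizer ({x} : Set X)) hx ?_
  have hcomm := IsPGroup.commutative_of_card_eq_prime_sq hx
  have hxA : x ∈ Subgroup.centralizer ({x} : Set X) := by
    rw [Subgroup.mem_centralizer_iff]
    intro h hh
    rw [Set.mem_singleton_iff.mp hh]
  apply le_antisymm
  · intro g hg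
    rw [Subgroup.mem_centralizer_iff]
    intro h hh
    rw [Set.mem_singleton_iff.mp hh]
    exact Subgroup.mem_centralizer_iff.mp hg x hxA
  · intro g hg
    rw [Subgroup.mem_centralizer_iff]
    intro b hb
    have := hcomm ⟨b, hb⟩ ⟨g, hg⟩
    exact congrArg Subtype.val this

end Cfsg.Agent.Helper69.MC3
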