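import Mathlib
import Cfsg.Agent.Lib.Helper73.N4800Base
import Cfsg.Agent.Lib.Helper17.Burnside

/-!
# N4800 (BC) (helper69, for helper73's server, S0983): Burnside's normal `p`-complement inside a subgroup.
-/

set_option autoImplicit false

namespace Cfsg.Agent.Helper69.N4800

open Cfsg.Agent.Helper17 Cfsg.Agent.Helper73.N4800

universe u

variable {G : Type u} [Group G] [Finite G]

/-- (BC) -/
theorem exists_complement_in {p : ℕ} [Fact p.Prime] (P : Sylow p G) (H : Subgroup G)
    (hPH : (P : Subgroup G) ≤ H)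
    (hab : (P : Subgroup G) ≤ Subgroup.centralizer ((P : Subgroup G) : Set G))
    (hN : H ⊓ Subgroup.normalizer ((P : Subgroup G) : Set G) = (P : Subgroup G)) :
    ∃ L : Subgroup G, L ≤ H ∧ H ≤ Subgroup.normalizer (L : Set G) ∧
      Nat.card L * Nat.card (P : Subgroup G) = Nat.card H := by
  classical
  set P' : Sylow p ↥H := P.subtype hPH with hP'
  have hcoe : (P' : Subgroup ↥H) = (P : Subgroup G).subgroupOf H := Sylow.coe_subtype P hPH
  have hnc : Subgroup.normalizer ((P' : Subgroup ↥H) : Set ↥H) ≤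
      Subgroup.centralizer ((P' : Subgroup ↥H) : Set ↥H) := by
    intro x hx
    rw [hcoe, ← Subgroup.subgroupOf_normalizer_eq hPH, Subgroup.mem_subgroupOf] at hx
    have hxP : (x : G) ∈ (P : Subgroup G) := by
      rw [← hN]; exact ⟨x.2, hx⟩
    have hxC := hab hxP
    rw [Subgroup.mem_centralizer_iff]
    intro y hy
    rw [SetLike.mem_coe, hcoe, Subgroup.mem_subgroupOf] at hy
    apply Subtype.ext
    simp only [Subgroup.coe_mul]
    exact (Subgroup.mem_centralizer_iff.1 hxC) y hy
  obtain ⟨K, hKn, hKc, -⟩ := exists_normal_pcomplement P' hnc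
  refine ⟨K.map H.subtype, Subgroup.map_subtype_le K, ?_, ?_⟩
  · intro h hh
    rw [Subgroup.mem_normalizer_iff]
    intro x
    constructor
    · rintro ⟨k, hk, rfl⟩
      refine ⟨⟨h, hh⟩ * k * ⟨h, hh⟩⁻¹, hKn.conj_mem k hk ⟨h, hh⟩, by simp⟩
    · rintro ⟨k, hk, hkx⟩
      refine ⟨⟨h, hh⟩⁻¹ * k * ⟨h, hh⟩, ?_, ?_⟩
      · have := hKn.conj_mem k hk ⟨h, hh⟩⁻¹
        simpa using this
      · have h1 : (H.subtype k : G) = h * x * h⁻¹ := hkx
        simp only [Subgroup.subtype_apply, Subgroup.coe_mul, Subgroup.coe_inv] at h1 ⊢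
        rw [h1]; group
  · have h1 : Nat.card (K.map H.subtype) = Nat.card K :=
      Subgroup.card_map_of_injective H.subtype_injective
    have h2 : Nat.card (P' : Subgroup ↥H) = Nat.card (P : Subgroup G) := by
      rw [hcoe]
      exact Nat.card_congr (Subgroup.subgroupOfEquivOfLe hPH).toEquiv
    rw [h1, ← h2]
    exact hKc

end Cfsg.Agent.Helper69.N4800
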