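import Mathlib
import Cfsg.Agent.Lib.Helper7.M11UDefs
import Cfsg.Agent.Lib.Helper7.NSEDefs

/-!
# NSE piece (M2a) for helper7's S3592 server: `5 ∣ o(g)` or `11 ∣ o(g)` gives `|C(g)| ≤ 11`.
-/

set_option autoImplicit false

namespace Cfsg.Agent.Helper69.NSE

open Subgroup Cfsg.Agent.Helper7.M11U Cfsg.Agent.Helper7.NSE
open scoped Pointwise

universe u

section M

variable {H : Type*} [Group H] [Finite H]

omit [Finite H] in
/-- `C(g) ≤ C(g^k)` -/
theorem m2a_centralizer_le_pow (g : H) (k : ℕ) :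
    centralizer ({g} : Set H) ≤ centralizer ({g ^ k} : Set H) := by
  intro c hc
  rw [mem_centralizer_iff] at hc ⊢
  intro h hh
  rw [Set.mem_singleton_iff] at hh
  subst hh
  have h1 : Commute g c := hc g (Set.mem_singleton g)
  exact (h1.pow_left k).eq

/-- (M2a) -/
theorem cent_le_of_five_eleven (B : Base H) (g : H) (h : 5 ∣ orderOf g ∨ 11 ∣ orderOf g) :
    Nat.card (centralizer ({g} : Set H)) ≤ 11 := by
  have hpos : orderOf g ≠ 0 := (orderOf_pos g).ne'
  rcases h with h | h
  · have ho : orderOf (g ^ (orderOf g / 5)) = 5 := orderOf_pow_orderOf_div hpos h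
    have h1 := Subgroup.card_le_of_le (m2a_centralizer_le_pow g (orderOf g / 5))
    rw [B.h5 _ ho] at h1
    omega
  · have ho : orderOf (g ^ (orderOf g / 11)) = 11 := orderOf_pow_orderOf_div hpos h
    have h1 := Subgroup.card_le_of_le (m2a_centralizer_le_pow g (orderOf g / 11))
    rw [B.h11 _ ho] at h1
    exact h1

end M

end Cfsg.Agent.Helper69.NSE
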