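import Mathlib
import Cfsg.Agent.Lib.Helper7.M11UDefs
import Cfsg.Agent.Lib.Helper7.NSEDefs
import Cfsg.Agent.Lib.Helper69.NSEM2a

/-!
# NSE piece (M2c) for helper7's S3592 server: `o(g) = 2^a`, `a ≥ 2` gives `|C(g)| ≤ 16`.
-/

set_option autoImplicit false

namespace Cfsg.Agent.Helper69.NSE

open Subgroup Cfsg.Agent.Helper7.M11U Cfsg.Agent.Helper7.NSE
open scoped Pointwise

universe u

section M

variable {H : Type*} [Group H] [Finite H]

/-- (M2c) -/
theorem cent_le_of_two_pow (B : Base H) (L : Loc H) (g : H) (a : ℕ) (ha : 2 ≤ a) (h : orderOf g = 2 ^ a) :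
    Nat.card (centralizer ({g} : Set H)) ≤ 16 := by
  have hpos : orderOf g ≠ 0 := (orderOf_pos g).ne'
  have h2 : 2 ∣ orderOf g := by
    rw [h]; exact dvd_pow_self 2 (by omega)
  have ho : orderOf (g ^ (orderOf g / 2)) = 2 := orderOf_pow_orderOf_div hpos h2
  have hle := m2a_centralizer_le_pow g (orderOf g / 2)
  have hdvd : Nat.card (centralizer ({g} : Set H)) ∣ 48 := by
    have := Subgroup.card_dvd_of_le hle
    rwa [B.h48 _ ho] at this
  -- `3 ∤ |C(g)|`
  have h3 : ¬ 3 ∣ Nat.card (centralizer ({g} : Set H)) := by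
    intro h3
    haveI : Fact (Nat.Prime 3) := ⟨Nat.prime_three⟩
    obtain ⟨z, hz⟩ := exists_prime_orderOf_dvd_card' (G := ↥(centralizer ({g} : Set H))) 3 h3
    have hzo : orderOf (z : H) = 3 := by rw [Subgroup.orderOf_coe]; exact hz
    have hgz : g ∈ centralizer ({(z : H)} : Set H) := by
      rw [mem_centralizer_iff]
      intro x hx
      rw [Set.mem_singleton_iff] at hx
      subst hx
      have := mem_centralizer_iff.mp z.2 g (Set.mem_singleton g)
      exact this.symm
    have hd : orderOf g ∣ Nat.card (centralizer ({(z : H)} : Set H)) := by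
      have := orderOf_dvd_natCard (⟨g, hgz⟩ : ↥(centralizer ({(z : H)} : Set H)))
      rwa [Subgroup.orderOf_mk] at this
    rw [L.c18 _ hzo, h] at hd
    have h4 : 4 ∣ 18 := by
      have : (2 : ℕ) ^ 2 ∣ 2 ^ a := pow_dvd_pow 2 ha
      exact this.trans hd
    omega
  have hcop : Nat.Coprime (Nat.card (centralizer ({g} : Set H))) 3 :=
    ((Nat.Prime.coprime_iff_not_dvd Nat.prime_three).mpr h3).symm
  have h16 : Nat.card (centralizer ({g} : Set H)) ∣ 16 := by
    have h48 : Nat.card (centralizer ({g} : Set H)) ∣ 16 * 3 := by norm_num; exact hdvd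
    exact hcop.dvd_of_dvd_mul_right h48
  exact Nat.le_of_dvd (by norm_num) h16

end M

end Cfsg.Agent.Helper69.NSE
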