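import Mathlib
import Cfsg.Agent.Lib.Helper7.M11UDefs
import Cfsg.Agent.Lib.Helper7.NSEDefs
import Cfsg.Agent.Lib.Helper17.ConjCount

/-!
# NSE piece (M3) for helper7's S3592 server: a simple group of order 7920 has 165 involutions.
-/

set_option autoImplicit false

namespace Cfsg.Agent.Helper69.NSE

open Subgroup Cfsg.Agent.Helper7.M11U Cfsg.Agent.Helper7.NSE
open scoped Pointwise

universe u

section M

variable {H : Type*} [Group H] [Finite H]

/-- (M3) 165 involutions -/
theorem card_involutions (B : Base H) : sn H 2 = 165 := by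
  haveI : Fact (Nat.Prime 2) := ⟨Nat.prime_two⟩
  obtain ⟨t, ht⟩ := exists_prime_orderOf_dvd_card' (G := H) 2 (by rw [B.card]; norm_num)
  have hset : {g : H | orderOf g = 2} = (ConjClasses.mk t).carrier := by
    ext g
    rw [Set.mem_setOf_eq, ConjClasses.mem_carrier_iff_mk_eq, ConjClasses.mk_eq_mk_iff_isConj]
    constructor
    · intro hg
      obtain ⟨c, hc⟩ := B.hconj t g ht hg
      exact (isConj_iff.mpr ⟨c, hc⟩).symm
    · intro hg
      rw [Cfsg.Agent.Helper17.orderOf_eq_of_isConj hg]
      exact ht
  have h1 := Cfsg.Agent.Helper17.card_carrier_mul_card_centralizer t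
  rw [B.h48 t ht, B.card] at h1
  have h2 : sn H 2 = Nat.card (ConjClasses.mk t).carrier := by
    unfold sn
    rw [← hset]
    rfl
  rw [h2]
  omega

end M

end Cfsg.Agent.Helper69.NSE
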