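import Mathlib
import Cfsg.Agent.Lib.Helper7.M11UDefs
import Cfsg.Agent.Lib.Helper7.NSEDefs

/-!
# NSE piece (M4) for helper7's S3592 server: a simple group of order 7920 has 440 elements of order 3.
-/

set_option autoImplicit false

namespace Cfsg.Agent.Helper69.NSE

open Subgroup Cfsg.Agent.Helper7.M11U Cfsg.Agent.Helper7.NSE
open scoped Pointwise

universe u

section M

variable {H : Type*} [Group H] [Finite H]

/-- (M4) 440 elements of order 3 -/
theorem card_order_three (B : Base H) (L : Loc H) : sn H 3 = 440 := by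
  classical
  haveI : Fact (Nat.Prime 3) := ⟨Nat.prime_three⟩
  -- every element of order 3 lies in a Sylow 3-subgroup
  have hex : ∀ x : {x : H // orderOf x = 3}, ∃ R : Sylow 3 H, (x : H) ∈ (R : Subgroup H) := by
    intro x
    have hp : IsPGroup 3 (zpowers (x : H)) :=
      IsPGroup.of_card (n := 1) (by rw [Nat.card_zpowers, x.2, pow_one])
    obtain ⟨R, hR⟩ := hp.exists_le_sylow
    exact ⟨R, hR (mem_zpowers _)⟩
  choose f hf using hex
  have hne : ∀ x : H, orderOf x = 3 → x ≠ 1 := by
    rintro x hx rfl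
    rw [orderOf_one] at hx
    omega
  have huniq : ∀ (x : {x : H // orderOf x = 3}) (R : Sylow 3 H), (x : H) ∈ (R : Subgroup H) →
      f x = R := by
    intro x R hxR
    by_contra hne'
    exact hne x.1 x.2 (L.ti (f x) R hne' x.1 (hf x) hxR)
  have ho3 : ∀ (R : Sylow 3 H) (x : H), x ∈ (R : Subgroup H) → x ≠ 1 → orderOf x = 3 := by
    intro R x hx hx1
    have h3 := L.exp3 R x hx
    have hd : orderOf x ∣ 3 := orderOf_dvd_of_pow_eq_one h3
    rcases (Nat.dvd_prime Nat.prime_three).mp hd with h | h
    · exact absurd (orderOf_eq_one_iff.mp h) hx1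
    · exact h
  -- fibers
  have hfib : ∀ R : Sylow 3 H, Nat.card {x : {x : H // orderOf x = 3} // f x = R} = 8 := by
    intro R
    have hmem : ∀ x : {x : {x : H // orderOf x = 3} // f x = R}, (x.1.1 : H) ∈ (R : Subgroup H) := by
      intro x
      have h1 := hf x.1
      rw [x.2] at h1
      exact h1
    let e : {x : {x : H // orderOf x = 3} // f x = R} ≃
        ↥((((R : Subgroup H) : Set H)) \ {1}) :=
      { toFun := fun x => ⟨x.1.1, hmem x, fun h => hne x.1.1 x.1.2 h⟩
        invFun := fun x => ⟨⟨x.1, ho3 R x.1 x.2.1 x.2.2⟩, huniq _ R x.2.1⟩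
        left_inv := fun x => rfl
        right_inv := fun x => rfl }
    rw [Nat.card_congr e, Nat.card_coe_set_eq,
      Set.ncard_sdiff_singleton_of_mem (Subgroup.one_mem _), ← Nat.card_coe_set_eq]
    have := L.card3 R
    change Nat.card ↥(R : Subgroup H) - 1 = 8
    omega
  have e := (Equiv.sigmaFiberEquiv f).symm
  unfold sn
  rw [Nat.card_congr e]
  letI : Fintype (Sylow 3 H) := Fintype.ofFinite _
  rw [Nat.card_sigma]
  simp only [hfib, Finset.sum_const, Finset.card_univ, smul_eq_mul]
  rw [← Nat.card_eq_fintype_card, L.n55]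

end M

end Cfsg.Agent.Helper69.NSE
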