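import Mathlib

/-!
# O2520 / S3C sub-server (helper20), piece Q5: three involutions in `C(z)`.
-/

set_option autoImplicit false

namespace Cfsg.Agent.Helper69.O2520

universe u

/-- (Q5) -/
theorem s3c_three_involutions {G : Type u} [Group G] [Finite G] (P : Subgroup G)
    (hP : Nat.card P = 9) (hC : Subgroup.centralizer (P : Set G) = P) (z : G) (hz : z ∈ P)
    (j : G) (hj : orderOf j = 2) (hjz : j * z = z * j) :
    3 ≤ Nat.card {i : G // orderOf i = 2 ∧ i * z = z * i} := by
  classical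
  haveI : Fintype G := Fintype.ofFinite G
  -- j ∉ P
  have hjP : j ∉ P := by
    intro h
    have h1 : orderOf (⟨j, h⟩ : P) ∣ Nat.card P := orderOf_dvd_natCard _
    rw [Subgroup.orderOf_mk, hj, hP] at h1
    omega
  have hex : ∃ p ∈ P, p * j ≠ j * p := by
    by_contra hcon
    simp only [not_exists, not_and, not_not] at hcon
    apply hjP
    rw [← hC, Subgroup.mem_centralizer_iff]
    exact hcon
  obtain ⟨p, hp, hpj⟩ := hex
  have hp9 : p ^ 9 = 1 := by
    have h1 : (⟨p, hp⟩ : P) ^ Nat.card P = 1 := pow_card_eq_one'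
    rw [hP] at h1
    have h2 := congrArg Subtype.val h1
    simpa using h2
  have hpz : Commute p z := by
    have h1 : p ∈ Subgroup.centralizer (P : Set G) := by rw [hC]; exact hp
    exact (Subgroup.mem_centralizer_iff.mp h1 z hz).symm
  have hjz' : Commute j z := hjz
  have hconj : ∀ g : G, Commute g z → (orderOf (g * j * g⁻¹) = 2 ∧ (g * j * g⁻¹) * z = z * (g * j * g⁻¹)) := by
    intro g hg
    refine ⟨?_, ?_⟩
    · have h1 := (MulAut.conj g).orderOf_eq j
      rw [MulAut.conj_apply] at h1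
      rw [h1, hj]
    · exact ((hg.mul_left hjz').mul_left hg.inv_left)
  -- the three involutions are distinct
  have h12 : j ≠ p * j * p⁻¹ := by
    intro h
    apply hpj
    calc p * j = (p * j * p⁻¹) * p := by simp only [mul_assoc, inv_mul_cancel, mul_one]
      _ = j * p := by rw [← h]
  have h23 : p * j * p⁻¹ ≠ p ^ 2 * j * (p ^ 2)⁻¹ := by
    intro h
    apply h12
    have h1 : p ^ 2 * j * (p ^ 2)⁻¹ = p * (p * j * p⁻¹) * p⁻¹ := by
      simp only [pow_two, mul_inv_rev, mul_assoc]
    rw [h1] at h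
    have h2 : p⁻¹ * (p * j * p⁻¹) * p = p⁻¹ * (p * (p * j * p⁻¹) * p⁻¹) * p := by rw [← h]
    simpa only [mul_assoc, inv_mul_cancel_left, inv_mul_cancel, mul_one] using h2
  have h13 : j ≠ p ^ 2 * j * (p ^ 2)⁻¹ := by
    intro h
    have hc2 : Commute (p ^ 2) j := by
      show p ^ 2 * j = j * p ^ 2
      calc p ^ 2 * j = (p ^ 2 * j * (p ^ 2)⁻¹) * p ^ 2 := by
            simp only [mul_assoc, inv_mul_cancel, mul_one]
        _ = j * p ^ 2 := by rw [← h]
    have hc10 : Commute ((p ^ 2) ^ 5) j := hc2.pow_left 5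
    have h10 : (p ^ 2) ^ 5 = p := by
      rw [← pow_mul]
      have : p ^ (2 * 5) = p ^ 9 * p := by rw [← pow_succ]
      rw [this, hp9, one_mul]
    rw [h10] at hc10
    exact hpj hc10
  have e1 := hconj 1 (Commute.one_left z)
  simp only [one_mul, inv_one, mul_one] at e1
  have e2 := hconj p hpz
  have e3 := hconj (p ^ 2) (hpz.pow_left 2)
  rw [Nat.card_eq_fintype_card]
  have h := Fintype.two_lt_card_iff.mpr
    ⟨(⟨j, e1⟩ : {i : G // orderOf i = 2 ∧ i * z = z * i}), ⟨p * j * p⁻¹, e2⟩,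
      ⟨p ^ 2 * j * (p ^ 2)⁻¹, e3⟩,
      fun h => h12 (congrArg Subtype.val h), fun h => h13 (congrArg Subtype.val h),
      fun h => h23 (congrArg Subtype.val h)⟩
  exact h

end Cfsg.Agent.Helper69.O2520
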