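import Mathlib
import Cfsg.Agent.Lib.Helper7.O5760Defs

/-!
# O5760 (D9) (helper69, for helper7's server, S0980): the stabilizer of a parallel class of the affine plane
of order 4 is a proper subgroup of index at most 5.
-/

set_option autoImplicit false

namespace Cfsg.Agent.Helper69.O5760

open Cfsg MulAction Cfsg.Agent.Helper7.O5760

universe u v

/-- parallelism of two sets of points -/
def d9par {X : Type v} (l l' : Set X) : Prop := l = l' ∨ Disjoint l l'

theorem d9par_symm {X : Type v} {l l' : Set X} (h : d9par l l') : d9par l' l :=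
  h.imp Eq.symm (fun hd => hd.symm)

theorem d9par_image {X : Type v} {f : X → X} (hf : Function.Injective f) (l l' : Set X) :
    d9par (f '' l) (f '' l') ↔ d9par l l' := by
  unfold d9par
  rw [Set.image_eq_image hf, Set.disjoint_image_iff hf]

/-- (D9) -/
theorem exists_subgroup_index_le_five {G : Type u} [Group G] [Finite G] {X : Type v} [MulAction G X]
    (z : X → G) (h : Hyp G X z)
    (hbasic : (∀ (g : G) (a b : X) (k : G), k ∈ K3 G a b → g * k * g⁻¹ ∈ K3 G (g • a) (g • b)) ∧
      (∀ (g : G) (a b c : X), c ∈ line G a b → g • c ∈ line G (g • a) (g • b)) ∧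
      (∀ a b c d : X, c ∈ line G a b → d ∈ line G a b → K3 G a b ≤ K3 G c d) ∧
      (∀ a b : X, a ∈ line G a b ∧ b ∈ line G a b))
    (hline : ∀ a b c d : X, a ≠ b → c ≠ d → c ∈ line G a b → d ∈ line G a b →
      line G c d = line G a b)
    (hcard : ∀ a b : X, a ≠ b → Nat.card (line G a b) = 4)
    (hpar : ∀ a b p : X, a ≠ b → p ∉ line G a b → ∃ q : X, q ≠ p ∧
      Disjoint (line G p q) (line G a b) ∧
      ∀ q' : X, q' ≠ p → Disjoint (line G p q') (line G a b) → line G p q' = line G p q)
    (htrans : ∀ a b c d e f : X, a ≠ b → c ≠ d → e ≠ f →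
      (line G a b = line G c d ∨ Disjoint (line G a b) (line G c d)) →
      (line G c d = line G e f ∨ Disjoint (line G c d) (line G e f)) →
      (line G a b = line G e f ∨ Disjoint (line G a b) (line G e f))) :
    ∃ W : Subgroup G, W ≠ ⊤ ∧ W.index ≤ 5 := by
  classical
  obtain ⟨-, hb2, -, hb4⟩ := hbasic
  haveI : Finite X := Nat.finite_of_card_ne_zero (by rw [h.cardX]; norm_num)
  haveI : Fintype X := Fintype.ofFinite X
  have hXcard : Fintype.card X = 16 := by rw [← Nat.card_eq_fintype_card]; exact h.cardX
  obtain ⟨a0, b0, hab⟩ : ∃ a b : X, a ≠ b := by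
    have h1 : 1 < Nat.card X := by rw [h.cardX]; norm_num
    haveI := Finite.one_lt_card_iff_nontrivial.1 h1
    exact exists_pair_ne X
  have hinj : ∀ g : G, Function.Injective (fun x : X => g • x) := fun g => MulAction.injective g
  have hgne : ∀ g : G, g • a0 ≠ g • b0 := fun g hh => hab (hinj g hh)
  -- equivariance of lines
  have himg : ∀ (g : G) (a b : X), line G (g • a) (g • b) = (fun x => g • x) '' line G a b := by
    intro g a b
    apply Set.Subset.antisymm
    · intro c hc
      refine ⟨g⁻¹ • c, ?_, by simp⟩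
      have h1 := hb2 g⁻¹ (g • a) (g • b) c hc
      simpa using h1
    · rintro _ ⟨c, hc, rfl⟩
      exact hb2 g a b c hc
  have htr : ∀ a b c d e f : X, a ≠ b → c ≠ d → e ≠ f → d9par (line G a b) (line G c d) →
      d9par (line G c d) (line G e f) → d9par (line G a b) (line G e f) := htrans
  -- pulling back parallelism along `g`
  have hpull : ∀ (g g' : G), d9par (line G (g • a0) (g • b0)) (line G (g' • a0) (g' • b0)) →
      d9par (line G a0 b0) (line G ((g⁻¹ * g') • a0) ((g⁻¹ * g') • b0)) := by
    intro g g' hp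
    have h1 := (d9par_image (hinj g⁻¹) _ _).2 hp
    rw [← himg, ← himg, inv_smul_smul, inv_smul_smul, ← mul_smul, ← mul_smul] at h1
    exact h1
  -- the subgroup
  let W : Subgroup G :=
    { carrier := {g | d9par (line G (g • a0) (g • b0)) (line G a0 b0)}
      one_mem' := by
        show d9par (line G ((1 : G) • a0) ((1 : G) • b0)) (line G a0 b0)
        rw [one_smul, one_smul]; exact Or.inl rfl
      mul_mem' := by
        intro g g' hg hg'
        show d9par (line G ((g * g') • a0) ((g * g') • b0)) (line G a0 b0)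
        have hg1 : d9par (line G (g • a0) (g • b0)) (line G a0 b0) := hg
        have hg2 : d9par (line G (g' • a0) (g' • b0)) (line G a0 b0) := hg'
        have h1 : d9par (line G ((g * g') • a0) ((g * g') • b0)) (line G (g • a0) (g • b0)) := by
          rw [mul_smul, mul_smul, himg g (g' • a0) (g' • b0), himg g a0 b0]
          exact (d9par_image (hinj g) _ _).2 hg2
        exact htr _ _ _ _ _ _ (hgne (g * g')) (hgne g) hab h1 hg1
      inv_mem' := by
        intro g hg
        show d9par (line G (g⁻¹ • a0) (g⁻¹ • b0)) (line G a0 b0)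
        have hg1 : d9par (line G (g • a0) (g • b0)) (line G a0 b0) := hg
        have h1 := (d9par_image (hinj g⁻¹) _ _).2 hg1
        rw [← himg, ← himg, inv_smul_smul, inv_smul_smul] at h1
        exact d9par_symm h1 }
  have hWmem : ∀ g : G, g ∈ W ↔ d9par (line G (g • a0) (g • b0)) (line G a0 b0) := fun g => Iff.rfl
  refine ⟨W, ?_, ?_⟩
  · -- `W ≠ ⊤`
    intro hW
    have hex : ∃ c : X, c ∉ line G a0 b0 := by
      by_contra hall
      push_neg at hall
      have h1 : line G a0 b0 = Set.univ := Set.eq_univ_of_forall hall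
      have h4 := hcard a0 b0 hab
      rw [h1, Nat.card_coe_set_eq, Set.ncard_univ, h.cardX] at h4
      norm_num at h4
    obtain ⟨c, hc⟩ := hex
    have hac : a0 ≠ c := by
      intro hh; apply hc; rw [← hh]; exact (hb4 a0 b0).1
    obtain ⟨g, hg1, hg2⟩ := h.twoTrans a0 b0 a0 c hab hac
    have hgW : g ∈ W := by rw [hW]; exact Subgroup.mem_top g
    rw [hWmem, hg1, hg2] at hgW
    rcases hgW with heq | hdis
    · apply hc; rw [← heq]; exact (hb4 a0 c).2
    · exact Set.disjoint_left.1 hdis (hb4 a0 c).1 (hb4 a0 b0).1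
  · -- index
    have hq : ∀ g : G, ∃ q : X, q ≠ a0 ∧ d9par (line G a0 q) (line G (g • a0) (g • b0)) := by
      intro g
      by_cases hin : a0 ∈ line G (g • a0) (g • b0)
      · by_cases h1 : g • a0 = a0
        · refine ⟨g • b0, ?_, Or.inl ?_⟩
          · intro h2; exact hgne g (h1.trans h2.symm)
          · rw [h1]
        · refine ⟨g • a0, h1, Or.inl ?_⟩
          exact hline (g • a0) (g • b0) a0 (g • a0) (hgne g) (Ne.symm h1) hin (hb4 _ _).1
      · obtain ⟨q, hq1, hq2, -⟩ := hpar (g • a0) (g • b0) a0 (hgne g) hin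
        exact ⟨q, hq1, Or.inr hq2⟩
    choose q hq1 hq2 using hq
    -- distinct cosets give distinct lines through `a0`
    have hdist : ∀ g g' : G, line G a0 (q g) = line G a0 (q g') → g⁻¹ * g' ∈ W := by
      intro g g' heq
      have h1 : d9par (line G (g • a0) (g • b0)) (line G a0 (q g)) := d9par_symm (hq2 g)
      have h2 : d9par (line G a0 (q g)) (line G (g' • a0) (g' • b0)) := by rw [heq]; exact hq2 g'
      have h3 := htr _ _ _ _ _ _ (hgne g) (hq1 g).symm (hgne g') h1 h2
      rw [hWmem]
      exact d9par_symm (hpull g g' h3)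
    -- the punctured lines
    haveI : Fintype (G ⧸ W) := Fintype.ofFinite _
    let T : G ⧸ W → Finset X := fun c =>
      (Finset.univ.filter (fun x => x ∈ line G a0 (q (Quotient.out c)))).erase a0
    have hTcard : ∀ c, (T c).card = 3 := by
      intro c
      have h4 := hcard a0 (q (Quotient.out c)) (hq1 _).symm
      rw [Nat.card_eq_fintype_card, Fintype.card_subtype] at h4
      have hmem : a0 ∈ Finset.univ.filter (fun x => x ∈ line G a0 (q (Quotient.out c))) := by
        rw [Finset.mem_filter]; exact ⟨Finset.mem_univ _, (hb4 _ _).1⟩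
      show ((Finset.univ.filter (fun x => x ∈ line G a0 (q (Quotient.out c)))).erase a0).card = 3
      rw [Finset.card_erase_of_mem hmem, h4]
    have hTdisj : ∀ c ∈ (Finset.univ : Finset (G ⧸ W)), ∀ c' ∈ (Finset.univ : Finset (G ⧸ W)),
        c ≠ c' → Disjoint (T c) (T c') := by
      intro c _ c' _ hne
      rw [Finset.disjoint_left]
      intro x hx hx'
      simp only [T, Finset.mem_erase, Finset.mem_filter, Finset.mem_univ, true_and] at hx hx'
      apply hne
      have e1 : line G a0 x = line G a0 (q (Quotient.out c)) :=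
        hline a0 (q (Quotient.out c)) a0 x (hq1 _).symm (Ne.symm hx.1) (hb4 _ _).1 hx.2
      have e2 : line G a0 x = line G a0 (q (Quotient.out c')) :=
        hline a0 (q (Quotient.out c')) a0 x (hq1 _).symm (Ne.symm hx'.1) (hb4 _ _).1 hx'.2
      have h5 := hdist (Quotient.out c) (Quotient.out c') (e1.symm.trans e2)
      have h6 : (QuotientGroup.mk (Quotient.out c) : G ⧸ W) = QuotientGroup.mk (Quotient.out c') :=
        QuotientGroup.eq.2 h5
      rw [QuotientGroup.out_eq', QuotientGroup.out_eq'] at h6
      exact h6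
    have hsub : (Finset.univ : Finset (G ⧸ W)).biUnion T ⊆ (Finset.univ : Finset X).erase a0 := by
      intro x hx
      rw [Finset.mem_biUnion] at hx
      obtain ⟨c, -, hxc⟩ := hx
      simp only [T, Finset.mem_erase, Finset.mem_filter, Finset.mem_univ, true_and] at hxc
      rw [Finset.mem_erase]
      exact ⟨hxc.1, Finset.mem_univ _⟩
    have h7 := Finset.card_le_card hsub
    rw [Finset.card_biUnion hTdisj, Finset.card_erase_of_mem (Finset.mem_univ a0), Finset.card_univ,
      hXcard] at h7
    simp only [hTcard, Finset.sum_const, smul_eq_mul, Finset.card_univ] at h7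
    have h8 : W.index = Fintype.card (G ⧸ W) := by
      rw [Subgroup.index_eq_card, Nat.card_eq_fintype_card]
    rw [h8]
    omega

end Cfsg.Agent.Helper69.O5760
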