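import Mathlib
import Cfsg.Agent.Lib.Helper69.PiParts

set_option autoImplicit false

/-!
# Counting classes of `π`-elements via commuting pairs
-/

namespace Cfsg.Agent.Helper69

variable {X : Type*} [Group X] (π : Set ℕ)

theorem isPiElt_conj {π : Set ℕ} (b x : X) (hx : IsPiElt π x) : IsPiElt π (b * x * b⁻¹) := by
  have := hx.map (MulAut.conj b).toMonoidHom
  simpa using this

/-- the `π`-elements as a sub-action of the conjugation action -/
def piSub : SubMulAction (ConjAct X) X where
  carrier := {x | IsPiElt π x}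
  smul_mem' := by
    intro c x hx
    show IsPiElt π (c • x)
    rw [ConjAct.smul_def]
    exact isPiElt_conj _ x hx

/-- the predicate of the statements: a conjugacy class consisting of `π`-elements -/
def IsPiClass (C : ConjClasses X) : Prop :=
  ∀ q : ℕ, q.Prime → (∃ g : X, ConjClasses.mk g = C ∧ q ∣ orderOf g) → q ∈ π

theorem isPiClass_mk (a : X) : IsPiClass π (ConjClasses.mk a) ↔ IsPiElt π a := by
  constructor
  · intro h q hq hd
    exact h q hq ⟨a, rfl, hd⟩
  · rintro h q hq ⟨g, hg, hd⟩
    rw [ConjClasses.mk_eq_mk_iff_isConj] at hg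
    obtain ⟨c, hc⟩ := isConj_iff.mp hg
    have : orderOf g = orderOf a := by
      rw [← hc]
      have := (MulAut.conj c).orderOf_eq g
      simpa using this.symm
    rw [this] at hd
    exact h q hq hd

/-- commuting pairs whose first entry is a `π`-element -/
abbrev CPpi (X : Type*) [Group X] (π : Set ℕ) := {p : X × X // IsPiElt π p.1 ∧ Commute p.1 p.2}

/-- the equivalence used for Burnside's lemma -/
noncomputable def cpPiEquiv :
    CPpi X π ≃ Σ c : ConjAct X, MulAction.fixedBy ↥(piSub (X := X) π) c where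
  toFun p := ⟨ConjAct.toConjAct p.1.2, ⟨⟨p.1.1, p.2.1⟩, by
    rw [MulAction.mem_fixedBy]
    apply Subtype.ext
    show ConjAct.toConjAct p.1.2 • p.1.1 = p.1.1
    rw [ConjAct.smul_def, ConjAct.ofConjAct_toConjAct]
    have h : p.1.1 * p.1.2 = p.1.2 * p.1.1 := p.2.2
    rw [← h]; group⟩⟩
  invFun s := ⟨(s.2.1.1, ConjAct.ofConjAct s.1), s.2.1.2, by
    have h := s.2.2
    rw [MulAction.mem_fixedBy] at h
    have h' : s.1 • (s.2.1.1 : X) = s.2.1.1 := congrArg Subtype.val h
    rw [ConjAct.smul_def] at h'
    show s.2.1.1 * ConjAct.ofConjAct s.1 = ConjAct.ofConjAct s.1 * s.2.1.1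
    calc (s.2.1.1 : X) * ConjAct.ofConjAct s.1
        = (ConjAct.ofConjAct s.1 * s.2.1.1 * (ConjAct.ofConjAct s.1)⁻¹) * ConjAct.ofConjAct s.1 := by
          rw [h']
      _ = ConjAct.ofConjAct s.1 * s.2.1.1 := by group⟩
  left_inv p := by
    apply Subtype.ext
    rfl
  right_inv s := by
    rfl

theorem card_cpPi [Finite X] :
    Nat.card (CPpi X π) = Nat.card {C : ConjClasses X // IsPiClass π C} * Nat.card X := by
  classical
  haveI : Fintype X := Fintype.ofFinite X
  haveI : Fintype (ConjAct X) := inferInstanceAs (Fintype X)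
  haveI : Fintype ↥(piSub (X := X) π) := Fintype.ofFinite _
  haveI : Fintype (Quotient (MulAction.orbitRel (ConjAct X) ↥(piSub (X := X) π))) :=
    Fintype.ofFinite _
  have B := MulAction.sum_card_fixedBy_eq_card_orbits_mul_card_group (ConjAct X)
    ↥(piSub (X := X) π)
  have e1 : Nat.card (CPpi X π) =
      ∑ c : ConjAct X, Fintype.card (MulAction.fixedBy ↥(piSub (X := X) π) c) := by
    rw [Nat.card_congr (cpPiEquiv π), Nat.card_eq_fintype_card, Fintype.card_sigma]
  have e2 : Nat.card {C : ConjClasses X // IsPiClass π C} =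
      Fintype.card (Quotient (MulAction.orbitRel (ConjAct X) ↥(piSub (X := X) π))) := by
    rw [← Nat.card_eq_fintype_card]
    apply Nat.card_congr
    refine Equiv.subtypeQuotientEquivQuotientSubtype (fun a : X => a ∈ piSub (X := X) π)
      (s₁ := IsConj.setoid X) (IsPiClass π) ?_ ?_
    · intro a
      exact (isPiClass_mk π a).symm
    · intro x y
      show MulAction.orbitRel (ConjAct X) ↥(piSub (X := X) π) x y ↔ IsConj (x : X) (y : X)
      rw [MulAction.orbitRel_apply, MulAction.mem_orbit_iff, isConj_comm, isConj_iff]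
      constructor
      · rintro ⟨c, hc⟩
        refine ⟨ConjAct.ofConjAct c, ?_⟩
        have := congrArg Subtype.val hc
        rw [← this]
        rfl
      · rintro ⟨c, hc⟩
        refine ⟨ConjAct.toConjAct c, ?_⟩
        apply Subtype.ext
        rw [← hc]
        rfl
  have e3 : Fintype.card (ConjAct X) = Nat.card X := by
    rw [← Nat.card_eq_fintype_card]
    exact Nat.card_congr ConjAct.ofConjAct.toEquiv
  rw [e1, B, e2, e3]

end Cfsg.Agent.Helper69
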