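import Mathlib

/-!
# Helper lemmas for S4245 (subgroup of prime power index that is cyclic-by-(cyclic 2-group))

* `MC X` : `X` has a normal cyclic subgroup with cyclic quotient of 2-power order; closed under
  injective preimages and surjective images.
* `relIndex_dvd_index_of_normal_right` : for `N` normal, `A.relIndex N ∣ A.index`.
-/

set_option autoImplicit false

namespace Cfsg.Agent.Helper69.PPI

universe u v

/-- `X` has a normal cyclic subgroup with cyclic quotient of order a power of `2`. -/
def MC (X : Type u) [Group X] : Prop :=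
  ∃ (B : Subgroup X) (_ : B.Normal), IsCyclic B ∧ IsCyclic (X ⧸ B) ∧ ∃ r : ℕ, Nat.card (X ⧸ B) = 2 ^ r

theorem MC.of_injective {H : Type u} {X : Type v} [Group H] [Group X] [Finite X]
    (f : H →* X) (hf : Function.Injective f) (h : MC X) : MC H := by
  obtain ⟨B, hBn, hBc, hQc, r, hr⟩ := h
  let φ : H →* X ⧸ B := (QuotientGroup.mk' B).comp f
  refine ⟨φ.ker, inferInstance, ?_, ?_, ?_⟩
  · -- φ.ker embeds in B
    have hmem : ∀ x : φ.ker, f x.1 ∈ B := by
      intro x
      have hx : φ x.1 = 1 := x.2
      have : (QuotientGroup.mk' B) (f x.1) = 1 := hx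
      rwa [QuotientGroup.mk'_apply, QuotientGroup.eq_one_iff] at this
    let ψ : φ.ker →* B :=
      { toFun := fun x => ⟨f x.1, hmem x⟩
        map_one' := by ext; simp
        map_mul' := by intro x y; ext; simp }
    have hψ : Function.Injective ψ := by
      intro x y hxy
      have : f x.1 = f y.1 := congrArg (fun b : B => (b : X)) hxy
      exact Subtype.ext (hf this)
    exact isCyclic_of_injective ψ hψ
  · have e := QuotientGroup.quotientKerEquivRange φ
    have : IsCyclic φ.range := inferInstance
    exact isCyclic_of_surjective e.symm e.symm.surjective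
  · have e := QuotientGroup.quotientKerEquivRange φ
    have h1 : Nat.card (H ⧸ φ.ker) = Nat.card φ.range := Nat.card_congr e.toEquiv
    have h2 : Nat.card φ.range ∣ Nat.card (X ⧸ B) := Subgroup.card_subgroup_dvd_card _
    rw [hr] at h2
    obtain ⟨k, -, hk⟩ := (Nat.dvd_prime_pow Nat.prime_two).1 h2
    exact ⟨k, by rw [h1, hk]⟩

theorem MC.of_surjective {X : Type u} {Y : Type v} [Group X] [Group Y] [Finite X]
    (f : X →* Y) (hf : Function.Surjective f) (h : MC X) : MC Y := by
  obtain ⟨B, hBn, hBc, hQc, r, hr⟩ := h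
  have hn : (B.map f).Normal := Subgroup.Normal.map hBn f hf
  refine ⟨B.map f, hn, ?_, ?_⟩
  · exact isCyclic_of_surjective (f.subgroupMap B) (f.subgroupMap_surjective B)
  · let ψ : X →* Y ⧸ B.map f := (QuotientGroup.mk' (B.map f)).comp f
    have hψ : Function.Surjective ψ :=
      (QuotientGroup.mk'_surjective (B.map f)).comp hf
    have hle : B ≤ ψ.ker := by
      intro b hb
      rw [MonoidHom.mem_ker]
      show (QuotientGroup.mk' (B.map f)) (f b) = 1
      rw [QuotientGroup.mk'_apply, QuotientGroup.eq_one_iff]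
      exact Subgroup.mem_map_of_mem f hb
    let L : X ⧸ B →* Y ⧸ B.map f := QuotientGroup.lift B ψ hle
    have hL : Function.Surjective L := by
      intro y
      obtain ⟨x, hx⟩ := hψ y
      exact ⟨QuotientGroup.mk x, by simpa [L] using hx⟩
    refine ⟨isCyclic_of_surjective L hL, ?_⟩
    have hfin : Finite (X ⧸ B) := inferInstance
    have h2 : Nat.card (Y ⧸ B.map f) ∣ Nat.card (X ⧸ B) := Subgroup.card_dvd_of_surjective L hL
    rw [hr] at h2
    obtain ⟨k, -, hk⟩ := (Nat.dvd_prime_pow Nat.prime_two).1 h2
    exact ⟨k, hk⟩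

/-- For `N` normal, `|N : A ∩ N|` divides `|G : A|`. -/
theorem relIndex_dvd_index_of_normal_right {G : Type u} [Group G] [Finite G] (A N : Subgroup G)
    [hN : N.Normal] : A.relIndex N ∣ A.index := by
  have h1 : A.relIndex (A ⊔ N) ∣ A.index := Subgroup.relIndex_dvd_index_of_le le_sup_left
  have h2 : A.relIndex (A ⊔ N) = A.relIndex N := by
    -- cardinal arithmetic
    have c1 : Nat.card A * A.relIndex (A ⊔ N) = Nat.card (A ⊔ N : Subgroup G) := by
      have := Subgroup.relIndex_mul_relIndex (⊥ : Subgroup G) A (A ⊔ N) bot_le le_sup_left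
      rwa [Subgroup.relIndex_bot_left, Subgroup.relIndex_bot_left] at this
    have c2 : Nat.card N * N.relIndex (A ⊔ N) = Nat.card (A ⊔ N : Subgroup G) := by
      have := Subgroup.relIndex_mul_relIndex (⊥ : Subgroup G) N (A ⊔ N) bot_le le_sup_right
      rwa [Subgroup.relIndex_bot_left, Subgroup.relIndex_bot_left] at this
    have c3 : N.relIndex (A ⊔ N) = N.relIndex A := Subgroup.relIndex_sup_right A N
    have c4 : (A ⊓ N).relIndex A = N.relIndex A := Subgroup.inf_relIndex_left A N
    have c5 : Nat.card (A ⊓ N : Subgroup G) * (A ⊓ N).relIndex A = Nat.card A := by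
      have := Subgroup.relIndex_mul_relIndex (⊥ : Subgroup G) (A ⊓ N) A bot_le inf_le_left
      rwa [Subgroup.relIndex_bot_left, Subgroup.relIndex_bot_left] at this
    have c6 : (A ⊓ N).relIndex N = A.relIndex N := Subgroup.inf_relIndex_right A N
    have c7 : Nat.card (A ⊓ N : Subgroup G) * (A ⊓ N).relIndex N = Nat.card N := by
      have := Subgroup.relIndex_mul_relIndex (⊥ : Subgroup G) (A ⊓ N) N bot_le inf_le_right
      rwa [Subgroup.relIndex_bot_left, Subgroup.relIndex_bot_left] at this
    rw [c4] at c5
    rw [c6] at c7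
    rw [c3] at c2
    have hA : 0 < Nat.card A := Nat.card_pos
    have key : Nat.card A * A.relIndex (A ⊔ N) = Nat.card A * A.relIndex N := by
      rw [c1, ← c2, ← c7, ← c5]
      ring
    exact Nat.eq_of_mul_eq_mul_left hA key
  rw [← h2]; exact h1

end Cfsg.Agent.Helper69.PPI
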