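import Mathlib
import Cfsg.Agent.S0564

/-!
# A finite group with a cyclic subgroup of prime power index is solvable (via Kegel–Wielandt)
-/

set_option autoImplicit false

namespace Cfsg.Agent.Helper69.PPI

universe u

theorem factorization_arith (q h e : ℕ) (hq : q.Prime) (hh : ¬ q ∣ h) (h0 : h ≠ 0) :
    (h * q ^ e).factorization q = e := by
  rw [Nat.factorization_mul h0 (pow_ne_zero _ hq.ne_zero)]
  simp [Nat.factorization_eq_zero_of_not_dvd hh, hq.factorization_self]

theorem isNilpotent_of_isCyclic {X : Type u} [Group X] (hX : IsCyclic X) : Group.IsNilpotent X := by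
  letI : CommGroup X := IsCyclic.commGroup
  exact CommGroup.isNilpotent

/-- A finite group with a cyclic subgroup of prime power index is solvable. -/
theorem isSolvable_of_cyclic_primePow_index {G : Type u} [Group G] [Finite G] (C : Subgroup G)
    (hC : IsCyclic C) (q m : ℕ) (hq : q.Prime) (hidx : C.index = q ^ m) : Group.IsSolvable G := by
  haveI := Fact.mk hq
  have hcomm : ∀ a b : C, a * b = b * a := fun a b => (IsCyclic.commGroup (α := C)).mul_comm a b
  let P : Sylow q C := default
  haveI hPn : (P : Subgroup C).Normal :=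
    ⟨fun n hn g => by rw [hcomm g n, mul_inv_cancel_right]; exact hn⟩
  obtain ⟨H, hH⟩ := Subgroup.exists_right_complement'_of_coprime (N := (P : Subgroup C))
    P.card_coprime_index
  have hcard : Nat.card (P : Subgroup C) * Nat.card H = Nat.card C := hH.card_mul_card
  obtain ⟨v, hv⟩ := P.2.exists_card_eq
  -- q ∤ |H|
  have hHidx : (P : Subgroup C).index = Nat.card H := by
    have h1 := Subgroup.card_mul_index (P : Subgroup C)
    have hP0 : 0 < Nat.card (P : Subgroup C) := Nat.card_pos
    rw [← hcard] at h1
    exact Nat.eq_of_mul_eq_mul_left hP0 h1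
  have hqH : ¬ q ∣ Nat.card H := by
    rw [← hHidx]; exact P.not_dvd_index
  let HG : Subgroup G := H.map C.subtype
  have hHGcard : Nat.card HG = Nat.card H := Subgroup.card_map_of_injective C.subtype_injective
  have hHcyc : IsCyclic H := inferInstance
  have hHGcyc : IsCyclic HG :=
    isCyclic_of_surjective (C.subtype.subgroupMap H) (C.subtype.subgroupMap_surjective H)
  have hG : Nat.card G = Nat.card H * q ^ (v + m) := by
    rw [← Subgroup.card_mul_index C, hidx, ← hcard, hv, pow_add]; ring
  let Q : Sylow q G := default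
  have hQ : Nat.card Q = q ^ (v + m) := by
    rw [Sylow.card_eq_multiplicity, hG,
      factorization_arith q (Nat.card H) (v + m) hq hqH Nat.card_pos.ne']
  have hcop : (Nat.card HG).Coprime (Nat.card Q) := by
    rw [hHGcard, hQ]
    exact Nat.Coprime.pow_right _ ((Nat.Prime.coprime_iff_not_dvd hq).2 hqH).symm
  have hcompl : Subgroup.IsComplement' HG (Q : Subgroup G) :=
    Subgroup.isComplement'_of_coprime (by rw [hHGcard, hQ, hG]) hcop
  have hfact : ∀ g : G, ∃ a ∈ HG, ∃ b ∈ (Q : Subgroup G), g = a * b := by
    intro g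
    obtain ⟨x, hx, -⟩ := (Subgroup.isComplement'_def.mp hcompl).existsUnique g
    exact ⟨x.1.1, x.1.2, x.2.1, x.2.2, hx.symm⟩
  exact Cfsg.Agent.S0564.result HG (Q : Subgroup G) (isNilpotent_of_isCyclic hHGcyc)
    (IsPGroup.isNilpotent Q.2) hfact

end Cfsg.Agent.Helper69.PPI
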