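import Mathlib
import Cfsg.Agent.Lib.Helper88.Psp4Defs

/-!
# PSP4F piece (OM) for helper88's S5320 server: `om` has order 3 and permutes `i0, j0, i0 j0`.
-/

set_option autoImplicit false

namespace Cfsg.Agent.Helper69.Psp4

open Matrix Cfsg Cfsg.Agent.Helper88.Psp4

variable {F : Type*} [Field F]

local notation "SL2" => Matrix.SpecialLinearGroup (Fin 2) F
set_option quotPrecheck false in
local notation "Sp4" => ↥(Matrix.symplecticGroup (Fin 2) F)

/-- the matrix of `om` -/
def omM (c : Par F) : Matrix (Fin 2) (Fin 2) F :=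
  !![(-1 + c.x + c.y) / 2, (1 + c.y - c.x) / 2; (-1 + c.y - c.x) / 2, (-1 - c.x - c.y) / 2]

theorem omM_pow_three (c : Par F) : omM c * omM c * omM c = 1 := by
  have h2 := c.h2
  have h := c.hxy
  unfold omM
  ext i j
  fin_cases i <;> fin_cases j <;>
    simp [Matrix.mul_apply, Fin.sum_univ_two] <;> field_simp
  · linear_combination (-6 + 2 * c.y + 2 * c.x) * h
  · linear_combination (2 + 2 * c.y - 2 * c.x) * h
  · linear_combination (-2 + 2 * c.y - 2 * c.x) * h
  · linear_combination (-6 - 2 * c.y - 2 * c.x) * h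

theorem om_pow_three (c : Par F) : om c ^ 3 = 1 := by
  rw [pow_succ, pow_succ, pow_one]
  exact Subtype.ext (omM_pow_three c)

theorem omM_mul_i0 (c : Par F) :
    omM c * rot 0 1 = (rot 0 1 * !![c.x, c.y; c.y, -c.x]) * omM c := by
  have h2 := c.h2
  have h := c.hxy
  unfold omM rot
  ext i j
  fin_cases i <;> fin_cases j <;>
    simp [Matrix.mul_apply, Fin.sum_univ_two] <;> field_simp
  · linear_combination (-1 : F) * h
  · linear_combination (-1 : F) * h
  · linear_combination h
  · linear_combination (-1 : F) * h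

theorem om_mul_i0 (c : Par F) : om c * i0 = (i0 * j0 c) * om c :=
  Subtype.ext (omM_mul_i0 c)

theorem omM_mul_j0 (c : Par F) :
    omM c * !![c.x, c.y; c.y, -c.x] = rot 0 1 * omM c := by
  have h2 := c.h2
  have h := c.hxy
  unfold omM rot
  ext i j
  fin_cases i <;> fin_cases j <;>
    simp [Matrix.mul_apply, Fin.sum_univ_two] <;> field_simp
  · linear_combination h
  · linear_combination h
  · linear_combination (-1 : F) * h
  · linear_combination h

theorem om_mul_j0 (c : Par F) : om c * j0 c = i0 * om c :=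
  Subtype.ext (omM_mul_j0 c)

end Cfsg.Agent.Helper69.Psp4
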