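import Mathlib
import Cfsg.Agent.Lib.Helper88.Psp4Defs

/-!
# PSP4F piece (TT) for helper88's S5320 server: the elements `th`, `th'`.
`th * th = emb (i0,i0)`, `th' * th' = emb (j0,j0)`, `(th * th')² = emb (om,om)`.
-/

set_option autoImplicit false

namespace Cfsg.Agent.Helper69.Psp4

open Matrix Cfsg Cfsg.Agent.Helper88.Psp4

variable {F : Type*} [Field F]

local notation "SL2" => Matrix.SpecialLinearGroup (Fin 2) F
set_option quotPrecheck false in
local notation "Sp4" => ↥(Matrix.symplecticGroup (Fin 2) F)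

/-- `(h ⊗ Had) * (h' ⊗ Had) = (h h') ⊗ (2 I)` -/
theorem hadM_mul_hadM (h h' : Matrix (Fin 2) (Fin 2) F) :
    hadM h * hadM h' = embM ((2 : F) • (h * h')) ((2 : F) • (h * h')) := by
  unfold hadM embM
  rw [fromBlocks_multiply]
  congr 1 <;>
  · ext i j
    fin_cases i <;> fin_cases j <;> simp [Matrix.mul_apply, Fin.sum_univ_two] <;> ring

/-- the matrix `(1 + i0)/2` -/
def thA : Matrix (Fin 2) (Fin 2) F := !![1 / 2, 1 / 2; -(1 / 2), 1 / 2]

/-- the matrix `(1 + j0)/2` -/
def thB (c : Par F) : Matrix (Fin 2) (Fin 2) F :=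
  !![(1 + c.x) / 2, c.y / 2; c.y / 2, (1 - c.x) / 2]

theorem thA_sq (h2 : (2 : F) ≠ 0) : (2 : F) • ((thA : Matrix (Fin 2) (Fin 2) F) * thA) = rot 0 1 := by
  unfold thA rot
  ext i j
  fin_cases i <;> fin_cases j <;>
    simp <;> field_simp <;> ring

theorem thB_sq (c : Par F) : (2 : F) • (thB c * thB c) = !![c.x, c.y; c.y, -c.x] := by
  have h2 := c.h2
  have h := c.hxy
  unfold thB
  ext i j
  fin_cases i <;> fin_cases j <;>
    simp <;> field_simp
  · linear_combination h
  · ring
  · ring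
  · linear_combination h

theorem thAB_sq (c : Par F) :
    ((2 : F) • ((thA : Matrix (Fin 2) (Fin 2) F) * thB c)) * ((2 : F) • (thA * thB c)) =
      !![(-1 + c.x + c.y) / 2, (1 + c.y - c.x) / 2;
        (-1 + c.y - c.x) / 2, (-1 - c.x - c.y) / 2] := by
  have h2 := c.h2
  have h := c.hxy
  unfold thA thB
  ext i j
  fin_cases i <;> fin_cases j <;>
    simp [Matrix.mul_apply, Fin.sum_univ_two] <;> field_simp
  · linear_combination (2 : F) * h
  · ring
  · ring
  · linear_combination (2 : F) * h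

theorem th_sq (c : Par F) : th c * th c = emb (i0, i0) := by
  apply Subtype.ext
  show hadM thA * hadM thA = embM (rot 0 1) (rot 0 1)
  rw [hadM_mul_hadM, thA_sq c.h2]

theorem th'_sq (c : Par F) : th' c * th' c = emb (j0 c, j0 c) := by
  apply Subtype.ext
  show hadM (thB c) * hadM (thB c) = embM !![c.x, c.y; c.y, -c.x] !![c.x, c.y; c.y, -c.x]
  rw [hadM_mul_hadM, thB_sq c]

theorem th_th' (c : Par F) : (th c * th' c) * (th c * th' c) = emb (om c, om c) := by
  apply Subtype.ext
  show (hadM thA * hadM (thB c)) * (hadM thA * hadM (thB c)) = embM (om c).1 (om c).1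
  rw [hadM_mul_hadM, embM_mul, thAB_sq c, om_val]

end Cfsg.Agent.Helper69.Psp4
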