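import Cfsg.Agent.Lib.Helper98.RT0

/-!
# RT (G1) (helper69, for helper98's server, S2278): a generator `ζ` of `Fˣ` with `ζ³ ≠ 1` such that `ζ³`
generates `F` (`q ≠ 2, 4`).
-/

set_option autoImplicit false

namespace Cfsg.Agent.Helper69.RT

open Matrix Cfsg.Agent.Helper93.RU Cfsg.Agent.Helper98.RT

variable {F : Type*} [Field F]

/-- (G1) -/
theorem exists_zeta [Fintype F] (h2 : Fintype.card F ≠ 2) (h4 : Fintype.card F ≠ 4) :
    ∃ ζ : F, ζ ≠ 0 ∧ ζ ^ 3 ≠ 1 ∧ Gen3 ζ := by
  classical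
  obtain ⟨ζ, hζ⟩ := IsCyclic.exists_generator (α := Fˣ)
  have hord : orderOf ζ = Fintype.card F - 1 := by
    rw [orderOf_eq_card_of_forall_mem_zpowers hζ, Nat.card_eq_fintype_card, Fintype.card_units]
  have hq2 : 2 ≤ Fintype.card F := Fintype.one_lt_card
  set q := Fintype.card F with hq
  have hordF : orderOf (ζ : F) = q - 1 := by rw [orderOf_units, hord]
  have h3 : (ζ : F) ^ 3 ≠ 1 := by
    intro h
    have h1 : q - 1 ∣ 3 := by rw [← hordF]; exact orderOf_dvd_of_pow_eq_one h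
    rcases (Nat.dvd_prime Nat.prime_three).1 h1 with h5 | h5
    · omega
    · omega
  refine ⟨(ζ : F), Units.ne_zero ζ, h3, ?_⟩
  intro M hM hne
  obtain ⟨μ₀, hμ₀M, hμ₀⟩ := hne
  set η : F := (ζ : F) ^ 3 with hη
  have hη0 : η ≠ 0 := pow_ne_zero 3 (Units.ne_zero ζ)
  -- the subfield generated by `η`
  let K : Subfield F := Subfield.closure {η}
  have hηK : η ∈ K := Subfield.subset_closure rfl
  -- `M` is stable under `K`
  have hpow : ∀ a : F, (∀ μ ∈ M, a * μ ∈ M) → ∀ k : ℕ, ∀ μ ∈ M, a ^ k * μ ∈ M := by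
    intro a ha k
    induction k with
    | zero => intro μ hμ; simpa using hμ
    | succ k ih =>
      intro μ hμ
      have : a ^ (k + 1) * μ = a ^ k * (a * μ) := by rw [pow_succ, mul_assoc]
      rw [this]; exact ih _ (ha μ hμ)
  have hKM : ∀ a ∈ K, ∀ μ ∈ M, a * μ ∈ M := by
    intro a ha
    induction ha using Subfield.closure_induction with
    | mem x hx => rw [Set.mem_singleton_iff.1 hx]; exact hM
    | one => intro μ hμ; simpa using hμ
    | add x y _ _ hx hy =>
      intro μ hμ; rw [add_mul]; exact M.add_mem (hx μ hμ) (hy μ hμ)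
    | neg x _ hx => intro μ hμ; rw [neg_mul]; exact M.neg_mem (hx μ hμ)
    | inv x _ hx =>
      by_cases hx0 : x = 0
      · intro μ hμ; rw [hx0, _root_.inv_zero, zero_mul]; exact M.zero_mem
      · have h1 : x⁻¹ = x ^ (q - 2) := by
          have h5 : x ^ (q - 1) = 1 := FiniteField.pow_card_sub_one_eq_one x hx0
          have h6 : x * x ^ (q - 2) = 1 := by
            rw [← pow_succ', show q - 2 + 1 = q - 1 by omega]; exact h5
          exact inv_eq_of_mul_eq_one_right h6
        rw [h1]; exact hpow x hx (q - 2)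
    | mul x y _ _ hx hy =>
      intro μ hμ; rw [mul_assoc]; exact hx _ (hy μ hμ)
  -- `K = ⊤` by counting
  haveI : Fintype K := Fintype.ofFinite K
  set r := Fintype.card K with hr
  have hr2 : 2 ≤ r := Fintype.one_lt_card
  have hqr : q = r ^ Module.finrank K F := Module.card_eq_pow_finrank
  set e := Module.finrank K F with he
  -- order of `η`
  have hηord : orderOf η = (q - 1) / Nat.gcd (q - 1) 3 := by
    have h5 := orderOf_pow' (x := (ζ : F)) (n := 3) (by norm_num)
    rw [hη, h5, hordF]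
  have hηr : η ^ (r - 1) = 1 := by
    have h5 : (⟨η, hηK⟩ : K) ≠ 0 := fun h => hη0 (congrArg Subtype.val h)
    have h6 := FiniteField.pow_card_sub_one_eq_one (⟨η, hηK⟩ : K) h5
    have h7 := congrArg Subtype.val h6
    simpa using h7
  have hdvd : (q - 1) / Nat.gcd (q - 1) 3 ∣ r - 1 := by
    rw [← hηord]; exact orderOf_dvd_of_pow_eq_one hηr
  have hle : q - 1 ≤ 3 * (r - 1) := by
    have hg : Nat.gcd (q - 1) 3 ≤ 3 := Nat.gcd_le_right _ (by norm_num)
    have hg1 : Nat.gcd (q - 1) 3 ∣ q - 1 := Nat.gcd_dvd_left _ _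
    have h5 : (q - 1) / Nat.gcd (q - 1) 3 ≤ r - 1 := Nat.le_of_dvd (by omega) hdvd
    calc q - 1 = Nat.gcd (q - 1) 3 * ((q - 1) / Nat.gcd (q - 1) 3) := (Nat.mul_div_cancel' hg1).symm
      _ ≤ 3 * (r - 1) := Nat.mul_le_mul hg h5
  have he1 : e = 1 := by
    by_contra hne1
    have he0 : e ≠ 0 := by
      intro h0; rw [h0, pow_zero] at hqr; omega
    have he2 : 2 ≤ e := by omega
    have h5 : r ^ 2 ≤ q := by rw [hqr]; exact Nat.pow_le_pow_right (by omega) he2
    have h9 : q + 2 ≤ 3 * r := by omega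
    have h10 : r ^ 2 + 2 ≤ 3 * r := by linarith
    have h11 : r ≤ 2 := by
      by_contra hcon
      push_neg at hcon
      nlinarith
    have h6 : r = 2 := by omega
    rw [h6] at hqr hle
    have h7 : 2 ^ 2 ≤ (2 : ℕ) ^ e := Nat.pow_le_pow_right (by norm_num) he2
    have h8 : q = 4 := by omega
    exact h4 h8
  have hKtop : ∀ x : F, x ∈ K := by
    have hcard : Fintype.card K = Fintype.card F := by
      rw [← hr, ← hq, hqr, he1, pow_one]
    have hbij : Function.Bijective (K.subtype : K → F) :=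
      (Fintype.bijective_iff_injective_and_card _).2 ⟨Subtype.val_injective, hcard⟩
    intro x
    obtain ⟨k, rfl⟩ := hbij.2 x
    exact k.2
  -- conclusion
  rw [eq_top_iff]
  intro x _
  have h5 := hKM (x * μ₀⁻¹) (hKtop _) μ₀ hμ₀M
  rwa [mul_assoc, inv_mul_cancel₀ hμ₀, mul_one] at h5

end Cfsg.Agent.Helper69.RT
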