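import Mathlib
import Cfsg.Agent.Lib.Helper93.RU0
import Cfsg.Agent.Lib.Helper98.RT0
import Cfsg.Agent.Lib.Helper82.RUA
import Cfsg.Agent.Lib.Helper60.RTV

/-!
# RT (K9) (helper69, for helper98's server, S2278): `x₂₀(F) ⊆ H` from `x₂₁(F) ⊆ H` and `s ∈ H`.
-/

set_option autoImplicit false

namespace Cfsg.Agent.Helper69.RT

open Matrix Cfsg.Agent.Helper93.RU Cfsg.Agent.Helper98.RT

variable {F : Type*} [Field F]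

theorem k9_mat (ζ ρ μ : F) (hζ : ζ ≠ 0) :
    Smat ζ ρ * tvM (eV (2 : Fin (0 + 3))) (μ • eV (1 : Fin (0 + 3)))
      = tvM (eV (2 : Fin (0 + 3))) ((-(μ * ρ * (ζ ^ 4)⁻¹)) • eV (0 : Fin (0 + 3)) +
          (μ * (ζ ^ 3)⁻¹) • eV (1 : Fin (0 + 3))) * Smat ζ ρ := by
  have h : (Smat ζ ρ * tvM (eV (2 : Fin 3)) (μ • eV (1 : Fin 3)) : Matrix (Fin 3) (Fin 3) F)
      = tvM (eV (2 : Fin 3)) ((-(μ * ρ * (ζ ^ 4)⁻¹)) • eV (0 : Fin 3) +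
          (μ * (ζ ^ 3)⁻¹) • eV (1 : Fin 3)) * Smat ζ ρ := by
    ext i j
    fin_cases i <;> fin_cases j <;>
      simp [tvM, Smat, eV, Matrix.mul_apply, Fin.sum_univ_three, vecMulVec, Matrix.add_apply,
        Matrix.one_apply] <;> field_simp <;> ring
  exact h

/-- (K9) -/
theorem x20_all (H : Subgroup (G3 F)) (ζ ρ : F) (hζ : ζ ≠ 0) (hρ : ρ ≠ 0) (hs : sEl ζ ρ ∈ H)
    (h21 : ∀ μ : F, tvS (eV 2) (μ • eV 1) ∈ H) : ∀ ν : F, tvS (eV 2) (ν • eV 0) ∈ H := by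
  intro ν
  obtain ⟨μ, hμ⟩ : ∃ μ : F, μ = -(ν * ζ ^ 4 / ρ) := ⟨_, rfl⟩
  have hα : -(μ * ρ * (ζ ^ 4)⁻¹) = ν := by rw [hμ]; field_simp
  have d1 : (μ • eV (1 : Fin (0 + 3)) : Fin (0 + 3) → F) ⬝ᵥ eV 2 = 0 := by
    simp [eV, Fin.sum_univ_three, dotProduct]
  have d3 : ((-(μ * ρ * (ζ ^ 4)⁻¹)) • eV (0 : Fin (0 + 3)) : Fin (0 + 3) → F) ⬝ᵥ eV 2 = 0 := by
    simp [eV, Fin.sum_univ_three, dotProduct]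
  have d4 : ((μ * (ζ ^ 3)⁻¹) • eV (1 : Fin (0 + 3)) : Fin (0 + 3) → F) ⬝ᵥ eV 2 = 0 := by
    simp [eV, Fin.sum_univ_three, dotProduct]
  have d2 : ((-(μ * ρ * (ζ ^ 4)⁻¹)) • eV (0 : Fin (0 + 3)) +
      (μ * (ζ ^ 3)⁻¹) • eV (1 : Fin (0 + 3)) : Fin (0 + 3) → F) ⬝ᵥ eV 2 = 0 := by
    rw [add_dotProduct, d3, d4, add_zero]
  have hEq : sEl ζ ρ * tvS (eV 2) (μ • eV 1) =
      tvS (eV 2) ((-(μ * ρ * (ζ ^ 4)⁻¹)) • eV 0 + (μ * (ζ ^ 3)⁻¹) • eV 1) * sEl ζ ρ := by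
    apply Subtype.ext
    rw [Matrix.SpecialLinearGroup.coe_mul, Matrix.SpecialLinearGroup.coe_mul,
      Cfsg.Agent.Helper82.RU.tvS_val _ _ d1, Cfsg.Agent.Helper82.RU.tvS_val _ _ d2,
      Cfsg.Agent.Helper60.RT.sEl_val ζ ρ hζ]
    exact k9_mat ζ ρ μ hζ
  have hmem : tvS (eV 2) ((-(μ * ρ * (ζ ^ 4)⁻¹)) • eV 0 + (μ * (ζ ^ 3)⁻¹) • eV 1) ∈ H := by
    have h1 : tvS (eV 2) ((-(μ * ρ * (ζ ^ 4)⁻¹)) • eV 0 + (μ * (ζ ^ 3)⁻¹) • eV 1) =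
        sEl ζ ρ * tvS (eV 2) (μ • eV 1) * (sEl ζ ρ)⁻¹ := by
      rw [hEq, mul_inv_cancel_right]
    rw [h1]
    exact H.mul_mem (H.mul_mem hs (h21 μ)) (H.inv_mem hs)
  rw [← Cfsg.Agent.Helper82.RU.tvS_mul _ _ _ d3 d4] at hmem
  have h5 := H.mul_mem hmem (H.inv_mem (h21 (μ * (ζ ^ 3)⁻¹)))
  rw [mul_inv_cancel_right, hα] at h5
  exact h5

end Cfsg.Agent.Helper69.RT
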