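import Cfsg.Agent.Lib.Helper93.RU0

/-!
# RU (B5) (helper69, for helper93's server, S2280): the upper Jordan block is conjugate in `SL` to a lower
Jordan block `1 + L_ε`, `ε = ±1`.
-/

set_option autoImplicit false

namespace Cfsg.Agent.Helper69.RU

open Matrix Cfsg.Agent.Helper93.RU

variable {F : Type*} [Field F] {m : ℕ}

theorem b5_det_upper : (1 + Nmat m F).det = 1 := by
  rw [Matrix.det_of_upperTriangular]
  · apply Finset.prod_eq_one
    intro i _
    simp [Nmat]
  · intro i j hij
    have h1 : i ≠ j := fun h => by subst h; exact lt_irrefl _ hij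
    have h2 : ¬ (i.val + 1 = j.val) := by
      have : j.val < i.val := hij
      omega
    simp [Nmat, Matrix.one_apply, h1, h2]

theorem b5_det_lower (ε : F) : (1 + Lmat (m := m) ε).det = 1 := by
  rw [Matrix.det_of_lowerTriangular]
  · apply Finset.prod_eq_one
    intro i _
    simp [Lmat]
  · intro i j hij
    have hij' : i.val < j.val := hij
    have h1 : i ≠ j := fun h => by subst h; exact lt_irrefl _ hij'
    have h2 : ¬ (j.val + 1 = i.val) := by omega
    simp [Lmat, Matrix.one_apply, h1, h2]

theorem b5_uEl_val : (uEl m F).1 = 1 + Nmat m F := by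
  have h := b5_det_upper (m := m) (F := F)
  simp [uEl, h]

theorem b5_lEl_val (ε : F) : (lEl (m := m) ε).1 = 1 + Lmat ε := by
  have h := b5_det_lower (m := m) ε
  simp [lEl, h]

/-- (B5) -/
theorem exists_conj_lower :
    ∃ ε : F, (ε = 1 ∨ ε = -1) ∧ ∃ h : SLm m F, h * uEl m F * h⁻¹ = lEl ε := by
  classical
  let P0 : Matrix (Fin (m + 3)) (Fin (m + 3)) F :=
    Matrix.of fun i j => if j = Fin.rev i then (1 : F) else 0
  have hP0sq : P0 * P0 = 1 := by
    ext i j
    simp only [P0, Matrix.mul_apply, Matrix.of_apply, ite_mul, one_mul, zero_mul,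
      Finset.sum_ite_eq', Finset.mem_univ, if_true, Fin.rev_rev, Matrix.one_apply]
    by_cases h : i = j
    · simp [h]
    · simp [h, Ne.symm h]
  set d0 : F := P0.det with hd0
  have hd : d0 * d0 = 1 := by
    rw [hd0, ← Matrix.det_mul, hP0sq, Matrix.det_one]
  have hε : d0 = 1 ∨ d0 = -1 := mul_self_eq_one_iff.1 hd
  let dv : Fin (m + 3) → F := fun i => if i.val = 0 then d0 else 1
  have hdetD : (Matrix.diagonal dv).det = d0 := by
    rw [Matrix.det_diagonal, Finset.prod_eq_single (0 : Fin (m + 3))]
    · simp [dv]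
    · intro b _ hb
      simp [dv, hb]
    · intro h; exact absurd (Finset.mem_univ _) h
  let hM : Matrix (Fin (m + 3)) (Fin (m + 3)) F := Matrix.diagonal dv * P0
  have hdet : hM.det = 1 := by
    rw [Matrix.det_mul, hdetD, ← hd0, hd]
  -- the key matrix identity
  have hkey : hM * Nmat m F = Lmat (m := m) d0 * hM := by
    ext i j
    have hl : (hM * Nmat m F) i j = dv i * (if (Fin.rev i).val + 1 = j.val then 1 else 0) := by
      rw [show hM * Nmat m F = Matrix.diagonal dv * (P0 * Nmat m F) from Matrix.mul_assoc _ _ _,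
        Matrix.diagonal_mul, Matrix.mul_apply]
      simp only [P0, Matrix.of_apply, ite_mul, one_mul, zero_mul, Finset.sum_ite_eq',
        Finset.mem_univ, if_true, Nmat]
    have hr : (Lmat (m := m) d0 * hM) i j =
        (if (Fin.rev j).val + 1 = i.val then (if (Fin.rev j).val = 0 then d0 else 1) else 0) *
          dv (Fin.rev j) := by
      have hP : ∀ k : Fin (m + 3), P0 k j = if k = Fin.rev j then (1 : F) else 0 := by
        intro k
        simp only [P0, Matrix.of_apply]
        by_cases hk : k = Fin.rev j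
        · rw [if_pos hk, if_pos (by rw [hk, Fin.rev_rev])]
        · rw [if_neg hk, if_neg (fun h => hk (by rw [h, Fin.rev_rev]))]
      rw [Matrix.mul_apply]
      simp only [hM, Matrix.diagonal_mul, hP, mul_ite, mul_one, mul_zero,
        Finset.sum_ite_eq', Finset.mem_univ, if_true, Lmat, Matrix.of_apply]
    rw [hl, hr]
    simp only [dv, Fin.val_rev]
    have hi := i.isLt
    have hj := j.isLt
    by_cases h1 : m + 3 - (i.val + 1) + 1 = j.val
    · have h2 : m + 3 - (j.val + 1) + 1 = i.val := by omega
      have h3 : ¬ i.val = 0 := by omega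
      rw [if_pos h1, if_pos h2, if_neg h3]
      by_cases h4 : m + 3 - (j.val + 1) = 0
      · rw [if_pos h4, hd]; simp
      · rw [if_neg h4]
    · have h2 : ¬ (m + 3 - (j.val + 1) + 1 = i.val) := by omega
      rw [if_neg h1, if_neg h2]; simp
  let h : SLm m F := ⟨hM, hdet⟩
  refine ⟨d0, hε, h, ?_⟩
  have hcomm : h * uEl m F = lEl d0 * h := by
    apply Subtype.ext
    simp only [Matrix.SpecialLinearGroup.coe_mul, b5_uEl_val, b5_lEl_val]
    rw [Matrix.mul_add, Matrix.add_mul, Matrix.mul_one, Matrix.one_mul, hkey]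
  rw [hcomm, mul_inv_cancel_right]

end Cfsg.Agent.Helper69.RU
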