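import Mathlib
import Cfsg.Agent.Lib.Helper31.SCHDefs
import Cfsg.Agent.Lib.Helper55.Cores

/-!
# SCH (G2a) centralizer_inf_le -- helper69 for helper31's SCH lemma server (S4394)

Burnside's transfer theorem in `C = L ⊓ C_G(Y)`: `Y` is a central Sylow `p`-subgroup of `C`, so `C` has
a normal `p`-complement, which lies in `O_{p'}(C) ≤ O_{p'}(G) = 1`.
-/

set_option autoImplicit false

namespace Cfsg.Agent.Helper69.SCH
open Cfsg Cfsg.Agent.Helper31.SCH

variable {G : Type*} [Group G] [Finite G] {p : ℕ} [Fact p.Prime]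

/-- A finite group with `O_{p'} = 1` and a central `p`-subgroup of index prime to `p` is equal to that
subgroup (Burnside's transfer theorem). -/
theorem h69_central_sylow_eq_top {C : Type*} [Group C] [Finite C] (hO : pPrimeCore p C = ⊥)
    (Q : Subgroup C) (hQp : IsPGroup p Q) (hQc : ∀ q ∈ Q, ∀ c : C, c * q = q * c)
    (hidx : (Q.index).Coprime p) : Q = ⊤ := by
  have hp : p.Prime := Fact.out
  have hnd : ¬ p ∣ Q.index := by
    intro h
    have := Nat.Coprime.eq_one_of_dvd hidx.symm h
    exact hp.one_lt.ne' this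
  let S : Sylow p C := hQp.toSylow hnd
  have hS : (S : Subgroup C) = Q := hQp.toSylow_coe hnd
  have hP : Subgroup.normalizer ((S : Subgroup C) : Set C) ≤
      Subgroup.centralizer ((S : Subgroup C) : Set C) := by
    intro c _
    rw [Subgroup.mem_centralizer_iff]
    intro q hq
    have hq' : q ∈ Q := by rw [← hS]; exact hq
    exact (hQc q hq' c).symm
  have hcomp := MonoidHom.ker_transferSylow_isComplement' S hP
  have hnd2 := MonoidHom.not_dvd_card_ker_transferSylow S hP
  have hcop : (Nat.card (MonoidHom.transferSylow S hP).ker).Coprime p :=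
    ((Nat.Prime.coprime_iff_not_dvd hp).mpr hnd2).symm
  have hle : (MonoidHom.transferSylow S hP).ker ≤ pPrimeCore p C :=
    Cfsg.Agent.Helper55.le_pPrimeCore inferInstance hcop
  rw [hO, le_bot_iff] at hle
  have hcard := hcomp.card_mul_card
  rw [hle, Subgroup.card_bot, one_mul] at hcard
  have : (S : Subgroup C) = ⊤ := Subgroup.eq_top_of_card_eq _ hcard
  rw [← hS]
  exact this

/-- (G2a) [M-L] -/
theorem centralizer_inf_le (hO : pPrimeCore p G = ⊥) (Y L : Subgroup G) [Y.Normal] [L.Normal]
    (hYL : Y ≤ L) (hYp : IsPGroup p Y) (hYab : ∀ a ∈ Y, ∀ b ∈ Y, a * b = b * a)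
    (hidx : (Y.relIndex L).Coprime p) : L ⊓ Subgroup.centralizer (Y : Set G) ≤ Y := by
  set C : Subgroup G := L ⊓ Subgroup.centralizer (Y : Set G) with hCdef
  have hCn : C.Normal := by rw [hCdef]; infer_instance
  have hYC : Y ≤ C := by
    refine le_inf hYL ?_
    intro y hy
    rw [Subgroup.mem_centralizer_iff]
    intro h hh
    exact hYab h hh y hy
  have hCL : C ≤ L := inf_le_left
  have hC0 : pPrimeCore p ↥C = ⊥ := Cfsg.Agent.Helper55.pPrimeCore_eq_bot_of_normal p C hO
  have hQp : IsPGroup p (Y.subgroupOf C) := hYp.comap_subtype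
  have hQc : ∀ q ∈ Y.subgroupOf C, ∀ c : ↥C, c * q = q * c := by
    intro q hq c
    rw [Subgroup.mem_subgroupOf] at hq
    have hc : (c : G) ∈ Subgroup.centralizer (Y : Set G) := (c.2 : (c : G) ∈ C).2
    rw [Subgroup.mem_centralizer_iff] at hc
    apply Subtype.ext
    rw [Subgroup.coe_mul, Subgroup.coe_mul]
    exact (hc q hq).symm
  have hidx' : ((Y.subgroupOf C).index).Coprime p := by
    have h1 : Y.relIndex C * C.relIndex L = Y.relIndex L := Subgroup.relIndex_mul_relIndex Y C L hYC hCL
    have h2 : Y.relIndex C ∣ Y.relIndex L := Dvd.intro _ h1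
    exact Nat.Coprime.coprime_dvd_left h2 hidx
  have htop := h69_central_sylow_eq_top hC0 (Y.subgroupOf C) hQp hQc hidx'
  intro c hc
  have : (⟨c, hc⟩ : ↥C) ∈ Y.subgroupOf C := by rw [htop]; exact Subgroup.mem_top _
  rw [Subgroup.mem_subgroupOf] at this
  exact this

end Cfsg.Agent.Helper69.SCH
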