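import Mathlib
import Cfsg.Agent.Lib.Helper2.SS0
import Cfsg.Agent.Lib.Helper2.SRC0

/-!
# SS project (S2411, helper2 server), pieces Y1 (`cEl_val`) and Y2 (`c_act`): the Coxeter element.
-/

set_option autoImplicit false

namespace Cfsg.Agent.Helper69.SS

open Matrix Cfsg Cfsg.Agent.Helper13 Cfsg.Agent.Helper84.SpRoot Cfsg.Agent.Helper5.SpAut
open Cfsg.Agent.Helper2.SR Cfsg.Agent.Helper2.SS

section Y
variable {F : Type*} [Field F] {m : ℕ}

/-- a matrix preserving the form on the standard basis is symplectic -/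
theorem h69_mem_sp_of_basis {n : ℕ} {A : Matrix (Fin n ⊕ Fin n) (Fin n ⊕ Fin n) F}
    (H : ∀ i j : Fin n ⊕ Fin n,
      Cfsg.sympForm n F (A *ᵥ Pi.single i 1) (A *ᵥ Pi.single j 1) =
        Cfsg.sympForm n F (Pi.single i 1) (Pi.single j 1)) :
    A ∈ Matrix.symplecticGroup (Fin n) F := by
  rw [SymplecticGroup.mem_iff']
  ext i j
  have h := H i j
  unfold Cfsg.sympForm at h
  rw [Matrix.mulVec_mulVec, ← Matrix.vecMul_transpose, Matrix.dotProduct_mulVec,
    Matrix.vecMul_vecMul, ← Matrix.dotProduct_mulVec, ← Matrix.mul_assoc] at h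
  simpa [Matrix.mulVec_single_one, single_one_dotProduct] using h

theorem h69_cM_be (i j : Fin (m + 2)) (h : j.val = i.val + 1) :
    cM m F *ᵥ be i = be j := by
  unfold be
  rw [Matrix.mulVec_single_one]
  funext a
  rcases a with a | a
  · simp only [Matrix.col_apply, cM, Matrix.of_apply, Pi.single_apply, Sum.inl.injEq, Fin.ext_iff]
    rw [h]
  · have hi : ¬ (i.val = m + 1) := by have := j.isLt; omega
    simp [Matrix.col_apply, cM, Matrix.of_apply, Pi.single_apply, hi]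

theorem h69_cM_be_last : cM m F *ᵥ be jB = bf 0 := by
  unfold be bf
  rw [Matrix.mulVec_single_one]
  have h1 : (jB : Fin (m + 2)).val = m + 1 := rfl
  funext a
  rcases a with a | a
  · simp only [Matrix.col_apply, cM, Matrix.of_apply, Pi.single_apply, h1, reduceCtorEq, if_false]
    rw [if_neg]
    have := a.isLt; omega
  · simp only [Matrix.col_apply, cM, Matrix.of_apply, Pi.single_apply, Sum.inr.injEq, h1, and_true]
    have h2 : (a = 0) ↔ a.val = 0 := by rw [Fin.ext_iff, Fin.val_zero]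
    simp only [h2]

theorem h69_cM_bf (i j : Fin (m + 2)) (h : j.val = i.val + 1) :
    cM m F *ᵥ bf i = bf j := by
  unfold bf
  rw [Matrix.mulVec_single_one]
  funext a
  rcases a with a | a
  · have hi : ¬ (i.val = m + 1) := by have := j.isLt; omega
    simp [Matrix.col_apply, cM, Matrix.of_apply, Pi.single_apply, hi]
  · simp only [Matrix.col_apply, cM, Matrix.of_apply, Pi.single_apply, Sum.inr.injEq, Fin.ext_iff]
    rw [h]

theorem h69_cM_bf_last : cM m F *ᵥ bf jB = - be 0 := by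
  unfold be bf
  rw [Matrix.mulVec_single_one]
  have h1 : (jB : Fin (m + 2)).val = m + 1 := rfl
  funext a
  rcases a with a | a
  · simp only [Matrix.col_apply, cM, Matrix.of_apply, Pi.neg_apply, Pi.single_apply, Sum.inl.injEq,
      h1, and_true]
    have h2 : (a = 0) ↔ a.val = 0 := by rw [Fin.ext_iff, Fin.val_zero]
    simp only [h2]
    split_ifs <;> simp
  · simp only [Matrix.col_apply, cM, Matrix.of_apply, Pi.neg_apply, Pi.single_apply, h1,
      reduceCtorEq, if_false, neg_zero]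
    rw [if_neg]
    have := a.isLt; omega

theorem h69_sf_ee (a b : Fin (m + 2)) : Cfsg.sympForm (m + 2) F (be a) (be b) = 0 := by
  rw [(form_basis _ _).1]
  simp [be]

theorem h69_sf_ff (a b : Fin (m + 2)) : Cfsg.sympForm (m + 2) F (bf a) (bf b) = 0 := by
  rw [(form_basis _ _).2.1]
  simp [bf]

theorem h69_sf_ef (a b : Fin (m + 2)) :
    Cfsg.sympForm (m + 2) F (be a) (bf b) = if b = a then -1 else 0 := by
  rw [(form_basis _ _).2.1]
  simp [be, Pi.single_apply]
  split_ifs <;> simp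

theorem h69_sf_fe (a b : Fin (m + 2)) :
    Cfsg.sympForm (m + 2) F (bf a) (be b) = if b = a then 1 else 0 := by
  rw [(form_basis _ _).1]
  simp [bf, Pi.single_apply]

/-- the image of a basis vector `e_i` -/
theorem h69_cM_be_cases (i : Fin (m + 2)) :
    (i = jB ∧ cM m F *ᵥ be i = bf 0) ∨
      (∃ j : Fin (m + 2), j.val = i.val + 1 ∧ cM m F *ᵥ be i = be j) := by
  by_cases h : i.val = m + 1
  · left
    have : i = jB := Fin.ext h
    exact ⟨this, by rw [this]; exact h69_cM_be_last⟩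
  · right
    have hlt : i.val + 1 < m + 2 := by have := i.isLt; omega
    exact ⟨⟨i.val + 1, hlt⟩, rfl, h69_cM_be i ⟨i.val + 1, hlt⟩ rfl⟩

theorem h69_cM_bf_cases (i : Fin (m + 2)) :
    (i = jB ∧ cM m F *ᵥ bf i = - be 0) ∨
      (∃ j : Fin (m + 2), j.val = i.val + 1 ∧ cM m F *ᵥ bf i = bf j) := by
  by_cases h : i.val = m + 1
  · left
    have : i = jB := Fin.ext h
    exact ⟨this, by rw [this]; exact h69_cM_bf_last⟩
  · right
    have hlt : i.val + 1 < m + 2 := by have := i.isLt; omega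
    exact ⟨⟨i.val + 1, hlt⟩, rfl, h69_cM_bf i ⟨i.val + 1, hlt⟩ rfl⟩

theorem h69_cM_mem : cM m F ∈ Matrix.symplecticGroup (Fin (m + 2)) F := by
  apply h69_mem_sp_of_basis
  have hjB : (jB : Fin (m + 2)).val = m + 1 := rfl
  intro s t
  rcases s with i | i <;> rcases t with k | k
  · change Cfsg.sympForm (m + 2) F (cM m F *ᵥ be i) (cM m F *ᵥ be k) =
      Cfsg.sympForm (m + 2) F (be i) (be k)
    rw [h69_sf_ee]
    rcases h69_cM_be_cases (F := F) i with ⟨hi, hi2⟩ | ⟨j, hj, hj2⟩ <;>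
      rcases h69_cM_be_cases (F := F) k with ⟨hk, hk2⟩ | ⟨l, hl, hl2⟩
    · rw [hi2, hk2, h69_sf_ff]
    · rw [hi2, hl2, h69_sf_fe, if_neg]
      intro h0; rw [h0] at hl; simp at hl
    · rw [hj2, hk2, h69_sf_ef, if_neg]
      intro h0; rw [← h0] at hj; simp at hj
    · rw [hj2, hl2, h69_sf_ee]
  · change Cfsg.sympForm (m + 2) F (cM m F *ᵥ be i) (cM m F *ᵥ bf k) =
      Cfsg.sympForm (m + 2) F (be i) (bf k)
    rw [h69_sf_ef]
    rcases h69_cM_be_cases (F := F) i with ⟨hi, hi2⟩ | ⟨j, hj, hj2⟩ <;>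
      rcases h69_cM_bf_cases (F := F) k with ⟨hk, hk2⟩ | ⟨l, hl, hl2⟩
    · rw [hi2, hk2, sympForm_neg_right, h69_sf_fe, if_pos rfl, if_pos (by rw [hi, hk])]
    · rw [hi2, hl2, h69_sf_ff, if_neg]
      intro h0; rw [h0, hi, hjB] at hl; have := l.isLt; omega
    · rw [hj2, hk2, sympForm_neg_right, h69_sf_ee, neg_zero, if_neg]
      intro h0; rw [← h0, hk, hjB] at hj; have := j.isLt; omega
    · rw [hj2, hl2, h69_sf_ef]
      have : (l = j) ↔ (k = i) := by
        rw [Fin.ext_iff, Fin.ext_iff]; omega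
      simp only [this]
  · change Cfsg.sympForm (m + 2) F (cM m F *ᵥ bf i) (cM m F *ᵥ be k) =
      Cfsg.sympForm (m + 2) F (bf i) (be k)
    rw [h69_sf_fe]
    rcases h69_cM_bf_cases (F := F) i with ⟨hi, hi2⟩ | ⟨j, hj, hj2⟩ <;>
      rcases h69_cM_be_cases (F := F) k with ⟨hk, hk2⟩ | ⟨l, hl, hl2⟩
    · rw [hi2, hk2, sympForm_neg_left, h69_sf_ef, if_pos rfl, neg_neg, if_pos (by rw [hi, hk])]
    · rw [hi2, hl2, sympForm_neg_left, h69_sf_ee, neg_zero, if_neg]
      intro h0; rw [h0, hi, hjB] at hl; have := l.isLt; omega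
    · rw [hj2, hk2, h69_sf_ff, if_neg]
      intro h0; rw [← h0, hk, hjB] at hj; have := j.isLt; omega
    · rw [hj2, hl2, h69_sf_fe]
      have : (l = j) ↔ (k = i) := by
        rw [Fin.ext_iff, Fin.ext_iff]; omega
      simp only [this]
  · change Cfsg.sympForm (m + 2) F (cM m F *ᵥ bf i) (cM m F *ᵥ bf k) =
      Cfsg.sympForm (m + 2) F (bf i) (bf k)
    rw [h69_sf_ff]
    rcases h69_cM_bf_cases (F := F) i with ⟨hi, hi2⟩ | ⟨j, hj, hj2⟩ <;>
      rcases h69_cM_bf_cases (F := F) k with ⟨hk, hk2⟩ | ⟨l, hl, hl2⟩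
    · rw [hi2, hk2, sympForm_neg_left, sympForm_neg_right, h69_sf_ee]; simp
    · rw [hi2, hl2, sympForm_neg_left, h69_sf_ef, if_neg]; simp
      intro h0; rw [h0] at hl; simp at hl
    · rw [hj2, hk2, sympForm_neg_right, h69_sf_fe, if_neg]; simp
      intro h0; rw [← h0] at hj; simp at hj
    · rw [hj2, hl2, h69_sf_ff]

/-- (Y1) -/
theorem cEl_val : (cEl m F).val = cM m F := by
  unfold cEl
  rw [dif_pos h69_cM_mem]

/-- (Y2) uses Y1 -/
theorem c_act :
    (∀ i j : Fin (m + 2), j.val = i.val + 1 → (cEl m F).val *ᵥ be i = be j) ∧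
    (cEl m F).val *ᵥ be jB = bf 0 ∧
    (∀ i j : Fin (m + 2), j.val = i.val + 1 → (cEl m F).val *ᵥ bf i = bf j) ∧
    (cEl m F).val *ᵥ bf jB = - be 0 := by
  rw [cEl_val]
  exact ⟨h69_cM_be, h69_cM_be_last, h69_cM_bf, h69_cM_bf_last⟩

end Y

end Cfsg.Agent.Helper69.SS
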