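import Mathlib
import Cfsg.Agent.Lib.Helper2.SS0
import Cfsg.Agent.Lib.Helper69.SSY2

/-!
# SS project (S2411, helper2 server), piece Y10 (`c_pow_d`): powers of the Coxeter element on `d`.
Also the general power lemmas `h69_pow_be`, `h69_pow_bf`.
-/

set_option autoImplicit false

namespace Cfsg.Agent.Helper69.SS

open Matrix Cfsg Cfsg.Agent.Helper13 Cfsg.Agent.Helper84.SpRoot Cfsg.Agent.Helper5.SpAut
open Cfsg.Agent.Helper2.SR Cfsg.Agent.Helper2.SS

section Y
variable {F : Type*} [Field F] {m : ℕ}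

/-- `c^k e_i = e_{i+k}` -/
theorem h69_pow_be (k : ℕ) : ∀ i i' : Fin (m + 2), i'.val = i.val + k →
    ((cEl m F) ^ k).val *ᵥ be i = be i' := by
  induction k with
  | zero =>
    intro i i' h
    have : i' = i := Fin.ext (by omega)
    rw [pow_zero, one_act, this]
  | succ k ih =>
    intro i i' h
    have hlt : i.val + 1 < m + 2 := by have := i'.isLt; omega
    rw [pow_succ, mul_act, (c_act (F := F) (m := m)).1 i ⟨i.val + 1, hlt⟩ rfl]
    exact ih ⟨i.val + 1, hlt⟩ i' (by simp only; omega)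

/-- `c^k f_i = f_{i+k}` -/
theorem h69_pow_bf (k : ℕ) : ∀ i i' : Fin (m + 2), i'.val = i.val + k →
    ((cEl m F) ^ k).val *ᵥ bf i = bf i' := by
  induction k with
  | zero =>
    intro i i' h
    have : i' = i := Fin.ext (by omega)
    rw [pow_zero, one_act, this]
  | succ k ih =>
    intro i i' h
    have hlt : i.val + 1 < m + 2 := by have := i'.isLt; omega
    rw [pow_succ, mul_act, (c_act (F := F) (m := m)).2.2.1 i ⟨i.val + 1, hlt⟩ rfl]
    exact ih ⟨i.val + 1, hlt⟩ i' (by simp only; omega)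

/-- `c^(k+1) e_{n-1} = f_k` -/
theorem h69_pow_be_last (k : ℕ) (a : Fin (m + 2)) (ha : a.val = k) :
    ((cEl m F) ^ (k + 1)).val *ᵥ be jB = bf a := by
  rw [pow_succ, mul_act, (c_act (F := F) (m := m)).2.1]
  exact h69_pow_bf k 0 a (by rw [ha]; simp)

/-- (Y10) -/
theorem c_pow_d (α β ξ : F) (j : ℕ) (hj2 : 2 ≤ j) (hjm : j ≤ m) (a b c : Fin (m + 2))
    (ha : a.val = j - 1) (hb : b.val = j) (hc : c.val = j + 1) :
    ((cEl m F) ^ j).val *ᵥ dV α β ξ =
      (1 - α * β) • be c + (α * β) • be b - (β * ξ) • bf a - β • bf c := by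
  have h1 : ((cEl m F) ^ j).val *ᵥ be 1 = be c :=
    h69_pow_be j 1 c (by rw [hc]; simp [Fin.val_one]; omega)
  have h0 : ((cEl m F) ^ j).val *ᵥ be 0 = be b :=
    h69_pow_be j 0 b (by rw [hb]; simp)
  have hB : ((cEl m F) ^ j).val *ᵥ be jB = bf a := by
    have hj : j = (j - 1) + 1 := by omega
    rw [hj]
    exact h69_pow_be_last (j - 1) a ha
  have hf : ((cEl m F) ^ j).val *ᵥ bf 1 = bf c :=
    h69_pow_bf j 1 c (by rw [hc]; simp [Fin.val_one]; omega)
  unfold dV
  rw [Matrix.mulVec_sub, Matrix.mulVec_sub, Matrix.mulVec_add, Matrix.mulVec_smul,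
    Matrix.mulVec_smul, Matrix.mulVec_smul, Matrix.mulVec_smul, h1, h0, hB, hf]

end Y

end Cfsg.Agent.Helper69.SS
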