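import Mathlib
import Cfsg.Agent.Lib.Helper12.SUOT0
import Cfsg.Agent.Lib.Helper12.SUOT_T14
import Cfsg.Agent.Lib.Helper69.SUOT_T5Core

/-!
# SUOT (S2282, helper12 sub-server), piece T5 (verbatim): `u` on the hyperbolic basis.
-/

set_option autoImplicit false

namespace Cfsg.Agent.Helper69.SUOT

open Matrix Cfsg Cfsg.Agent.Helper13 Cfsg.Agent.Helper87.PsuA Cfsg.Agent.Helper12.SUOT

variable {F : Type*} [Field F] [Fintype F] {q n : ℕ}

theorem uEl_b_zero (hF : Fintype.card F = q ^ 2) {b : Fin n → Fin n → F} (hb : HB q b) (al : F)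
    (j : Fin n) (hj : j.val = 0) : actv (uEl q b al) (b j) = b j :=
  h69_b_zero al (Nm_b_zero hF hb) (uEl_key hF hb al) j hj

theorem uEl_b_succ (hF : Fintype.card F = q ^ 2) {b : Fin n → Fin n → F} (hb : HB q b) (al : F)
    (i j : Fin n) (hij : i.val + 1 = j.val) :
    actv (uEl q b al) (b j) = b j + al • b i - al ^ q • actv (uEl q b al) (b i) :=
  h69_b_succ al (Nm_b_succ hF hb) (uEl_key hF hb al) i j hij

theorem uEl_b_one (hF : Fintype.card F = q ^ 2) {b : Fin n → Fin n → F} (hb : HB q b) (al : F)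
    (i j : Fin n) (hi : i.val = 0) (hj : j.val = 1) :
    actv (uEl q b al) (b j) = b j + (al - al ^ q) • b i :=
  h69_b_one al (Nm_b_zero hF hb) (Nm_b_succ hF hb) (uEl_key hF hb al) i j hi hj

theorem uEl_low (hF : Fintype.card F = q ^ 2) {b : Fin n → Fin n → F} (hb : HB q b) (al : F) :
    ∀ i j : Fin n, j ≤ i → co q b (actv (uEl q b al) (b j)) i = if i = j then 1 else 0 :=
  h69_low al (Nm_b_zero hF hb) (Nm_b_succ hF hb) (uEl_key hF hb al) hF hb

theorem uEl_sup (hF : Fintype.card F = q ^ 2) {b : Fin n → Fin n → F} (hb : HB q b) (al : F) :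
    ∀ i j : Fin n, i.val + 1 = j.val → co q b (actv (uEl q b al) (b j)) i = al - al ^ q :=
  h69_sup al (Nm_b_zero hF hb) (Nm_b_succ hF hb) (uEl_key hF hb al) hF hb

end Cfsg.Agent.Helper69.SUOT
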