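import Mathlib
import Cfsg.Agent.Lib.Helper84.Sp4Defs
import Cfsg.Agent.Lib.Helper42.Sp4B1
import Cfsg.Agent.Lib.Helper42.Sp4B2
import Cfsg.Agent.Lib.Helper42.Sp4B3
import Cfsg.Agent.Lib.Helper58.Sp4EMB

/-!
# PSP4F piece (R1C) for helper84's S5320 server: `R1` is self-centralizing modulo `⟨zc⟩`.
-/

set_option autoImplicit false

namespace Cfsg.Agent.Helper69.Sp4

open Matrix Cfsg.Agent.Helper84.Sp4

variable {F : Type*} [Field F]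

theorem r1c_tt_mem : (tt : Sp4 F) ∈ (R1 : Subgroup (Sp4 F)) :=
  Subgroup.subset_closure (Or.inr (Set.mem_insert _ _))

theorem r1c_sw_mem : (sw : Sp4 F) ∈ (R1 : Subgroup (Sp4 F)) :=
  Subgroup.subset_closure (Or.inr (Set.mem_insert_of_mem _ (Set.mem_singleton _)))

theorem r1c_diag_mem {b : SL2 F} (hb : b ∈ (Q : Subgroup (SL2 F))) :
    emb (b, b) ∈ (R1 : Subgroup (Sp4 F)) :=
  Subgroup.subset_closure (Or.inl ⟨b, hb, rfl⟩)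

theorem r1c_i0_mem_Q : (i0 : SL2 F) ∈ (Q : Subgroup (SL2 F)) :=
  (le_sup_left : (Tor2 : Subgroup (SL2 F)) ≤ Tor2 ⊔ Subgroup.zpowers j0)
    Cfsg.Agent.Helper42.Sp4.i0_mem_Tor2

theorem r1c_j0_mem_Q : (j0 : SL2 F) ∈ (Q : Subgroup (SL2 F)) :=
  (le_sup_right : Subgroup.zpowers (j0 : SL2 F) ≤ Tor2 ⊔ Subgroup.zpowers j0)
    (Subgroup.mem_zpowers j0)

theorem r1c_j0_inv [Finite F] : (j0 : SL2 F)⁻¹ = -j0 := by
  have h := Cfsg.Agent.Helper42.Sp4.NTor_mul_self (Cfsg.Agent.Helper42.Sp4.j0_mem (F := F))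
  apply inv_eq_of_mul_eq_one_right
  rw [mul_neg, h, neg_neg]

theorem r1c_comm_reduce {G : Type*} [Group G] (y s r : G) (h : s * r = r * s) :
    (y * s) * r * (y * s)⁻¹ * r⁻¹ = y * r * y⁻¹ * r⁻¹ := by
  have h' : s * r * s⁻¹ = r := by rw [h, mul_inv_cancel_right]
  calc (y * s) * r * (y * s)⁻¹ * r⁻¹ = y * (s * r * s⁻¹) * y⁻¹ * r⁻¹ := by group
    _ = y * r * y⁻¹ * r⁻¹ := by rw [h']

theorem r1c_comm_sw (hsw : ∀ A B : SL2 F, (sw : Sp4 F) * emb (A, B) * sw⁻¹ = emb (B, A))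
    (a b : SL2 F) :
    emb (a, b) * sw * (emb (a, b))⁻¹ * sw⁻¹ = (emb (a * b⁻¹, b * a⁻¹) : Sp4 F) := by
  calc emb (a, b) * sw * (emb (a, b))⁻¹ * sw⁻¹
      = emb (a, b) * ((sw : Sp4 F) * emb (a⁻¹, b⁻¹) * sw⁻¹) := by
        rw [← map_inv, Prod.inv_mk]; group
    _ = emb (a, b) * emb (b⁻¹, a⁻¹) := by rw [hsw]
    _ = emb (a * b⁻¹, b * a⁻¹) := by rw [← map_mul]; rfl

theorem r1c_comm_diag (a b c : SL2 F) :
    emb (a, b) * emb (c, c) * (emb (a, b))⁻¹ * (emb (c, c))⁻¹ =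
      (emb (a * c * a⁻¹ * c⁻¹, b * c * b⁻¹ * c⁻¹) : Sp4 F) := by
  rw [← map_inv, ← map_inv, ← map_mul, ← map_mul, ← map_mul]; rfl

theorem r1c_conj_of_comm (hinj : Function.Injective (emb : SL2 F × SL2 F → Sp4 F))
    (a b c : SL2 F) (hc : c⁻¹ = -c)
    (h : emb (a, b) * emb (c, c) * (emb (a, b))⁻¹ * (emb (c, c))⁻¹ = 1 ∨
      emb (a, b) * emb (c, c) * (emb (a, b))⁻¹ * (emb (c, c))⁻¹ = (zc : Sp4 F)) :
    a * c * a⁻¹ = c ∨ a * c * a⁻¹ = c⁻¹ := by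
  rw [r1c_comm_diag] at h
  rcases h with h | h
  · left
    have h' := hinj (h.trans (map_one emb).symm)
    have h1 : a * c * a⁻¹ * c⁻¹ = 1 := congrArg Prod.fst h'
    exact mul_inv_eq_one.mp h1
  · right
    have h' : (a * c * a⁻¹ * c⁻¹, b * c * b⁻¹ * c⁻¹) = ((-1 : SL2 F), (-1 : SL2 F)) := hinj h
    have h1 : a * c * a⁻¹ * c⁻¹ = -1 := congrArg Prod.fst h'
    rw [mul_inv_eq_iff_eq_mul] at h1
    rw [h1, neg_one_mul, hc]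

theorem r1c_core [Finite F]
    (hinj : Function.Injective (emb : SL2 F × SL2 F → Sp4 F))
    (hsw : ∀ A B : SL2 F, (sw : Sp4 F) * emb (A, B) * sw⁻¹ = emb (B, A))
    (hqn8 : ∀ a : SL2 F, (a * i0 * a⁻¹ = i0 ∨ a * i0 * a⁻¹ = i0⁻¹) →
      (a * j0 * a⁻¹ = j0 ∨ a * j0 * a⁻¹ = j0⁻¹) → a ∈ (Q : Subgroup (SL2 F)))
    (a b : SL2 F)
    (h1 : emb (a, b) * sw * (emb (a, b))⁻¹ * sw⁻¹ = 1 ∨
      emb (a, b) * sw * (emb (a, b))⁻¹ * sw⁻¹ = (zc : Sp4 F))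
    (hi : emb (a, b) * emb (i0, i0) * (emb (a, b))⁻¹ * (emb (i0, i0))⁻¹ = 1 ∨
      emb (a, b) * emb (i0, i0) * (emb (a, b))⁻¹ * (emb (i0, i0))⁻¹ = (zc : Sp4 F))
    (hj : emb (a, b) * emb (j0, j0) * (emb (a, b))⁻¹ * (emb (j0, j0))⁻¹ = 1 ∨
      emb (a, b) * emb (j0, j0) * (emb (a, b))⁻¹ * (emb (j0, j0))⁻¹ = (zc : Sp4 F)) :
    a ∈ (Q : Subgroup (SL2 F)) ∧ (b = a ∨ b = -a) := by
  refine ⟨hqn8 a (r1c_conj_of_comm hinj a b i0 Cfsg.Agent.Helper42.Sp4.i0_inv hi)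
    (r1c_conj_of_comm hinj a b j0 r1c_j0_inv hj), ?_⟩
  rw [r1c_comm_sw hsw] at h1
  rcases h1 with h | h
  · left
    have h' := hinj (h.trans (map_one emb).symm)
    have h1 : a * b⁻¹ = 1 := congrArg Prod.fst h'
    exact (mul_inv_eq_one.mp h1).symm
  · right
    have h' : (a * b⁻¹, b * a⁻¹) = ((-1 : SL2 F), (-1 : SL2 F)) := hinj h
    have h1 : a * b⁻¹ = -1 := congrArg Prod.fst h'
    rw [mul_inv_eq_iff_eq_mul, neg_one_mul] at h1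
    rw [h1, neg_neg]

theorem R1_centric [Finite F] (h2 : (2 : F) ≠ 0)
    (hctt1 : ∀ g : Sp4 F, g * tt = tt * g → ∃ X : SL2 F × SL2 F, g = emb X)
    (hctt2 : ∀ g : Sp4 F, g * tt * g⁻¹ = tt * zc → ∃ X : SL2 F × SL2 F, g = emb X * sw)
    (hR1 : ∀ g : Sp4 F, g ∈ (R1 : Subgroup (Sp4 F)) ↔ ∃ b ∈ (Q : Subgroup (SL2 F)),
      g = emb (b, b) ∨ g = emb (b, -b) ∨ g = emb (b, b) * sw ∨ g = emb (b, -b) * sw)
    (hinj : Function.Injective (emb : SL2 F × SL2 F → Sp4 F))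
    (hsw : ∀ A B : SL2 F, (sw : Sp4 F) * emb (A, B) * sw⁻¹ = emb (B, A))
    (hqn8 : ∀ a : SL2 F, (a * i0 * a⁻¹ = i0 ∨ a * i0 * a⁻¹ = i0⁻¹) →
      (a * j0 * a⁻¹ = j0 ∨ a * j0 * a⁻¹ = j0⁻¹) → a ∈ (Q : Subgroup (SL2 F)))
    (x : Sp4 F)
    (hx : ∀ r ∈ (R1 : Subgroup (Sp4 F)), x * r * x⁻¹ * r⁻¹ = 1 ∨ x * r * x⁻¹ * r⁻¹ = zc) :
    x ∈ (R1 : Subgroup (Sp4 F)) := by
  obtain ⟨a, b, s, hs, hxs⟩ : ∃ a b : SL2 F, ∃ s : Sp4 F, (s = 1 ∨ s = sw) ∧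
      x = emb (a, b) * s := by
    rcases hx tt r1c_tt_mem with h | h
    · have h' : x * tt = tt * x := by
        have h'' := mul_inv_eq_one.mp h
        rwa [mul_inv_eq_iff_eq_mul] at h''
      obtain ⟨X, hX⟩ := hctt1 x h'
      exact ⟨X.1, X.2, 1, Or.inl rfl, by rw [mul_one]; exact hX⟩
    · have h' : x * tt * x⁻¹ = tt * zc := by
        rw [mul_inv_eq_iff_eq_mul] at h
        rw [h, Cfsg.Agent.Helper58.Sp4.zc_comm]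
      obtain ⟨X, hX⟩ := hctt2 x h'
      exact ⟨X.1, X.2, sw, Or.inr rfl, hX⟩
  have hs_sw : s * sw = sw * s := by
    rcases hs with rfl | rfl
    · rw [one_mul, mul_one]
    · rfl
  have hs_diag : ∀ c : SL2 F, s * emb (c, c) = emb (c, c) * s := by
    intro c
    rcases hs with rfl | rfl
    · rw [one_mul, mul_one]
    · exact mul_inv_eq_iff_eq_mul.mp (hsw c c)
  have h1 := hx sw r1c_sw_mem
  have hi := hx _ (r1c_diag_mem r1c_i0_mem_Q)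
  have hj := hx _ (r1c_diag_mem r1c_j0_mem_Q)
  rw [hxs, r1c_comm_reduce _ _ _ hs_sw] at h1
  rw [hxs, r1c_comm_reduce _ _ _ (hs_diag _)] at hi hj
  obtain ⟨ha, hb⟩ := r1c_core hinj hsw hqn8 a b h1 hi hj
  rw [hR1]
  refine ⟨a, ha, ?_⟩
  rcases hs with rfl | rfl
  · rw [mul_one] at hxs
    rcases hb with rfl | rfl
    · exact Or.inl hxs
    · exact Or.inr (Or.inl hxs)
  · rcases hb with rfl | rfl
    · exact Or.inr (Or.inr (Or.inl hxs))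
    · exact Or.inr (Or.inr (Or.inr hxs))

end Cfsg.Agent.Helper69.Sp4
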