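import Mathlib
import Cfsg.Agent.Lib.Helper84.Sp4Defs
import Cfsg.Agent.Lib.Helper84.Sp4Basic
import Cfsg.Agent.Lib.Helper69.Sp4R1C

/-!
# PSP4F piece (R1B) for helper84's S5320 server: in case B, `SS` and `dd` normalize `R1`.
-/

set_option autoImplicit false

namespace Cfsg.Agent.Helper69.Sp4

open Matrix Cfsg.Agent.Helper84.Sp4

variable {F : Type*} [Field F]

theorem r1b_inv_sq {x : SL2 F} (h : x * x = -1) : x⁻¹ * x⁻¹ = -1 := by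
  rw [← _root_.mul_inv_rev, h, inv_neg_one]

theorem r1b_sq [Finite F]
    (hQ8 : ∀ X : SL2 F, X ∈ (Q : Subgroup (SL2 F)) ↔ X = 1 ∨ X = -1 ∨ X = i0 ∨ X = i0⁻¹ ∨
      X = j0 ∨ X = j0⁻¹ ∨ X = i0 * j0 ∨ X = (i0 * j0)⁻¹)
    {x : SL2 F} (hx : x ∈ (Q : Subgroup (SL2 F))) : x * x = 1 ∨ x * x = -1 := by
  have hk : (i0 * j0 : SL2 F) * (i0 * j0) = -1 :=
    NTor_mul_self (Tor_mul_NTor (Tor2_le_Tor i0_mem_Tor2) j0_mem)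
  rcases (hQ8 x).1 hx with rfl | rfl | rfl | rfl | rfl | rfl | rfl | rfl
  · left; rw [one_mul]
  · left; rw [neg_mul_neg, one_mul]
  · right; exact i0_mul_i0
  · right; exact r1b_inv_sq i0_mul_i0
  · right; exact j0_mul_j0
  · right; exact r1b_inv_sq j0_mul_j0
  · right; exact hk
  · right; exact r1b_inv_sq hk

theorem r1b_inv_pm {x : SL2 F} (h : x * x = 1 ∨ x * x = -1) : x⁻¹ = x ∨ x⁻¹ = -x := by
  rcases h with h | h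
  · left; exact inv_eq_of_mul_eq_one_right h
  · right
    apply inv_eq_of_mul_eq_one_right
    rw [mul_neg, h, neg_neg]

theorem r1b_conj_pm [Finite F]
    (hQ8 : ∀ X : SL2 F, X ∈ (Q : Subgroup (SL2 F)) ↔ X = 1 ∨ X = -1 ∨ X = i0 ∨ X = i0⁻¹ ∨
      X = j0 ∨ X = j0⁻¹ ∨ X = i0 * j0 ∨ X = (i0 * j0)⁻¹)
    {a c : SL2 F} (ha : a ∈ (Q : Subgroup (SL2 F))) (hc : c ∈ (Q : Subgroup (SL2 F))) :
    a * c * a⁻¹ = c ∨ a * c * a⁻¹ = -c := by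
  have key : a * c * a⁻¹ = (a * c * (a * c)) * c⁻¹ * (a * a)⁻¹ := by group
  rw [key]
  rcases r1b_sq hQ8 (Subgroup.mul_mem _ ha hc) with hd | hd <;>
  rcases r1b_sq hQ8 ha with hα | hα <;>
  rcases r1b_inv_pm (r1b_sq hQ8 hc) with hγ | hγ <;>
  rw [hd, hα, hγ] <;>
  simp

theorem r1b_neg_mem {c : SL2 F} (hc : c ∈ (Q : Subgroup (SL2 F))) :
    -c ∈ (Q : Subgroup (SL2 F)) := by
  rw [← neg_one_mul]
  exact Subgroup.mul_mem _ neg_one_mem_Q hc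

theorem r1b_mem_of
    (hR1 : ∀ g : Sp4 F, g ∈ (R1 : Subgroup (Sp4 F)) ↔ ∃ b ∈ (Q : Subgroup (SL2 F)),
      g = emb (b, b) ∨ g = emb (b, -b) ∨ g = emb (b, b) * sw ∨ g = emb (b, -b) * sw)
    {p q : SL2 F} (hp : p ∈ (Q : Subgroup (SL2 F))) (hq : q = p ∨ q = -p) :
    emb (p, q) ∈ (R1 : Subgroup (Sp4 F)) := by
  rw [hR1]
  refine ⟨p, hp, ?_⟩
  rcases hq with rfl | rfl
  · exact Or.inl rfl
  · exact Or.inr (Or.inl rfl)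

/-- every element of `R1` is `emb (p, q)` or `emb (p, q) * sw` with `p ∈ Q`, `q = ± p` -/
theorem r1b_cases
    (hR1 : ∀ g : Sp4 F, g ∈ (R1 : Subgroup (Sp4 F)) ↔ ∃ b ∈ (Q : Subgroup (SL2 F)),
      g = emb (b, b) ∨ g = emb (b, -b) ∨ g = emb (b, b) * sw ∨ g = emb (b, -b) * sw)
    {r : Sp4 F} (hr : r ∈ (R1 : Subgroup (Sp4 F))) :
    ∃ p q : SL2 F, p ∈ (Q : Subgroup (SL2 F)) ∧ (q = p ∨ q = -p) ∧
      (r = emb (p, q) ∨ r = emb (p, q) * sw) := by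
  obtain ⟨b, hb, h | h | h | h⟩ := (hR1 r).1 hr
  · exact ⟨b, b, hb, Or.inl rfl, Or.inl h⟩
  · exact ⟨b, -b, hb, Or.inr rfl, Or.inl h⟩
  · exact ⟨b, b, hb, Or.inl rfl, Or.inr h⟩
  · exact ⟨b, -b, hb, Or.inr rfl, Or.inr h⟩

theorem r1b_conj_mul {G : Type*} [Group G] (g r s : G) :
    g * (r * s) * g⁻¹ = (g * r * g⁻¹) * (g * s * g⁻¹) := by group

theorem r1b_P_mul {G : Type*} [Group G] (H : Subgroup G) {g h : G}
    (hg : ∀ r ∈ H, g * r * g⁻¹ ∈ H) (hh : ∀ r ∈ H, h * r * h⁻¹ ∈ H) :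
    ∀ r ∈ H, (g * h) * r * (g * h)⁻¹ ∈ H := by
  intro r hr
  have : (g * h) * r * (g * h)⁻¹ = g * (h * r * h⁻¹) * g⁻¹ := by group
  rw [this]
  exact hg _ (hh _ hr)

theorem r1b_mem_normalizer {G : Type*} [Group G] (H : Subgroup G) {g : G}
    (hg : ∀ r ∈ H, g * r * g⁻¹ ∈ H) (hg' : ∀ r ∈ H, g⁻¹ * r * g⁻¹⁻¹ ∈ H) :
    g ∈ Subgroup.normalizer ((H : Subgroup G) : Set G) := by
  rw [Subgroup.mem_normalizer_iff]
  intro h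
  refine ⟨hg h, fun hh => ?_⟩
  have := hg' _ hh
  have e : g⁻¹ * (g * h * g⁻¹) * g⁻¹⁻¹ = h := by group
  rwa [e] at this

theorem r1b_emb_conj (a b c q : SL2 F) :
    (emb (a, b) : Sp4 F) * emb (c, q) * (emb (a, b))⁻¹ = emb (a * c * a⁻¹, b * q * b⁻¹) := by
  rw [← map_inv, ← map_mul, ← map_mul]; rfl

theorem r1b_emb_conj_sw (hsw : ∀ A B : SL2 F, (sw : Sp4 F) * emb (A, B) * sw⁻¹ = emb (B, A))
    (a b : SL2 F) :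
    (emb (a, b) : Sp4 F) * sw * (emb (a, b))⁻¹ = emb (a * b⁻¹, b * a⁻¹) * sw := by
  rw [← r1c_comm_sw hsw a b, inv_mul_cancel_right]

/-- `sw` maps `R1` into `R1` -/
theorem r1b_P_sw
    (hR1 : ∀ g : Sp4 F, g ∈ (R1 : Subgroup (Sp4 F)) ↔ ∃ b ∈ (Q : Subgroup (SL2 F)),
      g = emb (b, b) ∨ g = emb (b, -b) ∨ g = emb (b, b) * sw ∨ g = emb (b, -b) * sw)
    (hsw : ∀ A B : SL2 F, (sw : Sp4 F) * emb (A, B) * sw⁻¹ = emb (B, A)) :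
    ∀ r ∈ (R1 : Subgroup (Sp4 F)), (sw : Sp4 F) * r * sw⁻¹ ∈ (R1 : Subgroup (Sp4 F)) := by
  intro r hr
  obtain ⟨p, q, hp, hq, hrr⟩ := r1b_cases hR1 hr
  have h1 : (sw : Sp4 F) * emb (p, q) * sw⁻¹ ∈ (R1 : Subgroup (Sp4 F)) := by
    rw [hsw]
    rcases hq with rfl | rfl
    · exact r1b_mem_of hR1 hp (Or.inl rfl)
    · exact r1b_mem_of hR1 (r1b_neg_mem hp) (Or.inr (neg_neg p).symm)
  rcases hrr with rfl | rfl
  · exact h1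
  · rw [r1b_conj_mul]
    refine Subgroup.mul_mem _ h1 ?_
    rw [mul_inv_cancel_right]
    exact r1c_sw_mem

/-- `emb (a, b)` with `a, b ∈ Q = Q₈` maps `R1` into `R1` -/
theorem r1b_P_emb [Finite F]
    (hQ8 : ∀ X : SL2 F, X ∈ (Q : Subgroup (SL2 F)) ↔ X = 1 ∨ X = -1 ∨ X = i0 ∨ X = i0⁻¹ ∨
      X = j0 ∨ X = j0⁻¹ ∨ X = i0 * j0 ∨ X = (i0 * j0)⁻¹)
    (hR1 : ∀ g : Sp4 F, g ∈ (R1 : Subgroup (Sp4 F)) ↔ ∃ b ∈ (Q : Subgroup (SL2 F)),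
      g = emb (b, b) ∨ g = emb (b, -b) ∨ g = emb (b, b) * sw ∨ g = emb (b, -b) * sw)
    (hsw : ∀ A B : SL2 F, (sw : Sp4 F) * emb (A, B) * sw⁻¹ = emb (B, A))
    {a b : SL2 F} (ha : a ∈ (Q : Subgroup (SL2 F))) (hb : b ∈ (Q : Subgroup (SL2 F))) :
    ∀ r ∈ (R1 : Subgroup (Sp4 F)),
      (emb (a, b) : Sp4 F) * r * (emb (a, b))⁻¹ ∈ (R1 : Subgroup (Sp4 F)) := by
  intro r hr
  obtain ⟨p, q, hp, hq, hrr⟩ := r1b_cases hR1 hr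
  have h1 : (emb (a, b) : Sp4 F) * emb (p, q) * (emb (a, b))⁻¹ ∈ (R1 : Subgroup (Sp4 F)) := by
    rw [r1b_emb_conj]
    refine r1b_mem_of hR1 (Subgroup.mul_mem _ (Subgroup.mul_mem _ ha hp) (Subgroup.inv_mem _ ha)) ?_
    rcases r1b_conj_pm hQ8 ha hp with h | h <;>
    rcases r1b_conj_pm hQ8 hb hp with h' | h' <;>
    rcases hq with rfl | rfl <;>
    simp [h, h', mul_neg, neg_mul]
  have h2 : (emb (a, b) : Sp4 F) * sw * (emb (a, b))⁻¹ ∈ (R1 : Subgroup (Sp4 F)) := by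
    rw [r1b_emb_conj_sw hsw]
    refine Subgroup.mul_mem _ ?_ r1c_sw_mem
    have hpQ : a * b⁻¹ ∈ (Q : Subgroup (SL2 F)) := Subgroup.mul_mem _ ha (Subgroup.inv_mem _ hb)
    refine r1b_mem_of hR1 hpQ ?_
    have e : b * a⁻¹ = (a * b⁻¹)⁻¹ := by group
    rw [e]
    exact r1b_inv_pm (r1b_sq hQ8 hpQ)
  rcases hrr with rfl | rfl
  · exact h1
  · rw [r1b_conj_mul]
    exact Subgroup.mul_mem _ h1 h2

/-- `emb (A, A)` with `A ∈ N(Q)` maps `R1` into `R1` -/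
theorem r1b_P_diag
    (hR1 : ∀ g : Sp4 F, g ∈ (R1 : Subgroup (Sp4 F)) ↔ ∃ b ∈ (Q : Subgroup (SL2 F)),
      g = emb (b, b) ∨ g = emb (b, -b) ∨ g = emb (b, b) * sw ∨ g = emb (b, -b) * sw)
    (hsw : ∀ A B : SL2 F, (sw : Sp4 F) * emb (A, B) * sw⁻¹ = emb (B, A))
    {A : SL2 F} (hA : A ∈ Subgroup.normalizer ((Q : Subgroup (SL2 F)) : Set (SL2 F))) :
    ∀ r ∈ (R1 : Subgroup (Sp4 F)),
      (emb (A, A) : Sp4 F) * r * (emb (A, A))⁻¹ ∈ (R1 : Subgroup (Sp4 F)) := by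
  intro r hr
  obtain ⟨p, q, hp, hq, hrr⟩ := r1b_cases hR1 hr
  have h1 : (emb (A, A) : Sp4 F) * emb (p, q) * (emb (A, A))⁻¹ ∈ (R1 : Subgroup (Sp4 F)) := by
    rw [r1b_emb_conj]
    refine r1b_mem_of hR1 ((Subgroup.mem_normalizer_iff.mp hA p).mp hp) ?_
    rcases hq with rfl | rfl
    · exact Or.inl rfl
    · right; rw [mul_neg, neg_mul]
  have h2 : (emb (A, A) : Sp4 F) * sw * (emb (A, A))⁻¹ ∈ (R1 : Subgroup (Sp4 F)) := by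
    rw [r1b_emb_conj_sw hsw, mul_inv_cancel, Prod.mk_one_one, map_one, one_mul]
    exact r1c_sw_mem
  rcases hrr with rfl | rfl
  · exact h1
  · rw [r1b_conj_mul]
    exact Subgroup.mul_mem _ h1 h2

theorem normalizer_R1_caseB [Finite F] (h2 : (2 : F) ≠ 0)
    (hQ8 : ∀ X : SL2 F, X ∈ (Q : Subgroup (SL2 F)) ↔ X = 1 ∨ X = -1 ∨ X = i0 ∨ X = i0⁻¹ ∨
      X = j0 ∨ X = j0⁻¹ ∨ X = i0 * j0 ∨ X = (i0 * j0)⁻¹)
    (hR1 : ∀ g : Sp4 F, g ∈ (R1 : Subgroup (Sp4 F)) ↔ ∃ b ∈ (Q : Subgroup (SL2 F)),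
      g = emb (b, b) ∨ g = emb (b, -b) ∨ g = emb (b, b) * sw ∨ g = emb (b, -b) * sw)
    (hSS : ∀ g : Sp4 F, g ∈ (SS : Subgroup (Sp4 F)) ↔ ∃ a ∈ (Q : Subgroup (SL2 F)),
      ∃ b ∈ (Q : Subgroup (SL2 F)), g = emb (a, b) ∨ g = emb (a, b) * sw)
    (hsw : ∀ A B : SL2 F, (sw : Sp4 F) * emb (A, B) * sw⁻¹ = emb (B, A))
    (homN : (om : SL2 F) ∈ Subgroup.normalizer ((Q : Subgroup (SL2 F)) : Set (SL2 F))) :
    (R1 : Subgroup (Sp4 F)) ≤ SS ∧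
    (SS : Subgroup (Sp4 F)) ≤ Subgroup.normalizer ((R1 : Subgroup (Sp4 F)) : Set (Sp4 F)) ∧
    (dd : Sp4 F) ∈ Subgroup.normalizer ((R1 : Subgroup (Sp4 F)) : Set (Sp4 F)) := by
  have hP : ∀ g ∈ (SS : Subgroup (Sp4 F)), ∀ r ∈ (R1 : Subgroup (Sp4 F)),
      g * r * g⁻¹ ∈ (R1 : Subgroup (Sp4 F)) := by
    intro g hg
    obtain ⟨a, ha, b, hb, rfl | rfl⟩ := (hSS g).1 hg
    · exact r1b_P_emb hQ8 hR1 hsw ha hb
    · exact r1b_P_mul _ (r1b_P_emb hQ8 hR1 hsw ha hb) (r1b_P_sw hR1 hsw)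
  refine ⟨?_, ?_, ?_⟩
  · intro r hr
    obtain ⟨p, q, hp, hq, hrr⟩ := r1b_cases hR1 hr
    have hqQ : q ∈ (Q : Subgroup (SL2 F)) := by
      rcases hq with rfl | rfl
      · exact hp
      · exact r1b_neg_mem hp
    rw [hSS]
    exact ⟨p, hp, q, hqQ, hrr⟩
  · intro g hg
    exact r1b_mem_normalizer _ (hP g hg) (hP g⁻¹ (Subgroup.inv_mem _ hg))
  · refine r1b_mem_normalizer _ (r1b_P_diag hR1 hsw homN) ?_
    have e : (dd : Sp4 F)⁻¹ = emb ((om : SL2 F)⁻¹, (om : SL2 F)⁻¹) := by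
      show (emb (om, om) : Sp4 F)⁻¹ = _
      rw [← map_inv]; rfl
    rw [e]
    exact r1b_P_diag hR1 hsw (Subgroup.inv_mem _ homN)

end Cfsg.Agent.Helper69.Sp4
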